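import Cfsg.Agent.H7.Mult3
import Cfsg.Agent.H7.AfT
import Cfsg.Agent.H7.Li.Sm

set_option autoImplicit false
set_option maxRecDepth 100000

universe u

open scoped Pointwise

namespace CfsgH7.S5dT

noncomputable def e0 : Tr := (Tr.node (Tr.node (Tr.leaf (nat_lit 0x39441510e087f8031029108618ff80387084017209f8008410701620af80015014108084f8028608318c013f8008310628d012f8001101008318bf8018c40d00f082f8018920a08200ef80081282205285f8000d00c00b081f8000a009081008f80305080007006f80080005004003f80002001100080f80)) (Tr.leaf (nat_lit 0x72d0ac8af82ff800ac72d72e6aef807ae7af62b0a7f8002f02e62a0a6f804210a02226adf800a01211236acf8021f09c8297a9f8009c41f7286a8f8039b09902d49df8009911b02c39ef8039a0986a5625f8009811a5a4524f8041709659e1aaf8009611759d2abf801aa4ab095499f8002b02a09439bf80)))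 (Tr.leaf (nat_lit 0x4a82a9093296f80313092426523f80092113527622f80029028092297f801a6427420091f801a4425091314f80027026521090f80025024090415f801a24a331c08df8002302231f08cf8038f08b498021f8008b30f39a020f8019d39e08a01ff8001e01d08901cf8020e08801b01af8008828e019018f80)))

noncomputable def j0 : Tr := (Tr.node (Tr.node (Tr.leaf (nat_lit 0x30040070050001bc00300400200500017400e00400000d0001200030080000050001140000000070050001080030040090000000e40030060020000000d80000000020050000c000300400000500009000300a00200000008400300c00b005000060000000000005000054000000002000000048003004000000000030003000000000000024000000002001000000)) (Tr.leaf (nat_lit 0xf00400200d000a80003006002012000a7400300400700500093c00000000700500090000f0040150050007b00030060140050007a400f00400200d0006c00030060020120006b400e00400000d00060c00300800001200060000f00400200d0005d00030060020120005c400e00400200500055800300801300500054c0030040020110004f80000000020110004bc)))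 (Tr.leaf (nat_lit 0x300400201100048000f00400201000046800300600200500045c0000000020110004440030040020050004140030040020100004080000000020050003d80000000020100003cc0030040020050003240000000020050002e800f0040020000002c40030060020000002b800300400200000026400000000200000022800f004000000000210003006000000000204)))

noncomputable def R : RTr := (RTr.node (RTr.node (RTr.node (RTr.node (RTr.node (RTr.leaf ⟨true,12,[],[],0,0,false⟩) (RTr.leaf ⟨false,12,[12,12,12,12],[],2,3,false⟩)) (RTr.leaf ⟨false,24,[36,12,36,24,36,12,48],[],4,6,false⟩)) (RTr.node (RTr.node (RTr.leaf ⟨false,12,[24],[],0,0,false⟩) (RTr.leaf ⟨false,24,[48,48,12,48,48],[],3,5,true⟩)) (RTr.leaf ⟨false,12,[48,48,24,48,48],[],3,2,true⟩))) (RTr.node (RTr.node (RTr.node (RTr.leaf ⟨false,48,[36],[],1,1,false⟩)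 (RTr.leaf ⟨false,24,[36,36,12,36,36],[],3,3,false⟩)) (RTr.leaf ⟨false,24,[48,12,48,24,48,12,36],[],4,7,true⟩)) (RTr.node (RTr.leaf ⟨false,24,[24,24,24,24],[],2,3,true⟩) (RTr.leaf ⟨false,48,[24,48,48,12,48],[],3,0,true⟩)))) (RTr.node (RTr.node (RTr.node (RTr.node (RTr.leaf ⟨false,24,[12],[],0,1,false⟩) (RTr.leaf ⟨false,12,[48,24,36,12,36,24,36],[],4,0,false⟩)) (RTr.leaf ⟨false,36,[24,48,12,48,24,48,12],[],4,0,true⟩)) (RTr.node (RTr.leaf ⟨false,36,[24,36,36,12,36],[],3,4,false⟩) (RTr.leaf ⟨false,48,[12,48,48,24,48],[],3,3,true⟩))) (RTr.node (RTr.node (RTr.node (RTr.leaf ⟨false,36,[48],[],1,0,false⟩) (RTr.leaf ⟨false,24,[36,12,48,24,36,12,36],[],4,2,false⟩)) (RTr.leaf ⟨false,36,[36,12,36,36,24],[],3,2,false⟩)) (RTr.node (RTr.leaf ⟨false,36,[12,36,36,24,36],[],3,1,false⟩)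 (RTr.leaf ⟨false,12,[48,12,12,36,12,12,36,12,12,36,12],[],5,0,false⟩)))))

noncomputable def D : TCD where
  N := nat_lit 48
  E := e0
  lb := nat_lit 4
  lm := nat_lit 15
  rw := nat_lit 60
  em := nat_lit 4095
  vm := nat_lit 127
  fl := nat_lit 64
  wv := nat_lit 7
  inf := nat_lit 3968
  J := j0
  jw := nat_lit 12
  jm := nat_lit 4095
  jr := nat_lit 72
  pk := nat_lit 60
  nr := nat_lit 21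
  R := R
  cols := [(nat_lit 12,nat_lit 24),(nat_lit 24,nat_lit 36),(nat_lit 36,nat_lit 48),(nat_lit 48,nat_lit 60)]
  j0 := nat_lit 12
  big := nat_lit 1000000000

def cl : List (Nat × Nat) := [(12,0),(24,1),(36,2),(48,3)]
def invs : List Nat := []
def rels : List (List Nat) := [[0,1],[2,3],[0,0,0,0,0],[0,2,2,1,2,2],[0,2,1,2,0,2,1,3],[0,0,2,0,0,2,0,0,2,0,0,3]]
def subs : List (List Nat) := [[0]]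
def W0 : List (List Nat) := [[0],[2]]

theorem c0 : Nat.beq (nsum2 D.val 0 1 64) 48 = true := by decide +kernel

theorem pre : tcPre D cl invs rels subs W0 64 48 = true := by decide +kernel

theorem u0 : Upto D.val 0 0 := Upto.zero _
theorem u1 : Upto D.val 64 48 := u0.step c0 (by decide) (by decide)

theorem relIndex {G : Type*} [Group G] (g : Nat → G) (K : Subgroup G) (hinv : ∀ k ∈ invs, g k * g k = 1)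
    (hrel : ∀ r ∈ rels, wprod g r = 1) (hsub : ∀ h ∈ subs, wprod g h ∈ K) :
    K.relIndex (genW g W0) ≠ 0 ∧ K.relIndex (genW g W0) ≤ 48 :=
  tc_relIndex g K D cl invs rels subs W0 _ _ hinv hrel hsub pre u1

end CfsgH7.S5dT

namespace CfsgH7.S5d

def R : List (List Nat) := [[0,0,0,0,0],[0,2,2,1,2,2],[0,2,1,2,0,2,1,3],[0,0,2,0,0,2,0,0,2,0,0,3]]
def S : List (List Nat) := [[0]]
theorem p2 : P2.{u} 2 R S 48 := fun _ _ g K hs hS =>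
  have hf := hs.follows (invs := S5dT.invs) (rels := S5dT.rels) (by decide +kernel)
  S5dT.relIndex g K hf.1 hf.2 hS
noncomputable def Rf : List (List Nat) := R ++ (C5.Rf).map (substW S)
theorem pr : Pr.{u} 2 Rf 240 := Pr.step (S := S) p2 C5.pr

end CfsgH7.S5d

namespace CfsgH7.S5d

noncomputable def n0 : Net := (Net.cons (nat_lit 24) (nat_lit 0x62b52a) (Net.cons (nat_lit 12) (nat_lit 0xef60007ea) (Net.cons (nat_lit 6) (nat_lit 0x1b01801d020) (Net.cons (nat_lit 3) (nat_lit 0x42101181100) (Net.cons (nat_lit 1) (nat_lit 0x8000008200) (Net.cons (nat_lit 1) (nat_lit 0x90402010490) (Net.cons (nat_lit 1) (nat_lit 0x208208049200) (Net.cons (nat_lit 3) (nat_lit 0x84184080000) (Net.cons (nat_lit 6) (nat_lit 0x3c01a008028) (Net.cons (nat_lit 12) (nat_lit 0x8c00002ca)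 (Net.cons (nat_lit 24) (nat_lit 0x7aae6a) Net.nil)))))))))))

noncomputable def n1 : Net := (Net.cons (nat_lit 24) (nat_lit 0xb97377) (Net.cons (nat_lit 12) (nat_lit 0xff0002fa) (Net.cons (nat_lit 6) (nat_lit 0x1b00000f014) (Net.cons (nat_lit 3) (nat_lit 0xc6144007147) (Net.cons (nat_lit 1) (nat_lit 0x200240049) (Net.cons (nat_lit 1) (nat_lit 0x400490490092) (Net.cons (nat_lit 1) (nat_lit 0x241208040048) (Net.cons (nat_lit 3) (nat_lit 0x80084100) (Net.cons (nat_lit 6) (nat_lit 0x8006038030) (Net.cons (nat_lit 12) (nat_lit 0x762000142) (Net.cons (nat_lit 24) (nat_lit 0xb31844) Net.nil)))))))))))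

noncomputable def l : List Net := [n0, n1]

theorem R0 : Rep (finPt 48) 48 (finGen 48 l) l := finRep 48 l (by decide +kernel) (by decide +kernel)

theorem tr0 : trivJ l 48 6 Rf 0 = true := by decide +kernel
theorem tr1 : trivJ l 48 6 Rf 1 = true := by decide +kernel
theorem tr2 : trivJ l 48 6 Rf 2 = true := by decide +kernel
theorem tr3 : trivJ l 48 6 Rf 3 = true := by decide +kernel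
theorem tr4 : trivJ l 48 6 Rf 4 = true := by decide +kernel
theorem tr5 : trivJ l 48 6 Rf 5 = true := by decide +kernel
theorem sat0 : Sat (finGen 48 l) Rf := finRep_sat R0 (m := 6) (by norm_num) (by
    intro j hj
    interval_cases j
    · exact tr0
    · exact tr1
    · exact tr2
    · exact tr3
    · exact tr4
    · exact tr5)

abbrev G0 : Type := PG 48 l
noncomputable abbrev g0 : Nat → G0 := pgen 48 l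
def bs : List Nat := [0,1]
theorem M0 : Md (finPt 48) 48 g0 l 2 240 bs :=
  Md.fin' R0 pr sat0 [⟨1, [[0],[2]], [0,1,0,1,0,1,0,1,1,1], 48⟩,
  ⟨0, [[1,2,0,0,2]], [0,0,0,0], 5⟩] 6 bs (by decide +kernel)
theorem sb0 : lall (fun w => fixesP l w bs) Rf = true := by decide +kernel
theorem mdl0 : Mdl G0 2 Rf 240 := M0.mdl sb0
theorem iso {G : Type u} [Group G] (h : Mdl G 2 Rf 240) : Nonempty (G0 ≃* G) := Mdl.iso pr mdl0 h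

end CfsgH7.S5d

namespace CfsgH7.S5d.Sp

open CfsgH7.S5d

def SL : List Nat := [8,10,12]
def c3C : List Lvl := [⟨11, [[0],[2]], [0,1,0,1,0,1,0,1,0,0,1], 48⟩,
  ⟨7, [[2,0,3]], [0,0,0,0], 5⟩]
def c3M : List (List Nat) := [[0x6100082],
  []]
def c3Z : List Nat := [0xffffffffffff]
theorem c3L : LvOk G0 (finPt 48) 48 [] (mkLV c3C c3M) := M0.lvOk c3C 6 c3M (by decide +kernel) (by decide +kernel)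
noncomputable def c3T : Bt := (.br 0 [[0]] [0,0] (Bt.deads [[0,0,0,0,2,0,2,0,0],
 [1,0,0,0,3,0,2,0],
 [32,0,0,0,1,2,1],
 [4,0,0,0,1],
 [6,0,0,0,3,1],
 [42,0,0,0,2],
 [41,0,0,0,1,3,1],
 [18,0,0,0,3],
 [25,0,0,0,2,2,1],
 [40,0,0,0,2,1],
 [37,0,0,0,3,0,2,0,0],
 [35,0,0,0,1,1]] (Bt.ofL [(11, [], (.step 0 0 [] (.leaf 0))),
 (26, [0], (.step 0 0 [2,0,0,3] (.leaf 1))),
 (44, [3,0], (.step 0 0 [2,1,1,3] (.leaf 2))),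
 (15, [2,0], (.step 0 0 [2,1,1,3] (.leaf 3)))])))
def c3U : List (List Nat) := [[],[0,2,0,0,3],[3,0,2,1,1,3],[2,0,2,1,1,3]]
theorem c3 : Ck SL (wprod g0 [0,3,0,3,3,0,2]) :=
  M0.ck c3L _ _ 3 [[0],[0,0],[1]] c3U 0 6 c3Z c3T (by decide +kernel) (by decide +kernel) (by decide +kernel)
theorem k3 : Pk G0 SL 3 := have := M0.fin; pk_cyc (by norm_num) (by rw [M0.card]; norm_num) (M0.ordN _ (by decide +kernel)) c3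
def c5C : List Lvl := [⟨37, [[2],[0]], [0,0,0,1,0,1,0,1,0,1,1,0], 48⟩,
  ⟨41, [[0]], [0,0,0,0], 5⟩]
def c5M : List (List Nat) := [[0xa0010008040],
  [0x40]]
def c5Z : List Nat := [0xffffffffffff]
theorem c5L : LvOk G0 (finPt 48) 48 [] (mkLV c5C c5M) := M0.lvOk c5C 6 c5M (by decide +kernel) (by decide +kernel)
noncomputable def c5T : Bt := (.br 0 [] [] (Bt.ofL [(37, [], (.br 0 [[0]] [0,0,0,0] (Bt.ofL [(41, [], (.leaf 0))]))),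
 (0, [2,2], (.br 0 [[0]] [0,0,0,0] (Bt.ofL [(32, [], (.leaf 1))]))),
 (2, [2,0,2,0,0,2], (.br 0 [[0]] [0,0,0,0] (Bt.deads [[29,0,0,0]] .nil))),
 (7, [3,1,2,1,2,0,0,2], (.br 0 [[0]] [0,0,0,0] (Bt.deads [[36,0,0,0]] .nil))),
 (18, [3,0,0,2,0,2], (.br 0 [[0]] [0,0,0,0] (Bt.deads [[17,0,0,0]] .nil))),
 (27, [2,1,2,1,2,0,0,2], (.br 0 [[0]] [0,0,0,0] (Bt.deads [[21,0,0,0]] .nil))),
 (42, [2,0,0,2,0,2], (.br 0 [[0]] [0,0,0,0] (Bt.deads [[31,0,0,0]] .nil))),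
 (47, [3,0,2,0,0,2], (.br 0 [[0]] [0,0,0,0] (Bt.deads [[19,0,0,0]] .nil)))]))
def c5U : List (List Nat) := [[],[2,2]]
theorem c5 : Ck SL (wprod g0 [1]) :=
  M0.ck c5L _ _ 5 [[0],[0,0],[0,0,0],[0,0,0,0],[1]] c5U 1 6 c5Z c5T (by decide +kernel) (by decide +kernel) (by decide +kernel)
theorem k5 : Pk G0 SL 5 := have := M0.fin; pk_cyc (by norm_num) (by rw [M0.card]; norm_num) (M0.ordN _ (by decide +kernel)) c5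
def s2S : List (List Nat) := [[2,0,2,0,0,3],[1,2,1,2,1,2],[2,0,2,0,0,0,2,0,0,3],[2,2]]
theorem s2P : Pc (fun j => wprod g0 (wordAt s2S j)) 2 s2S.length :=
  M0.pc [[4],[6],[6],[]] [[], [[2,4,6]], [[4],[4,6]], [[6],[6],[6]]] (by decide +kernel) (M0.ge s2S [⟨0, [[0],[2]], [0,1,0,1,1,0], 16⟩] 6 (by decide +kernel))
theorem kl : ∀ x : G0, Kl SL x := have := M0.fin; kl_all (q := 2) (a := 4) (e := 1) M0.card [3,5] (by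
    simp only [List.forall_mem_cons]; exact ⟨⟨by norm_num, k3⟩, ⟨by norm_num, k5⟩, by simp⟩)
  (M0.ex s2P (by norm_num) (by decide) (q := 8) (by decide) (.cons (.cons (.cons (.cons .pw (.cons .pw .nil)) (.cons (.cons .pw (.cons .pw .nil)) .nil)) (.cons (.cons (.cons .pw (.cons .pw .nil)) (.cons (.cons .pw (.cons .pw .nil)) .nil)) .nil)) (.cons (.cons (.cons (.cons .pw (.cons .pw .nil)) (.cons (.cons .pw (.cons .pw .nil)) .nil)) (.cons (.cons (.cons .pw (.cons .pw .nil)) (.cons (.cons .pw (.cons .pw .nil)) .nil)) .nil)) .nil)) (by decide +kernel)) (by norm_num)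
theorem spec0 : Set.range (orderOf : G0 → ℕ) = {n | ∃ m ∈ SL, n ∣ m} := M0.spec kl [[0,0,3,0,2,2],[1,2,2,1],[0,3,1,1,2,2]] (by decide +kernel)
def iS : List (List Nat) := [[0,2,0,2,0,0,3],[3,0,2,1,3],[2,0,0,2,1,2,1,3],[2,2]]
theorem iP : Pc (fun j => wprod g0 (wordAt iS j)) 2 iS.length :=
  M0.pc [[4],[6],[6],[]] [[], [[2,4,6]], [[4],[4,6]], [[6],[6],[6]]] (by decide +kernel) (M0.ge iS [⟨0, [[0],[2]], [0,1,0,1,1,0], 16⟩] 6 (by decide +kernel))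
def iR : List (List Nat) := [[2,2]]
noncomputable def iT : Ct := (.cons (.cons (.cons (.cons .pw (.cons (.rep [] 0) .nil)) (.cons (.one [[2]] [[]] (.kill 3 1 [])) .nil)) (.cons (.one [[0]] [[]] (.one [[4]] [[]] (.kill 3 1 []))) .nil)) (.cons (.cons (.one [[2]] [[6]] (.kill 2 1 [])) (.cons (.one [[2]] [[]] (.one [[4]] [[]] (.kill 3 1 []))) .nil)) .nil))
theorem iK (y : G0) (hy : y ^ 2 = 1) (h1 : y ≠ 1) : ∃ r ∈ iR, IsConj y (wprod g0 r) :=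
  M0.cl1 iP (by norm_num) (by decide) _ iT (by decide +kernel) y hy h1
def M3 : List (List (List Nat)) := [[[1,0,0,0,0,0,0,0,0,0,0,0,0,0,0,0,0,0,0,0,0,0,0,0],[0,0,0,0,0,0,0,0,0,0,0,0,0,0,0,0,0,0,0,0,0,0,0,1],[0,0,1,0,0,0,0,0,0,0,0,0,0,0,0,0,0,0,0,0,0,0,0,0],[0,1,0,0,0,0,0,0,0,0,0,0,0,0,0,0,0,0,0,0,0,0,0,0],[0,0,0,0,0,0,0,0,0,0,0,2,0,0,0,0,0,0,0,0,0,0,0,0],[0,0,0,0,0,0,0,0,0,0,0,0,0,0,0,0,0,0,1,0,0,0,0,0],[0,0,0,0,0,0,0,0,0,0,0,0,0,0,0,0,0,0,0,0,0,0,2,0],[0,0,0,0,0,0,0,1,0,0,0,0,0,0,0,0,0,0,0,0,0,0,0,0],[0,0,0,1,0,0,0,0,0,0,0,0,0,0,0,0,0,0,0,0,0,0,0,0],[0,0,0,0,2,0,0,0,0,0,0,0,0,0,0,0,0,0,0,0,0,0,0,0],[0,0,0,0,0,0,0,0,0,0,0,0,1,0,0,0,0,0,0,0,0,0,0,0],[0,0,0,0,0,0,0,0,0,0,0,0,0,0,0,2,0,0,0,0,0,0,0,0],[0,0,0,0,0,1,0,0,0,0,0,0,0,0,0,0,0,0,0,0,0,0,0,0],[0,0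,0,0,0,0,0,0,0,0,0,0,0,0,0,0,0,0,0,0,1,0,0,0],[0,0,0,0,0,0,1,0,0,0,0,0,0,0,0,0,0,0,0,0,0,0,0,0],[0,0,0,0,0,0,0,0,0,0,0,0,0,0,0,0,0,0,0,2,0,0,0,0],[0,0,0,0,0,0,0,0,0,0,0,0,0,0,0,0,1,0,0,0,0,0,0,0],[0,0,0,0,0,0,0,0,1,0,0,0,0,0,0,0,0,0,0,0,0,0,0,0],[0,0,0,0,0,0,0,0,0,0,0,0,0,0,0,0,0,0,0,0,0,1,0,0],[0,0,0,0,0,0,0,0,0,1,0,0,0,0,0,0,0,0,0,0,0,0,0,0],[0,0,0,0,0,0,0,0,0,0,0,0,0,0,2,0,0,0,0,0,0,0,0,0],[0,0,0,0,0,0,0,0,0,0,1,0,0,0,0,0,0,0,0,0,0,0,0,0],[0,0,0,0,0,0,0,0,0,0,0,0,0,1,0,0,0,0,0,0,0,0,0,0],[0,0,0,0,0,0,0,0,0,0,0,0,0,0,0,0,0,1,0,0,0,0,0,0]],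
  [[1,0,0,0,0,0,0,0,0,0,0,0,0,0,0,0,0,0,0,0,0,0,0,0],[0,0,0,1,0,0,0,0,0,0,0,0,0,0,0,0,0,0,0,0,0,0,0,0],[0,0,1,0,0,0,0,0,0,0,0,0,0,0,0,0,0,0,0,0,0,0,0,0],[0,0,0,0,0,0,0,0,1,0,0,0,0,0,0,0,0,0,0,0,0,0,0,0],[0,0,0,0,0,0,0,0,0,2,0,0,0,0,0,0,0,0,0,0,0,0,0,0],[0,0,0,0,0,0,0,0,0,0,0,0,1,0,0,0,0,0,0,0,0,0,0,0],[0,0,0,0,0,0,0,0,0,0,0,0,0,0,1,0,0,0,0,0,0,0,0,0],[0,0,0,0,0,0,0,1,0,0,0,0,0,0,0,0,0,0,0,0,0,0,0,0],[0,0,0,0,0,0,0,0,0,0,0,0,0,0,0,0,0,1,0,0,0,0,0,0],[0,0,0,0,0,0,0,0,0,0,0,0,0,0,0,0,0,0,0,1,0,0,0,0],[0,0,0,0,0,0,0,0,0,0,0,0,0,0,0,0,0,0,0,0,0,1,0,0],[0,0,0,0,2,0,0,0,0,0,0,0,0,0,0,0,0,0,0,0,0,0,0,0],[0,0,0,0,0,0,0,0,0,0,1,0,0,0,0,0,0,0,0,0,0,0,0,0],[0,0,0,0,0,0,0,0,0,0,0,0,0,0,0,0,0,0,0,0,0,0,1,0],[0,0,0,0,0,0,0,0,0,0,0,0,0,0,0,0,0,0,0,0,2,0,0,0],[0,0,0,0,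0,0,0,0,0,0,0,2,0,0,0,0,0,0,0,0,0,0,0,0],[0,0,0,0,0,0,0,0,0,0,0,0,0,0,0,0,1,0,0,0,0,0,0,0],[0,0,0,0,0,0,0,0,0,0,0,0,0,0,0,0,0,0,0,0,0,0,0,1],[0,0,0,0,0,1,0,0,0,0,0,0,0,0,0,0,0,0,0,0,0,0,0,0],[0,0,0,0,0,0,0,0,0,0,0,0,0,0,0,2,0,0,0,0,0,0,0,0],[0,0,0,0,0,0,0,0,0,0,0,0,0,1,0,0,0,0,0,0,0,0,0,0],[0,0,0,0,0,0,0,0,0,0,0,0,0,0,0,0,0,0,1,0,0,0,0,0],[0,0,0,0,0,0,2,0,0,0,0,0,0,0,0,0,0,0,0,0,0,0,0,0],[0,1,0,0,0,0,0,0,0,0,0,0,0,0,0,0,0,0,0,0,0,0,0,0]],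
  [[0,0,0,0,0,0,0,0,0,0,2,0,0,0,0,0,0,0,0,0,0,0,0,0],[0,0,0,0,0,0,0,0,0,0,0,0,0,0,0,0,0,0,0,0,1,0,0,0],[0,0,0,0,0,0,0,0,0,0,0,0,0,0,0,0,0,2,0,0,0,0,0,0],[0,0,0,0,0,0,0,0,0,0,0,0,0,0,0,0,0,0,0,0,0,0,2,0],[0,0,0,0,0,0,1,0,0,0,0,0,0,0,0,0,0,0,0,0,0,0,0,0],[0,0,0,0,0,0,0,0,0,0,0,0,0,0,0,0,0,0,0,0,0,0,0,1],[0,0,0,0,2,0,0,0,0,0,0,0,0,0,0,0,0,0,0,0,0,0,0,0],[0,0,0,0,0,0,0,0,0,0,0,0,0,1,0,0,0,0,0,0,0,0,0,0],[0,0,0,0,0,0,0,0,0,0,0,0,0,0,0,0,0,0,1,0,0,0,0,0],[0,0,0,0,0,0,0,0,0,0,0,0,0,0,0,0,2,0,0,0,0,0,0,0],[1,0,0,0,0,0,0,0,0,0,0,0,0,0,0,0,0,0,0,0,0,0,0,0],[0,0,0,0,0,0,0,0,0,0,0,0,0,0,0,0,0,0,0,0,0,1,0,0],[0,0,0,0,0,0,0,0,0,0,0,0,0,0,0,2,0,0,0,0,0,0,0,0],[0,0,0,0,0,0,0,2,0,0,0,0,0,0,0,0,0,0,0,0,0,0,0,0],[0,0,0,0,0,0,0,0,0,0,0,0,0,0,0,0,0,0,0,2,0,0,0,0],[0,0,0,0,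0,0,0,0,0,0,0,0,1,0,0,0,0,0,0,0,0,0,0,0],[0,0,0,0,0,0,0,0,0,1,0,0,0,0,0,0,0,0,0,0,0,0,0,0],[0,0,1,0,0,0,0,0,0,0,0,0,0,0,0,0,0,0,0,0,0,0,0,0],[0,0,0,0,0,0,0,0,2,0,0,0,0,0,0,0,0,0,0,0,0,0,0,0],[0,0,0,0,0,0,0,0,0,0,0,0,0,0,1,0,0,0,0,0,0,0,0,0],[0,2,0,0,0,0,0,0,0,0,0,0,0,0,0,0,0,0,0,0,0,0,0,0],[0,0,0,0,0,0,0,0,0,0,0,2,0,0,0,0,0,0,0,0,0,0,0,0],[0,0,0,1,0,0,0,0,0,0,0,0,0,0,0,0,0,0,0,0,0,0,0,0],[0,0,0,0,0,2,0,0,0,0,0,0,0,0,0,0,0,0,0,0,0,0,0,0]],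
  [[0,0,0,0,0,0,0,0,0,0,1,0,0,0,0,0,0,0,0,0,0,0,0,0],[0,0,0,0,0,0,0,0,0,0,0,0,0,0,0,0,0,0,0,0,2,0,0,0],[0,0,0,0,0,0,0,0,0,0,0,0,0,0,0,0,0,1,0,0,0,0,0,0],[0,0,0,0,0,0,0,0,0,0,0,0,0,0,0,0,0,0,0,0,0,0,1,0],[0,0,0,0,0,0,2,0,0,0,0,0,0,0,0,0,0,0,0,0,0,0,0,0],[0,0,0,0,0,0,0,0,0,0,0,0,0,0,0,0,0,0,0,0,0,0,0,2],[0,0,0,0,1,0,0,0,0,0,0,0,0,0,0,0,0,0,0,0,0,0,0,0],[0,0,0,0,0,0,0,0,0,0,0,0,0,2,0,0,0,0,0,0,0,0,0,0],[0,0,0,0,0,0,0,0,0,0,0,0,0,0,0,0,0,0,2,0,0,0,0,0],[0,0,0,0,0,0,0,0,0,0,0,0,0,0,0,0,1,0,0,0,0,0,0,0],[2,0,0,0,0,0,0,0,0,0,0,0,0,0,0,0,0,0,0,0,0,0,0,0],[0,0,0,0,0,0,0,0,0,0,0,0,0,0,0,0,0,0,0,0,0,2,0,0],[0,0,0,0,0,0,0,0,0,0,0,0,0,0,0,1,0,0,0,0,0,0,0,0],[0,0,0,0,0,0,0,1,0,0,0,0,0,0,0,0,0,0,0,0,0,0,0,0],[0,0,0,0,0,0,0,0,0,0,0,0,0,0,0,0,0,0,0,1,0,0,0,0],[0,0,0,0,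0,0,0,0,0,0,0,0,2,0,0,0,0,0,0,0,0,0,0,0],[0,0,0,0,0,0,0,0,0,2,0,0,0,0,0,0,0,0,0,0,0,0,0,0],[0,0,2,0,0,0,0,0,0,0,0,0,0,0,0,0,0,0,0,0,0,0,0,0],[0,0,0,0,0,0,0,0,1,0,0,0,0,0,0,0,0,0,0,0,0,0,0,0],[0,0,0,0,0,0,0,0,0,0,0,0,0,0,2,0,0,0,0,0,0,0,0,0],[0,1,0,0,0,0,0,0,0,0,0,0,0,0,0,0,0,0,0,0,0,0,0,0],[0,0,0,0,0,0,0,0,0,0,0,1,0,0,0,0,0,0,0,0,0,0,0,0],[0,0,0,2,0,0,0,0,0,0,0,0,0,0,0,0,0,0,0,0,0,0,0,0],[0,0,0,0,0,1,0,0,0,0,0,0,0,0,0,0,0,0,0,0,0,0,0,0]],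
  [[2,0,0,0,0,0,0,0,0,0,0,0,0,0,0,0,0,0,0,0,0,0,0,0],[0,2,0,0,0,0,0,0,0,0,0,0,0,0,0,0,0,0,0,0,0,0,0,0],[0,0,2,0,0,0,0,0,0,0,0,0,0,0,0,0,0,0,0,0,0,0,0,0],[0,0,0,2,0,0,0,0,0,0,0,0,0,0,0,0,0,0,0,0,0,0,0,0],[0,0,0,0,2,0,0,0,0,0,0,0,0,0,0,0,0,0,0,0,0,0,0,0],[0,0,0,0,0,2,0,0,0,0,0,0,0,0,0,0,0,0,0,0,0,0,0,0],[0,0,0,0,0,0,2,0,0,0,0,0,0,0,0,0,0,0,0,0,0,0,0,0],[0,0,0,0,0,0,0,2,0,0,0,0,0,0,0,0,0,0,0,0,0,0,0,0],[0,0,0,0,0,0,0,0,2,0,0,0,0,0,0,0,0,0,0,0,0,0,0,0],[0,0,0,0,0,0,0,0,0,2,0,0,0,0,0,0,0,0,0,0,0,0,0,0],[0,0,0,0,0,0,0,0,0,0,2,0,0,0,0,0,0,0,0,0,0,0,0,0],[0,0,0,0,0,0,0,0,0,0,0,2,0,0,0,0,0,0,0,0,0,0,0,0],[0,0,0,0,0,0,0,0,0,0,0,0,2,0,0,0,0,0,0,0,0,0,0,0],[0,0,0,0,0,0,0,0,0,0,0,0,0,2,0,0,0,0,0,0,0,0,0,0],[0,0,0,0,0,0,0,0,0,0,0,0,0,0,2,0,0,0,0,0,0,0,0,0],[0,0,0,0,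0,0,0,0,0,0,0,0,0,0,0,2,0,0,0,0,0,0,0,0],[0,0,0,0,0,0,0,0,0,0,0,0,0,0,0,0,2,0,0,0,0,0,0,0],[0,0,0,0,0,0,0,0,0,0,0,0,0,0,0,0,0,2,0,0,0,0,0,0],[0,0,0,0,0,0,0,0,0,0,0,0,0,0,0,0,0,0,2,0,0,0,0,0],[0,0,0,0,0,0,0,0,0,0,0,0,0,0,0,0,0,0,0,2,0,0,0,0],[0,0,0,0,0,0,0,0,0,0,0,0,0,0,0,0,0,0,0,0,2,0,0,0],[0,0,0,0,0,0,0,0,0,0,0,0,0,0,0,0,0,0,0,0,0,2,0,0],[0,0,0,0,0,0,0,0,0,0,0,0,0,0,0,0,0,0,0,0,0,0,2,0],[0,0,0,0,0,0,0,0,0,0,0,0,0,0,0,0,0,0,0,0,0,0,0,2]],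
  [[1,0,0,0,0,0,0,0,0,0,0,0,0,0,0,0,0,0,0,0,0,0,0,0],[0,1,0,0,0,0,0,0,0,0,0,0,0,0,0,0,0,0,0,0,0,0,0,0],[0,0,1,0,0,0,0,0,0,0,0,0,0,0,0,0,0,0,0,0,0,0,0,0],[0,0,0,1,0,0,0,0,0,0,0,0,0,0,0,0,0,0,0,0,0,0,0,0],[0,0,0,0,1,0,0,0,0,0,0,0,0,0,0,0,0,0,0,0,0,0,0,0],[0,0,0,0,0,1,0,0,0,0,0,0,0,0,0,0,0,0,0,0,0,0,0,0],[0,0,0,0,0,0,1,0,0,0,0,0,0,0,0,0,0,0,0,0,0,0,0,0],[0,0,0,0,0,0,0,1,0,0,0,0,0,0,0,0,0,0,0,0,0,0,0,0],[0,0,0,0,0,0,0,0,1,0,0,0,0,0,0,0,0,0,0,0,0,0,0,0],[0,0,0,0,0,0,0,0,0,1,0,0,0,0,0,0,0,0,0,0,0,0,0,0],[0,0,0,0,0,0,0,0,0,0,1,0,0,0,0,0,0,0,0,0,0,0,0,0],[0,0,0,0,0,0,0,0,0,0,0,1,0,0,0,0,0,0,0,0,0,0,0,0],[0,0,0,0,0,0,0,0,0,0,0,0,1,0,0,0,0,0,0,0,0,0,0,0],[0,0,0,0,0,0,0,0,0,0,0,0,0,1,0,0,0,0,0,0,0,0,0,0],[0,0,0,0,0,0,0,0,0,0,0,0,0,0,1,0,0,0,0,0,0,0,0,0],[0,0,0,0,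0,0,0,0,0,0,0,0,0,0,0,1,0,0,0,0,0,0,0,0],[0,0,0,0,0,0,0,0,0,0,0,0,0,0,0,0,1,0,0,0,0,0,0,0],[0,0,0,0,0,0,0,0,0,0,0,0,0,0,0,0,0,1,0,0,0,0,0,0],[0,0,0,0,0,0,0,0,0,0,0,0,0,0,0,0,0,0,1,0,0,0,0,0],[0,0,0,0,0,0,0,0,0,0,0,0,0,0,0,0,0,0,0,1,0,0,0,0],[0,0,0,0,0,0,0,0,0,0,0,0,0,0,0,0,0,0,0,0,1,0,0,0],[0,0,0,0,0,0,0,0,0,0,0,0,0,0,0,0,0,0,0,0,0,1,0,0],[0,0,0,0,0,0,0,0,0,0,0,0,0,0,0,0,0,0,0,0,0,0,1,0],[0,0,0,0,0,0,0,0,0,0,0,0,0,0,0,0,0,0,0,0,0,0,0,1]],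
  [[1,0,0,0,0,0,0,0,0,0,0,0,0,0,0,0,0,0,0,0,0,0,0,0],[0,0,0,0,0,0,0,0,0,0,0,0,0,0,0,0,0,0,0,0,0,0,0,0],[0,0,0,0,0,0,0,0,0,0,0,0,0,0,0,0,0,0,0,0,0,0,0,0],[0,0,0,0,0,0,0,0,0,0,0,0,0,0,0,0,0,0,0,0,0,0,0,0],[0,0,0,0,0,0,0,0,0,0,0,0,0,0,0,0,0,0,0,0,0,0,0,0],[0,0,0,0,0,0,0,0,0,0,0,0,0,0,0,0,0,0,0,0,0,0,0,0],[0,0,0,0,0,0,0,0,0,0,0,0,0,0,0,0,0,0,0,0,0,0,0,0],[0,0,0,0,0,0,0,0,0,0,0,0,0,0,0,0,0,0,0,0,0,0,0,0],[0,0,0,0,0,0,0,0,0,0,0,0,0,0,0,0,0,0,0,0,0,0,0,0],[0,0,0,0,0,0,0,0,0,0,0,0,0,0,0,0,0,0,0,0,0,0,0,0],[0,0,0,0,0,0,0,0,0,0,0,0,0,0,0,0,0,0,0,0,0,0,0,0],[0,0,0,0,0,0,0,0,0,0,0,0,0,0,0,0,0,0,0,0,0,0,0,0],[0,0,0,0,0,0,0,0,0,0,0,0,0,0,0,0,0,0,0,0,0,0,0,0],[0,0,0,0,0,0,0,0,0,0,0,0,0,0,0,0,0,0,0,0,0,0,0,0],[0,0,0,0,0,0,0,0,0,0,0,0,0,0,0,0,0,0,0,0,0,0,0,0],[0,0,0,0,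0,0,0,0,0,0,0,0,0,0,0,0,0,0,0,0,0,0,0,0],[0,0,0,0,0,0,0,0,0,0,0,0,0,0,0,0,0,0,0,0,0,0,0,0],[0,0,0,0,0,0,0,0,0,0,0,0,0,0,0,0,0,0,0,0,0,0,0,0],[0,0,0,0,0,0,0,0,0,0,0,0,0,0,0,0,0,0,0,0,0,0,0,0],[0,0,0,0,0,0,0,0,0,0,0,0,0,0,0,0,0,0,0,0,0,0,0,0],[0,0,0,0,0,0,0,0,0,0,0,0,0,0,0,0,0,0,0,0,0,0,0,0],[0,0,0,0,0,0,0,0,0,0,0,0,0,0,0,0,0,0,0,0,0,0,0,0],[0,0,0,0,0,0,0,0,0,0,0,0,0,0,0,0,0,0,0,0,0,0,0,0],[0,0,0,0,0,0,0,0,0,0,0,0,0,0,0,0,0,0,0,0,0,0,0,0]],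
  [[0,0,0,0,0,0,0,0,0,2,0,0,0,0,0,0,0,0,0,0,0,0,0,0],[0,0,0,0,2,0,0,0,0,0,0,0,0,0,0,0,0,0,0,0,0,0,0,0],[0,0,0,0,0,0,0,0,0,0,2,0,0,0,0,0,0,0,0,0,0,0,0,0],[0,0,0,0,0,0,0,1,0,0,0,0,0,0,0,0,0,0,0,0,0,0,0,0],[0,0,0,0,0,0,0,0,0,0,0,0,0,0,0,0,0,0,0,0,0,0,0,2],[0,0,1,0,0,0,0,0,0,0,0,0,0,0,0,0,0,0,0,0,0,0,0,0],[0,0,0,0,0,0,0,0,0,0,0,0,1,0,0,0,0,0,0,0,0,0,0,0],[0,0,0,0,0,0,0,0,0,0,0,0,0,0,0,0,0,2,0,0,0,0,0,0],[0,0,0,0,0,0,0,0,0,0,0,0,0,0,0,0,0,0,0,2,0,0,0,0],[0,0,0,0,0,0,0,0,0,0,0,2,0,0,0,0,0,0,0,0,0,0,0,0],[0,0,0,0,0,2,0,0,0,0,0,0,0,0,0,0,0,0,0,0,0,0,0,0],[1,0,0,0,0,0,0,0,0,0,0,0,0,0,0,0,0,0,0,0,0,0,0,0],[0,0,0,0,0,0,0,0,0,0,0,0,0,0,0,0,0,0,0,0,0,0,2,0],[0,0,0,0,0,0,0,0,0,0,0,0,0,0,1,0,0,0,0,0,0,0,0,0],[0,0,0,0,0,0,0,0,0,0,0,0,0,0,0,0,1,0,0,0,0,0,0,0],[0,0,0,0,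0,0,0,0,1,0,0,0,0,0,0,0,0,0,0,0,0,0,0,0],[0,0,0,0,0,0,0,0,0,0,0,0,0,1,0,0,0,0,0,0,0,0,0,0],[0,0,0,2,0,0,0,0,0,0,0,0,0,0,0,0,0,0,0,0,0,0,0,0],[0,0,0,0,0,0,0,0,0,0,0,0,0,0,0,0,0,0,0,0,1,0,0,0],[0,0,0,0,0,0,0,0,0,0,0,0,0,0,0,2,0,0,0,0,0,0,0,0],[0,0,0,0,0,0,0,0,0,0,0,0,0,0,0,0,0,0,0,0,0,1,0,0],[0,0,0,0,0,0,0,0,0,0,0,0,0,0,0,0,0,0,1,0,0,0,0,0],[0,0,0,0,0,0,2,0,0,0,0,0,0,0,0,0,0,0,0,0,0,0,0,0],[0,1,0,0,0,0,0,0,0,0,0,0,0,0,0,0,0,0,0,0,0,0,0,0]],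
  [[0,0,0,0,0,0,0,0,0,0,0,1,0,0,0,0,0,0,0,0,0,0,0,0],[0,0,0,0,0,0,0,0,0,0,0,0,0,0,0,0,0,0,0,0,0,0,0,1],[0,0,0,0,0,1,0,0,0,0,0,0,0,0,0,0,0,0,0,0,0,0,0,0],[0,0,0,0,0,0,0,0,0,0,0,0,0,0,0,0,0,2,0,0,0,0,0,0],[0,2,0,0,0,0,0,0,0,0,0,0,0,0,0,0,0,0,0,0,0,0,0,0],[0,0,0,0,0,0,0,0,0,0,2,0,0,0,0,0,0,0,0,0,0,0,0,0],[0,0,0,0,0,0,0,0,0,0,0,0,0,0,0,0,0,0,0,0,0,0,2,0],[0,0,0,1,0,0,0,0,0,0,0,0,0,0,0,0,0,0,0,0,0,0,0,0],[0,0,0,0,0,0,0,0,0,0,0,0,0,0,0,1,0,0,0,0,0,0,0,0],[2,0,0,0,0,0,0,0,0,0,0,0,0,0,0,0,0,0,0,0,0,0,0,0],[0,0,2,0,0,0,0,0,0,0,0,0,0,0,0,0,0,0,0,0,0,0,0,0],[0,0,0,0,0,0,0,0,0,2,0,0,0,0,0,0,0,0,0,0,0,0,0,0],[0,0,0,0,0,0,1,0,0,0,0,0,0,0,0,0,0,0,0,0,0,0,0,0],[0,0,0,0,0,0,0,0,0,0,0,0,0,0,0,0,1,0,0,0,0,0,0,0],[0,0,0,0,0,0,0,0,0,0,0,0,0,1,0,0,0,0,0,0,0,0,0,0],[0,0,0,0,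0,0,0,0,0,0,0,0,0,0,0,0,0,0,0,2,0,0,0,0],[0,0,0,0,0,0,0,0,0,0,0,0,0,0,1,0,0,0,0,0,0,0,0,0],[0,0,0,0,0,0,0,2,0,0,0,0,0,0,0,0,0,0,0,0,0,0,0,0],[0,0,0,0,0,0,0,0,0,0,0,0,0,0,0,0,0,0,0,0,0,1,0,0],[0,0,0,0,0,0,0,0,2,0,0,0,0,0,0,0,0,0,0,0,0,0,0,0],[0,0,0,0,0,0,0,0,0,0,0,0,0,0,0,0,0,0,1,0,0,0,0,0],[0,0,0,0,0,0,0,0,0,0,0,0,0,0,0,0,0,0,0,0,1,0,0,0],[0,0,0,0,0,0,0,0,0,0,0,0,2,0,0,0,0,0,0,0,0,0,0,0],[0,0,0,0,2,0,0,0,0,0,0,0,0,0,0,0,0,0,0,0,0,0,0,0]]]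
theorem h3 : (arP 3).mOk 24 M3 = true := by decide +kernel
def M7 : List (List (List Nat)) := [[[0,2,0,0],[1,4,5,0],[0,3,0,6],[0,0,3,2]],
  [[3,1,6,3],[4,0,0,0],[6,0,3,5],[5,0,6,0]],
  [[0,0,6,0],[0,0,0,6],[1,0,0,0],[0,1,0,0]],
  [[0,0,1,0],[0,0,0,1],[6,0,0,0],[0,6,0,0]],
  [[6,0,0,0],[0,6,0,0],[0,0,6,0],[0,0,0,6]],
  [[3,0,0,0],[0,3,0,0],[0,0,3,0],[0,0,0,3]],
  [[5,0,0,0],[0,5,0,0],[0,0,5,0],[0,0,0,5]],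
  [[4,4,3,5],[0,1,0,3],[0,3,2,5],[0,6,0,5]],
  [[5,1,6,3],[0,6,0,6],[0,6,1,3],[0,5,0,0]],
  [[3,4,3,5],[0,0,0,3],[0,3,1,5],[0,6,0,4]],
  [[1,2,2,2],[1,1,1,1],[2,2,6,6],[1,1,3,4]],
  [[6,2,0,0],[1,3,5,0],[0,3,6,6],[0,0,3,1]]]
theorem h7 : (arP 7).mOk 4 M7 = true := by decide +kernel
instance : Fact (Nat.Prime 3) := ⟨by norm_num⟩
instance : Fact (Nat.Prime 7) := ⟨by norm_num⟩
theorem main (N : Nat) : ∃ (H : Type) (_ : Group H) (_ : Fintype H),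
    N < Fintype.card H ∧ Set.range (orderOf : H → ℕ) = {n | ∃ m ∈ [8, 9, 10, 12, 15, 21], n ∣ m} := by
  have K3 : (arP 3).Ok (Nat.cast : Nat → ZMod 3) := arP_ok 3 (by norm_num)
  have K7 : (arP 7).Ok (Nat.cast : Nat → ZMod 7) := arP_ok 7 (by norm_num)
  have I := ixFin 24
  have J := ixFin 4
  have := M0.fin
  obtain ⟨ρ, mo⟩ := M0.mrep pr (M0.sat sb0) K3 I h3 (by decide +kernel) (by decide +kernel)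
  obtain ⟨σ, so⟩ := M0.mrep pr (M0.sat sb0) K7 J h7 (by decide +kernel) (by decide +kernel)
  have hz : ∀ y : G0, orderOf y = 2 → y = wprod g0 [2,2] := fun y hy => by
    obtain ⟨r, h1, h2⟩ := iK y (hy ▸ pow_orderOf_eq_one y) (by rintro rfl; simp at hy)
    obtain rfl := List.mem_singleton.1 h1
    obtain ⟨c, h2⟩ := isConj_iff.1 h2.symm
    have : c ∈ Subgroup.centralizer {wprod g0 [2,2]} := (genW_le.2 fun w hw => Subgroup.mem_centralizer_singleton_iff.2 (by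
      rw [← wprod_app, ← wprod_app]; exact M0.eq (by revert w; decide +kernel))) (M0.gen.ge trivial)
    rw [← h2, Subgroup.mem_centralizer_singleton_iff.1 this, mul_inv_cancel_right]
  have o3 : orderOf (wprod g0 [2,0,2,0,0]) = 3 := M0.ordN _ (by decide +kernel)
  have o5 : orderOf (wprod g0 [0]) = 5 := M0.ordN _ (by decide +kernel)
  refine aff10 (Mo.ex ρ 3) (Mo.ex σ 7) spec0 (fun y h => hz y h ▸ K3.fpf I h3 mo [2,2] 4 5 5 (by decide +kernel)) ?_ ⟨_, o5, K3.fx I h3 mo [0] 6 0 0 (by decide +kernel)⟩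
    ⟨_, (show Mo ρ from (Pi.single 0 1 : Fin 24 → ZMod 3)), o3, fun e => ?_⟩ N
  · rintro y (h | h | h)
    · exact hz y h ▸ K7.fpf J h7 so [2,2] 4 5 6 (by decide +kernel)
    · exact fpf_cyc (by norm_num) (by rw [M0.card]; norm_num) o3 (K7.fpf J h7 so [2,0,2,0,0] 7 8 9 (by decide +kernel)) h
    · exact fpf_cyc (by norm_num) (by rw [M0.card]; norm_num) o5 (K7.fpf J h7 so [0] 0 10 11 (by decide +kernel)) h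
  rw [smul_add (A := Mo ρ), smul_smul, ← wprod_append] at e
  have k : ∀ w a, band (band (inL (lets (List.range 2)) [w]) ((arP 3).meq 24 M3 w [a])) (Nat.beq (ent M3 a 0 0) 0) = true →
      (ρ (wprod g0 w)).mulVec (Pi.single 0 1) 0 = 0 := fun w a h => by
    rw [K3.rel I h3 mo [a] (band_iff.1 h).1, matW_one, Matrix.mulVec_single_one, Matrix.col_apply, mat_apply]
    exact (congrArg _ (Nat.eq_of_beq_eq_true (band_iff.1 h).2)).trans Nat.cast_zero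
  have : (1 : ZMod 3) + ((ρ (wprod g0 _)).mulVec (Pi.single 0 1) 0 + (ρ (wprod g0 _)).mulVec (Pi.single 0 1) 0) = 0 := congrFun e 0
  rw [k _ 7 (by decide +kernel), k _ 8 (by decide +kernel)] at this
  exact absurd this (by decide)

end CfsgH7.S5d.Sp

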