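import Cfsg.Agent.H7.Mult3
import Cfsg.Agent.H7.PG
import Cfsg.Agent.H7.Li.G23

set_option autoImplicit false
set_option maxRecDepth 100000

universe u

open scoped Pointwise

namespace CfsgH7.G23.Sp

open CfsgH7.G23

def SL : List Nat := [7, 13]
def c7C : List Lvl := [⟨281, [[0],[2],[4]], [0,1,2,0,1,0,2,1,0,1,0,2,1], 364⟩,
  ⟨145, [[3,0,2,4],[0,3,0,0,2]], [0,1,0,1,0,1,0,1,0,1,0,1,0,0], 243⟩,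
  ⟨86, [[0,4,0,3,0,2,2,0,3,0],[1,1,3,0,3,1,3,0,3,0]], [0,1,0,0,1,0,0,1,0,1], 48⟩]
def c7M : List (List Nat) := [[0xde9dd9e9bfbc157db4dec117dcfebbd4fbfaef9cb77deea182fe3eb1f7af78dcb4efffe6ff13af6fafcfdda47dd],
  [0x8800e001068000240048000020403820900202000800082000100004840002344440600004088400580018],
  []]
def c7Z : List Nat := [0xfffffffffffffffffffffffffffffffffffffffffffffffffffffffffffffffffffffffffffffffffffffffffff]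
theorem c7L : LvOk G0 (finPt 364) 364 [] (mkLV c7C c7M) := M0.lvOk c7C 9 c7M (by decide +kernel) (by decide +kernel)
noncomputable def c7T : Bt := (.br 0 [[0]] [0,0,0,0,0,0] (Bt.deads [[0,0,0,0,3,4,1,1],
 [1,0,2,0,3,4,3,1],
 [2,0,1,0,3,1,1,2],
 [14,0,1,0,4,1,3],
 [7,0,0,0,2,2],
 [8,0,2,0,3,0,4,2],
 [10,0,1,0,2,0,2],
 [13,0,0,0,4,0,0,2,0],
 [71,0,0,0,4,0,0],
 [16,0,2,0,2,1,4,3,1],
 [17,0,0,0,2,2,1],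
 [57,0,0,0,4,3,1],
 [199,0,1,0,4,1],
 [91,0,1,0,2,4,2],
 [284,0,0,0,4,1,4],
 [36,0,0,0,4,2,0,0],
 [42,0,2,0,3,0,4,1],
 [43,0,2,0,4,1,2,0],
 [357,0,2,0,2],
 [306,0,1,0,2,1,2],
 [158,0,0,0,4,3],
 [65,0,0,0,1,4],
 [213,0,1,0,3,4,2,2],
 [73,0,0,0,4,3,4,3],
 [77,0,0,0,3,0],
 [233,0,1,0,2,4,2,2],
 [135,0,0,0,2,0,4,0],
 [345,0,0,0,4,1,4,0],
 [277,0,2,0,2,4,3,0],
 [209,0,0,0,4,2],
 [262,0,1,0,3,4,1,3],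
 [275,0,1,0,3,4,0,3],
 [138,0,0,0,3,4,1,4],
 [175,0,1,0,4,0],
 [299,0,1,0,2,4,3],
 [219,0,2,0,2,1,3]] (Bt.ofL [(281, [], (.step 0 0 [] (.step 0 0 [] (.leaf 0)))),
 (3, [4,2,0,4], (.step 0 0 [4,3,1,2,0,3,0,0,2,4,3,1,2] (.dead 0 0 0))),
 (4, [3,4,2,0,4], (.step 0 0 [1,2,1,3,3,1,2,1,4,1,1,2,1,3,3,1,2,1,4,1,3,0,2,4,3,0,2,4] (.dead 0 0 0))),
 (113, [1,4,0,3], (.step 0 0 [3,0,2,4,3,0,2,4,3,1,1,2,1,4,3,1,2] (.dead 0 0 0))),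
 (241, [2,0], (.step 0 0 [4,3,1,2,0,4,0,3,0,2,2,0,3,0,4,3,1,2] (.dead 0 0 0))),
 (12, [4,2,0,2], (.step 0 0 [1,1,3,0,3,1,3,3,3,1,2,1,4,3,0,0,2] (.dead 0 0 0))),
 (19, [4,2,2], (.step 0 0 [3,0,2,4,3,0,2,4,0,3,0,0,0,2,4] (.dead 0 2 0))),
 (20, [0,4,2,0], (.step 0 0 [4,3,1,2,0,3,0,0,2,0,4,0,3,0,2,2,0,3,0,3,0,2,4,3,0,2,4] (.dead 0 0 0))),
 (21, [4,2,4,3], (.step 0 0 [1,2,1,3,3,1,2,1,4,1,1,2,1,3,3,1,2,1,4,3,0,0,2] (.dead 0 0 0))),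
 (248, [4,3,0,2], (.step 0 0 [3,0,2,4,1,2,1,3,3,1,2,1,4,1,1,1,3,0,3,1,3,0,3,0,3,0,2,4] (.dead 0 0 0))),
 (23, [2,0,4], (.step 0 0 [4,3,1,2,0,4,0,3,0,2,2,0,3,0,0,3,0,0,2] (.dead 0 0 0))),
 (25, [1,3], (.step 0 0 [3,0,2,4,1,1,3,0,3,1,3,3,3,1,2,1,4,1,3,0,2,4] (.dead 0 0 0))),
 (203, [3,4,3], (.step 0 0 [0,3,0,0,2,0,4,0,3,0,2,2,0,3,0,3,0,2,4,3,0,2,4] (.dead 0 1 0))),
 (38, [3,4,2,0], (.step 0 0 [4,3,1,2,0,4,0,3,0,2,2,0,3,0,0,3,0,0,0,2,4] (.dead 0 0 0))),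
 (58, [2,0,4,3], (.step 0 0 [1,2,1,3,3,1,2,1,4,3,0,0,2,1,1,3,0,3,1,3,0,3,0,4,3,1,2] (.dead 0 0 0))),
 (168, [1,4,0,2,0], (.step 0 0 [0,3,0,0,2,0,4,0,3,0,2,2,0,3,0,3,0,2,4,3,0,2,4] (.dead 0 0 0)))])))
def c7U : List (List Nat) := [[]]
theorem c7 : Ck SL (wprod g0 [1]) :=
  M0.ck c7L _ _ 7 [[0],[0,0],[0,0,0],[0,0,0,0],[0,0,0,0,0],[0,0,0,0,0,0],[1]] c7U 0 9 c7Z c7T (by decide +kernel) (by decide +kernel) (by decide +kernel)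
theorem k7 : Pk G0 SL 7 := have := M0.fin; pk_cyc (by norm_num) (by rw [M0.card]; norm_num) (M0.ordN _ (by decide +kernel)) c7
def c13C : List Lvl := [⟨108, [[0],[2],[4]], [0,1,2,0,1,2,0,1,0,2,1,0,1,0], 364⟩,
  ⟨318, [[0,3,0,0,2],[0,3,4,2,1],[2,1,4,3,4],[0,0,4,1,4,0]], [0,1,2,3,0,2,1,3,0,2,1], 243⟩,
  ⟨273, [[3,0,2,2,0,3,4],[2,2,0,4,0,2,0,2,4],[2,0,4,1,4,1,2,4,2,1,1,3]], [0,1,0,2,1,0,1,0], 48⟩]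
def c13M : List (List Nat) := [[0x100000040000000000020000000400000000000480000000001400000008020000000000000001000000010000],
  [],
  []]
def c13Z : List Nat := [0xfffffffffffffffffffffffffffffffffffffffffffffffffffffffffffffffffffffffffffffffffffffffffff]
theorem c13L : LvOk G0 (finPt 364) 364 [] (mkLV c13C c13M) := M0.lvOk c13C 9 c13M (by decide +kernel) (by decide +kernel)
noncomputable def c13T : Bt := (.br 0 [[0]] [0,0,0,0,0,0,0,0,0,0,0,0] (Bt.deads [[45,0,0,0,2],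
 [2,0,0,0,2,4,2,1,3],
 [3,0,0,0,2,2,1],
 [4,0,0,0,2,1],
 [6,0,0,0,2,0,0],
 [237,0,0,0,4,2,2],
 [50,0,0,0,2,1,2],
 [202,0,0,0,2,4,3],
 [10,0,0,0,4,3,1,4,0],
 [12,0,0,0,3,1,4,0],
 [190,0,0,0,3,1,1,1],
 [325,0,0,0,4,1],
 [18,0,0,0,3,1,1,2],
 [19,0,0,0,2,0,0,0],
 [20,0,0,0,4,3],
 [235,0,0,0,3,0,2],
 [185,0,0,0,0,2],
 [321,0,0,0,4],
 [27,0,0,0,3],
 [30,0,0,0,4,2,0,4],
 [311,0,0,0,0,4],
 [338,0,0,0,2,4,0,0],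
 [44,0,0,0,0,2,1,2,0],
 [118,0,0,0,0,0,2,0],
 [230,0,0,0,2,4,2],
 [63,0,0,0,1,4,0,2],
 [211,0,0,0,2,1,3]] (Bt.ofL [(108, [], (.step 0 2 [] (.step 0 1 [] (.leaf 0))))])))
def c13U : List (List Nat) := [[]]
theorem c13 : Ck SL (wprod g0 [1,1,1,1,2,4]) :=
  M0.ck c13L _ _ 13 [[0],[0,0],[0,0,0],[0,0,0,0],[0,0,0,0,0],[0,0,0,0,0,0],[1]] c13U 0 9 c13Z c13T (by decide +kernel) (by decide +kernel) (by decide +kernel)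
theorem k13 : Pk G0 SL 13 := have := M0.fin; pk_cyc (by norm_num) (by rw [M0.card]; norm_num) (M0.ordN _ (by decide +kernel)) c13
theorem o6 : ∃ x : G0, orderOf x = 6 := ⟨_, M0.ordN [2,4,2,1] (by decide +kernel)⟩

end CfsgH7.G23.Sp

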