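import Cfsg.Agent.H7.Mult3
import Cfsg.Agent.H7.Spec
import Cfsg.Agent.H7.Mu.J1

set_option autoImplicit false
set_option maxRecDepth 100000

universe u

open scoped Pointwise

namespace CfsgH7.J1m.Sp

open CfsgH7.J1m

def SL : List Nat := [6,7,10,11,15,19]
def c3C : List Lvl := [⟨204, [[0],[2],[4]], [0,1,2,0,1,0,1,2,0,1,2,0,2], 266⟩,
  ⟨156, [[0,3,3,0,4],[1,3,0,4,2]], [0,0,1,0,1,0,1,0,1,0,1,0], 110⟩,
  ⟨148, [[0,4,3,4,3,0],[2,0,4,2,4,2]], [0,1,0], 6⟩]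
def c3M : List (List Nat) := [[0x3c2bb312467522008be46895c4e1e0222b03b604a0f4c409b039a4ba856160f5139],
  [0x10000000000000020020000020002020000000],
  [0x2000000000]]
def c3Z : List Nat := [0x3ffffffffffffffffffffffffffffffffffffffffffffffffffffffffffffffffff]
theorem c3L : LvOk G0 (finPt 266) 266 [] (mkLV c3C c3M) := M0.lvOk c3C 9 c3M (by decide +kernel) (by decide +kernel)
noncomputable def c3T : Bt := (.br 0 [] [] (Bt.ofL [(204, [], (.br 0 [] [] (Bt.ofL [(156, [], (.br 0 [[0]] [0,0] (Bt.deads [[29,0,0,0,2,0,4,2,4,2]] (Bt.ofL [(148, [], (.leaf 0))])))),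
 (4, [0,3,3,0,4,0,3,3,0,4,0,3,3,0,4], (.br 0 [[0]] [0,0] (Bt.deads [[246,0,0,0]] (Bt.ofL [(227, [2,0,4,2,4,2], (.leaf 1))]))))]))),
 (4, [4,0,4,3,1,1,4,0], (.br 0 [] [] (Bt.ofL [(204, [3,4,1,2,0,3,4,1,2,0,0,3,3,0,4,0,4,3,4,3,0,0,3,3,0,4], (.br 0 [[0]] [0,0] (Bt.deads [[96,0,0,0,2,0,4,2,4,2]] (Bt.ofL [(59, [], (.leaf 2))])))),
 (113, [0,4,3,4,3,0,3,4,1,2,0,3,4,1,2,0,0,3,3,0,4], (.br 0 [[0]] [0,0] (Bt.deads [[148,0,0,0]] (Bt.ofL [(89, [2,0,4,2,4,2], (.leaf 3))]))))]))),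
 (41, [4,2,1,4,3,0], (.br 0 [] [] (Bt.ofL [(156, [1,3,0,4,2,1,3,0,4,2], (.br 0 [[0]] [0,0] (Bt.deads [[145,0,0,0,2,0,4,2,4,2]] (Bt.ofL [(155, [], (.leaf 4))])))),
 (113, [3,4,1,2,0,3,4,1,2,0,0,3,3,0,4,0,3,3,0,4], (.br 0 [[0]] [0,0] (Bt.deads [[170,0,0,0,2,0,4,2,4,2]] (Bt.ofL [(248, [], (.leaf 5))]))))]))),
 (113, [4,2,4,2,0], (.br 0 [] [] (Bt.ofL [(41, [], (.br 0 [[0]] [0,0] (Bt.deads [[49,0,0,0,2,0,4,2,4,2]] (Bt.ofL [(161, [], (.leaf 6))])))),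
 (4, [0,3,3,0,4,0,3,3,0,4,0,3,3,0,4], (.br 0 [[0]] [0,0] (Bt.deads [[120,0,0,0]] (Bt.ofL [(145, [2,0,4,2,4,2], (.leaf 7))]))))]))),
 (156, [1,4,0,0,4,0], (.br 0 [] [] (Bt.ofL [(41, [0,4,3,4,3,0,0,3,3,0,4], (.br 0 [[0]] [0,0] (Bt.deads [[200,0,0,0]] (Bt.ofL [(246, [2,0,4,2,4,2], (.leaf 8))])))),
 (204, [2,0,4,2,4,2,1,3,0,4,2,0,3,3,0,4], (.br 0 [[0]] [0,0] (Bt.deads [[248,0,0,0]] (Bt.ofL [(265, [2,0,4,2,4,2], (.leaf 9))]))))])))]))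
def c3U : List (List Nat) := [[],[4,1,2,2,4,0,4,1,4,1],[1,2,0,4,1,4,0,3,4,2,1],[1,4,0,0,2,4,1,2,4,3,1],[2,1,3,0,4,0,3,4,0,4],[2,1,4,0,0,4,0,4,0,2],[4,2,4,2,0],[3,1,4,1,4,1,1,4,0,3],[2,1,4,0,3,1,4,3,0,4],[1,2,0,4,0,3,3,4,1,3,4]]
theorem c3 : Ck SL (wprod g0 [0,4,2,4,3,0,3]) :=
  M0.ck c3L _ _ 3 [[0],[0,0],[1]] c3U 1 9 c3Z c3T (by decide +kernel) (by decide +kernel) (by decide +kernel)
theorem k3 : Pk G0 SL 3 := have := M0.fin; pk_cyc (by norm_num) (by rw [M0.card]; norm_num) (M0.ordN _ (by decide +kernel)) c3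
def c5C : List Lvl := [⟨157, [[0],[4],[2]], [0,1,0,2,0,1,0,2,0,1,2,0,1], 266⟩,
  ⟨41, [[0,3,4,2,4],[0,4,2,4,1],[3,0,4,3,0,4,1,3,4,0,2]], [0,1,0,2,0,1,0,1,0,2,0], 132⟩,
  ⟨122, [[1,2]], [0,0,0,0], 5⟩]
def c5M : List (List Nat) := [[0x2ddfc34ecd890581d1ef11af62dde76938065c52da3e11cde20c98e5bc459859f80],
  [0x80000100000000000000000000004000020000000000000000010000000],
  [0x20000000000000000000000000]]
def c5Z : List Nat := [0x3ffffffffffffffffffffffffffffffffffffffffffffffffffffffffffffffffff]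
theorem c5L : LvOk G0 (finPt 266) 266 [] (mkLV c5C c5M) := M0.lvOk c5C 9 c5M (by decide +kernel) (by decide +kernel)
noncomputable def c5T : Bt := (.br 0 [] [] (Bt.ofL [(157, [], (.br 0 [] [] (Bt.ofL [(41, [], (.br 0 [[0]] [0,0,0,0] (Bt.ofL [(122, [], (.leaf 0))]))),
 (40, [0,4,3,4,1,3,0,4,3,0,4,1,3,4,0,0,4,3,0,4,1,3,4,0,2,0,3,4,2,4], (.br 0 [[0]] [0,0,0,0] (Bt.deads [[231,0,0,0]] .nil)))]))),
 (1, [0,0,4,1,4,1], (.br 0 [] [] (Bt.ofL [(4, [0,4,3,4,1,3,1,4,2,0,4,1,2,4,1,2], (.br 0 [[0]] [0,0,0,0] (Bt.deads [[166,0,0,0]] .nil))),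
 (152, [0,4,2,4,1,3,1,4,2,0,4,1,2,4,1,2,0,3,4,2,4], (.br 0 [[0]] [0,0,0,0] (Bt.ofL [(33, [], (.leaf 1))])))]))),
 (4, [4,1,1,1], (.br 0 [] [] (Bt.ofL [(152, [0,4,2,4,1,3,1,4,2,0,4,1,2,4,1,1,4,2,0,4,1,2,4,1,2], (.br 0 [[0]] [0,0,0,0] (Bt.deads [[72,0,0,0]] .nil))),
 (1, [4,3,4,2,1,3,0,4,3,0,4,1,3,4,0,0,4,3,0,4,1,3,4,0,2], (.br 0 [[0]] [0,0,0,0] (Bt.ofL [(47, [], (.leaf 2))])))]))),
 (40, [4,2,4,3], (.br 0 [] [] (Bt.ofL [(157, [3,1,4,2,0,4,1,2,4,1,1,4,2,0,4,1,2,4,1,2,0,4,2,4,1], (.br 0 [[0]] [0,0,0,0] (Bt.ofL [(232, [], (.leaf 3))]))),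
 (41, [0,3,4,2,4], (.br 0 [[0]] [0,0,0,0] (Bt.deads [[235,0,0,0]] .nil)))]))),
 (41, [4,2,0,3,4], (.br 0 [] [] (Bt.ofL [(40, [3,0,3,0,4,3,0,4,1,3,4,0,2,0,4,3,4,1], (.br 0 [[0]] [0,0,0,0] (Bt.ofL [(253, [], (.leaf 4))]))),
 (157, [0,4,2,2,4,1,3,0,4,3,0,4,1,3,4,0,2], (.br 0 [[0]] [0,0,0,0] (Bt.deads [[85,0,0,0]] .nil)))]))),
 (152, [0,0,0,4,1], (.br 0 [] [] (Bt.ofL [(4, [0,3,4,2,4,3,1,4,2,0,4,1,2,4,1,2,0,4,3,4,3,4,2,4], (.br 0 [[0]] [0,0,0,0] (Bt.ofL [(5, [], (.leaf 5))]))),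
 (1, [1,2,0,3,4,2,4], (.br 0 [[0]] [0,0,0,0] (Bt.deads [[47,0,0,0]] .nil)))])))]))
def c5U : List (List Nat) := [[],[4,1,4,1,2,2,0,4,0,2,2,1,4],[4,3,4,1,3,4,0,4,2,4],[2,1,4,0,4,0,0,2,4,2,1,4],[0,4,3,0,3,1,4,1,3,4,3],[1,3,4,1,1,1,4,2,1,3,4]]
theorem c5 : Ck SL (wprod g0 [1,2]) :=
  M0.ck c5L _ _ 5 [[0],[0,0],[0,0,0],[0,0,0,0],[1]] c5U 1 9 c5Z c5T (by decide +kernel) (by decide +kernel) (by decide +kernel)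
theorem k5 : Pk G0 SL 5 := have := M0.fin; pk_cyc (by norm_num) (by rw [M0.card]; norm_num) (M0.ordN _ (by decide +kernel)) c5
def c7C : List Lvl := [⟨252, [[0],[2],[4]], [0,1,2,0,1,2,0,1,0,2,0,2], 266⟩,
  ⟨241, [[0,3,1,3,4],[1,1,2,4,2]], [0,1,0,1,0,1,0,1,0,1,0,1,0,0], 132⟩,
  ⟨122, [[1,4,0,3,4,1,4,1,2]], [0,0,0,0], 5⟩]
def c7M : List (List Nat) := [[0x2226199e99131c4b6e03a010976c844700035ed5282a8527441cfa92d8a7b125485, 0x1d98e661668c21b090fc5feb68126938ffdca12a52d57a58bbe10565275846daa7a],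
  [0x10000000000000000000000004000000000000000800000002100000],
  []]
def c7Z : List Nat := [0x3ffffffffffffffffffffffffffffffffffffffffffffffffffffffffffffffffff]
theorem c7L : LvOk G0 (finPt 266) 266 [] (mkLV c7C c7M) := M0.lvOk c7C 9 c7M (by decide +kernel) (by decide +kernel)
noncomputable def c7T : Bt := (.br 0 [[0]] [0,0,0,0,0,0] (Bt.deads [[110,0,0,0,4,1,4,3],
 [54,0,0,0,1,4,3],
 [127,0,1,1,4,2],
 [172,0,2,1,1,4,0,2],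
 [94,0,0,0,2,0,3],
 [259,0,2,1,4,0],
 [6,0,2,1,4,1,2],
 [7,0,1,1,3,0],
 [198,0,1,1,1],
 [123,0,1,1,2,0],
 [211,0,0,0,4,1,4,0],
 [190,0,0,0,2,1,3],
 [212,0,0,0,4,0,2],
 [264,0,0,0,1,2,2],
 [18,0,0,0,1,3],
 [149,0,0,0,1,4,2,1],
 [21,0,0,0,2,4],
 [24,0,0,0,4,2,4,1],
 [260,0,1,1,4,1],
 [246,0,0,0,1,4,1,3],
 [29,0,0,0,2,1,3,0],
 [30,0,0,0,1,1,1],
 [86,0,1,1,1,4,3,1],
 [257,0,0,0,2,1,4],
 [95,0,1,1,3,4,2,1],
 [194,0,1,1,4,2,2,1],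
 [47,0,0,0,2,2,1],
 [48,0,0,0,0,0,0,0],
 [209,0,0,0,4,1,3],
 [63,0,0,0,3,4,3,3],
 [153,0,0,0,0,4],
 [68,0,0,0,1,1],
 [76,0,0,0,2,0,2],
 [134,0,0,0,0,0,4,1]] (Bt.ofL [(252, [], (.step 0 1 [] (.step 1 0 [] (.leaf 0)))),
 (20, [3,0,3], (.step 0 1 [3,0,4,0,4,2,1,4,1,2,4,2,1,1,2,4,2] (.dead 1 0 0))),
 (51, [4,1,2,2], (.step 0 1 [4,2,0,2,1,3,4,3,0,0] (.dead 1 0 0))),
 (238, [0,4,3], (.step 0 1 [] (.dead 1 0 0)))])))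
def c7U : List (List Nat) := [[]]
theorem c7 : Ck SL (wprod g0 [4,3,4,0,0,2,4]) :=
  M0.ck c7L _ _ 7 [[0],[0,0],[0,0,0],[0,0,0,0],[0,0,0,0,0],[0,0,0,0,0,0],[1]] c7U 0 9 c7Z c7T (by decide +kernel) (by decide +kernel) (by decide +kernel)
theorem k7 : Pk G0 SL 7 := have := M0.fin; pk_cyc (by norm_num) (by rw [M0.card]; norm_num) (M0.ordN _ (by decide +kernel)) c7
def c11C : List Lvl := [⟨40, [[4],[0],[2]], [0,1,2,0,1,2,0,1,2,0,1,2,1], 266⟩,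
  ⟨4, [[4,1,2,4,3,1,3,4],[0],[2]], [0,1,2,1,2,1], 12⟩,
  ⟨160, [[0],[2]], [0,1,0,1,0,1,1,1,1], 55⟩]
def c11M : List (List Nat) := [[0x2000000000000050000000008000008002040008004412],
  [0x10794020015014000c940d5009102908008a80401c4400870102001802060340080],
  [0x1000000000000000000000000000000000000000000000000000000]]
def c11Z : List Nat := [0x3ffffffffffffffffffffffffffffffffffffffffffffffffffffffffffffffffff]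
theorem c11L : LvOk G0 (finPt 266) 266 [] (mkLV c11C c11M) := M0.lvOk c11C 9 c11M (by decide +kernel) (by decide +kernel)
noncomputable def c11T : Bt := (.br 0 [] [] (Bt.ofL [(40, [], (.br 0 [] [] (Bt.ofL [(4, [], (.br 0 [[0]] [0,0,0,0,0,0,0,0,0,0] (Bt.deads [[18,0,0,0,2,0,2],
 [83,0,0,0,2],
 [103,0,0,0,3,3],
 [37,0,0,0,3]] (Bt.ofL [(160, [], (.leaf 0))]))))]))),
 (4, [4,0,4,3,3,4], (.br 0 [] [] (Bt.ofL [(40, [3,4,1,2,4,3,1,3,1,2,4,3,1,3,4], (.br 0 [[0]] [0,0,0,0,0,0,0,0,0,0] (Bt.deads [[149,0,0,0],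
 [138,0,0,0,2,2,0],
 [197,0,0,0,2,0],
 [16,0,0,0,3,3,0],
 [22,0,0,0,3]] .nil)))])))]))
def c11U : List (List Nat) := [[]]
theorem c11 : Ck SL (wprod g0 [1,1]) :=
  M0.ck c11L _ _ 11 [[0],[0,0],[0,0,0],[0,0,0,0],[0,0,0,0,0],[0,0,0,0,0,0],[1]] c11U 1 9 c11Z c11T (by decide +kernel) (by decide +kernel) (by decide +kernel)
theorem k11 : Pk G0 SL 11 := have := M0.fin; pk_cyc (by norm_num) (by rw [M0.card]; norm_num) (M0.ordN _ (by decide +kernel)) c11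
def c19C : List Lvl := [⟨60, [[0],[2],[4]], [0,1,0,2,1,0,1,2,1,0,2,0,1,0], 266⟩,
  ⟨183, [[4],[1,2,4,3,0],[0,4,1,3,4,1]], [0,1,0,2,0,1,0,2,0,1,0,2,0], 132⟩,
  ⟨52, [[1,1,4,0,4,2,0,2,4,1,2]], [0,0,0,0], 5⟩]
def c19M : List (List Nat) := [[0x3583f351b0007311687750513eba0762b46c912b78ca292231e414346c805e4460],
  [0x200040000000000000000000020000200010000000000000],
  []]
def c19Z : List Nat := [0x3ffffffffffffffffffffffffffffffffffffffffffffffffffffffffffffffffff]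
theorem c19L : LvOk G0 (finPt 266) 266 [] (mkLV c19C c19M) := M0.lvOk c19C 9 c19M (by decide +kernel) (by decide +kernel)
noncomputable def c19T : Bt := (.br 0 [[0]] [0,0,0,0,0,0,0,0,0,0,0,0,0,0,0,0,0,0] (Bt.deads [[0,0,0,0,1,2,2,0],
 [2,0,0,0,0],
 [160,0,1,0,4,3],
 [58,0,0,0,0,2,1],
 [20,0,0,0,4,3,3],
 [190,0,0,0,3,0,4,0],
 [61,0,0,0,0,4,0],
 [250,0,0,0,1,4,0],
 [21,0,0,0,2,2,4,0],
 [24,0,1,0,2,1,2],
 [59,0,1,0,2,1],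
 [236,0,0,0,4,1,1]] (Bt.ofL [(60, [], (.step 0 3 [] (.step 1 0 [] (.leaf 0)))),
 (1, [1,4,2,0], (.step 0 3 [3,0,4,3,1,3,4,1,4,0,0,4,3,0,4,3,1,3,4,1,4,0,0,4] (.dead 1 0 0)))])))
def c19U : List (List Nat) := [[]]
theorem c19 : Ck SL (wprod g0 [2,0,3,1,4,1]) :=
  M0.ck c19L _ _ 19 [[0],[0,0],[0,0,0],[0,0,0,0],[0,0,0,0,0],[0,0,0,0,0,0],[1]] c19U 0 9 c19Z c19T (by decide +kernel) (by decide +kernel) (by decide +kernel)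
theorem k19 : Pk G0 SL 19 := have := M0.fin; pk_cyc (by norm_num) (by rw [M0.card]; norm_num) (M0.ordN _ (by decide +kernel)) c19
def s2S : List (List Nat) := [[0,4,1,1,1,4,2,1,2,4],[4,3,0,3,4,1,4,2,2,1],[2,2,4,3,3]]
theorem s2P : Pc (fun j => wprod g0 (wordAt s2S j)) 2 s2S.length :=
  M0.pc [[],[],[]] [[], [[2]], [[4],[4]]] (by decide +kernel) (M0.ge s2S [⟨0, [[0],[2],[4]], [0,1,2], 8⟩] 9 (by decide +kernel))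
theorem kl : ∀ x : G0, Kl SL x := have := M0.fin; kl_all (q := 2) (a := 3) (e := 1) M0.card [3,5,7,11,19] (by
    simp only [List.forall_mem_cons]; exact ⟨⟨by norm_num, k3⟩, ⟨by norm_num, k5⟩, ⟨by norm_num, k7⟩, ⟨by norm_num, k11⟩, ⟨by norm_num, k19⟩, by simp⟩)
  (M0.ex s2P (by norm_num) (by decide) (q := 6) (by decide) (.cons (.cons (.cons .pw (.cons .pw .nil)) (.cons (.cons .pw (.cons .pw .nil)) .nil)) (.cons (.cons (.cons .pw (.cons .pw .nil)) (.cons (.cons .pw (.cons .pw .nil)) .nil)) .nil)) (by decide +kernel)) (by norm_num)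
theorem spec0 : Set.range (orderOf : G0 → ℕ) = {n | ∃ m ∈ SL, n ∣ m} := M0.spec kl [[0,3,3,4,0,4,3],[3,3,1,2,4],[1,4,2,0,4,3],[2,2,0,4,1],[3,3,1,1,4,3,0],[4,1,4,0,0,2,2]] (by decide +kernel)
theorem spec {G : Type u} [Group G] (h : Mdl G 3 Rf 175560) : Set.range (orderOf : G → ℕ) = {n | ∃ m ∈ [6,7,10,11,15,19], n ∣ m} :=
  (iso h).elim fun e => (CfsgH8.range_orderOf_congr e).symm.trans spec0

end CfsgH7.J1m.Sp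

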