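import Cfsg.Agent.H7.Mult3
import Cfsg.Agent.H7.Spec
import Cfsg.Agent.H7.Mu.J2

set_option autoImplicit false
set_option maxRecDepth 100000

universe u

open scoped Pointwise

namespace CfsgH7.J2m.Sp

open CfsgH7.J2m

def SL : List Nat := [7,8,10,12,15]
def s3S : List (List Nat) := [[1,1,3,1,4,0,2,4,1,2,1,2],[4,0,4,0,2,1,2,0,4,0,2],[1,3,1,2,2,1,3,0]]
theorem s3P : Pc (fun j => wprod g0 (wordAt s3S j)) 3 s3S.length :=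
  M0.pc [[],[],[]] [[], [[2,4]], [[4],[4]]] (by decide +kernel) (M0.ge s3S [⟨0, [[0],[2]], [0,1,0,1,0,1,0], 27⟩] 7 (by decide +kernel))
def c3_0C : List Lvl := [⟨38, [[0],[2],[4]], [0,1,2,0,1,0,2,0,1,0,2], 100⟩,
  ⟨81, [[1,1,3],[1,3,4]], [0,1,0,1,0,1,0,0,0], 36⟩,
  ⟨10, [[2,1,4,1,3,4],[0,4,0,2,2,1,4,1],[3,4,0,2,1,4]], [0,0,1,0,2], 7⟩,
  ⟨66, [[2,1,3,4,1,4],[3,1,2,2,0,2]], [0,1], 4⟩,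
  ⟨79, [[3,4,0,2,1,2,0,2,1,4],[0,2,2,1,3,1,3,1,4,0,2]], [0,1], 3⟩,
  ⟨46, [[1,1,2,4,0,3,4,1,2,0,3]], [0], 2⟩]
def c3_0M : List (List Nat) := [[],
  [0x200001000000040004040408],
  [0x80040000400000000100],
  [0x80000000400000000100],
  [0x400000000100],
  []]
def c3_0Z : List Nat := [0xfffffffffffffffffffffffff]
theorem c3_0L : LvOk G0 (finPt 100) 100 [] (mkLV c3_0C c3_0M) := M0.lvOk c3_0C 7 c3_0M (by decide +kernel) (by decide +kernel)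
noncomputable def c3_0T : Bt := (.br 0 [[0]] [0,0] (Bt.ofL [(38, [], (.step 0 0 [] (.step 0 0 [] (.br 0 [] [] (Bt.ofL [(66, [], (.br 0 [] [] (Bt.ofL [(79, [], (.br 0 [] [] (Bt.ofL [(46, [], (.leaf 0)),
 (8, [1,1,2,4,0,3,4,1,2,0,3], (.leaf 1))]))),
 (8, [3,4,0,2,1,2,0,2,1,4], (.br 0 [] [] (Bt.ofL [(46, [], (.leaf 2)),
 (79, [1,1,2,4,0,3,4,1,2,0,3], (.leaf 3))]))),
 (46, [0,2,2,1,3,1,3,1,4,0,2], (.br 0 [] [] (Bt.ofL [(79, [], (.leaf 4)),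
 (8, [1,1,2,4,0,3,4,1,2,0,3], (.leaf 5))])))]))),
 (8, [3,1,2,2,0,2], (.br 0 [] [] (Bt.ofL [(46, [], (.br 0 [] [] (Bt.ofL [(79, [], (.leaf 6)),
 (66, [1,1,2,4,0,3,4,1,2,0,3], (.leaf 7))]))),
 (66, [3,4,0,2,1,2,0,2,1,4], (.br 0 [] [] (Bt.ofL [(79, [], (.leaf 8)),
 (46, [1,1,2,4,0,3,4,1,2,0,3], (.leaf 9))]))),
 (79, [0,2,2,1,3,1,3,1,4,0,2], (.br 0 [] [] (Bt.ofL [(46, [], (.leaf 10)),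
 (66, [1,1,2,4,0,3,4,1,2,0,3], (.leaf 11))])))]))),
 (46, [3,1,2,2,0,2,2,1,3,4,1,4], (.br 0 [] [] (Bt.ofL [(8, [], (.br 0 [] [] (Bt.ofL [(66, [], (.leaf 12)),
 (79, [1,1,2,4,0,3,4,1,2,0,3], (.leaf 13))]))),
 (79, [3,4,0,2,1,2,0,2,1,4], (.br 0 [] [] (Bt.ofL [(66, [], (.leaf 14)),
 (8, [1,1,2,4,0,3,4,1,2,0,3], (.leaf 15))]))),
 (66, [0,2,2,1,3,1,3,1,4,0,2], (.br 0 [] [] (Bt.ofL [(8, [], (.leaf 16)),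
 (79, [1,1,2,4,0,3,4,1,2,0,3], (.leaf 17))])))]))),
 (79, [2,1,3,4,1,4], (.br 0 [] [] (Bt.ofL [(66, [], (.br 0 [] [] (Bt.ofL [(8, [], (.leaf 18)),
 (46, [1,1,2,4,0,3,4,1,2,0,3], (.leaf 19))]))),
 (46, [3,4,0,2,1,2,0,2,1,4], (.br 0 [] [] (Bt.ofL [(8, [], (.leaf 20)),
 (66, [1,1,2,4,0,3,4,1,2,0,3], (.leaf 21))]))),
 (8, [0,2,2,1,3,1,3,1,4,0,2], (.br 0 [] [] (Bt.ofL [(66, [], (.leaf 22)),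
 (46, [1,1,2,4,0,3,4,1,2,0,3], (.leaf 23))])))])))]))))),
 (67, [0,4,3,1], (.step 0 0 [3,4,0,2,1,2,0,2,1,4,1,3,4] (.step 0 0 [0,4,0,2,2,1,4,1,2,1,4,1,3,4] (.br 0 [] [] (Bt.ofL [(94, [], (.br 0 [] [] (Bt.ofL [(56, [], (.br 0 [] [] (Bt.ofL [(8, [], (.leaf 24)),
 (76, [1,1,2,4,0,3,4,1,2,0,3], (.leaf 25))]))),
 (76, [3,4,0,2,1,2,0,2,1,4], (.br 0 [] [] (Bt.ofL [(8, [], (.leaf 26)),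
 (56, [1,1,2,4,0,3,4,1,2,0,3], (.leaf 27))]))),
 (8, [0,2,2,1,3,1,3,1,4,0,2], (.br 0 [] [] (Bt.ofL [(56, [], (.leaf 28)),
 (76, [1,1,2,4,0,3,4,1,2,0,3], (.leaf 29))])))]))),
 (76, [3,1,2,2,0,2], (.br 0 [] [] (Bt.ofL [(8, [], (.br 0 [] [] (Bt.ofL [(56, [], (.leaf 30)),
 (94, [1,1,2,4,0,3,4,1,2,0,3], (.leaf 31))]))),
 (94, [3,4,0,2,1,2,0,2,1,4], (.br 0 [] [] (Bt.ofL [(56, [], (.leaf 32)),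
 (8, [1,1,2,4,0,3,4,1,2,0,3], (.leaf 33))]))),
 (56, [0,2,2,1,3,1,3,1,4,0,2], (.br 0 [] [] (Bt.ofL [(8, [], (.leaf 34)),
 (94, [1,1,2,4,0,3,4,1,2,0,3], (.leaf 35))])))]))),
 (8, [3,1,2,2,0,2,2,1,3,4,1,4], (.br 0 [] [] (Bt.ofL [(76, [], (.br 0 [] [] (Bt.ofL [(94, [], (.leaf 36)),
 (56, [1,1,2,4,0,3,4,1,2,0,3], (.leaf 37))]))),
 (56, [3,4,0,2,1,2,0,2,1,4], (.br 0 [] [] (Bt.ofL [(94, [], (.leaf 38)),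
 (76, [1,1,2,4,0,3,4,1,2,0,3], (.leaf 39))]))),
 (94, [0,2,2,1,3,1,3,1,4,0,2], (.br 0 [] [] (Bt.ofL [(76, [], (.leaf 40)),
 (56, [1,1,2,4,0,3,4,1,2,0,3], (.leaf 41))])))]))),
 (56, [2,1,3,4,1,4], (.br 0 [] [] (Bt.ofL [(94, [], (.br 0 [] [] (Bt.ofL [(76, [], (.leaf 42)),
 (8, [1,1,2,4,0,3,4,1,2,0,3], (.leaf 43))]))),
 (8, [3,4,0,2,1,2,0,2,1,4], (.br 0 [] [] (Bt.ofL [(76, [], (.leaf 44)),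
 (94, [1,1,2,4,0,3,4,1,2,0,3], (.leaf 45))]))),
 (76, [0,2,2,1,3,1,3,1,4,0,2], (.br 0 [] [] (Bt.ofL [(94, [], (.leaf 46)),
 (8, [1,1,2,4,0,3,4,1,2,0,3], (.leaf 47))])))])))]))))),
 (1, [3,0,3,1], (.step 0 0 [4,2,0,2,0,0] (.dead 0 0 0))),
 (2, [1,4,1,2], (.step 0 0 [4,2,1,2,4,0,3,4,1,2,0,3,1,1,3] (.dead 0 0 0))),
 (51, [1,3,1], (.step 0 0 [1,1,3,1,1,3,1,1,3] (.step 0 0 [] (.br 0 [] [] (Bt.ofL [(94, [], (.br 0 [] [] (Bt.ofL [(82, [], (.br 0 [] [] (Bt.ofL [(79, [], (.leaf 48)),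
 (8, [1,1,2,4,0,3,4,1,2,0,3], (.leaf 49))]))),
 (8, [3,4,0,2,1,2,0,2,1,4], (.br 0 [] [] (Bt.ofL [(79, [], (.leaf 50)),
 (82, [1,1,2,4,0,3,4,1,2,0,3], (.leaf 51))]))),
 (79, [0,2,2,1,3,1,3,1,4,0,2], (.br 0 [] [] (Bt.ofL [(82, [], (.leaf 52)),
 (8, [1,1,2,4,0,3,4,1,2,0,3], (.leaf 53))])))]))),
 (8, [3,1,2,2,0,2], (.br 0 [] [] (Bt.ofL [(79, [], (.br 0 [] [] (Bt.ofL [(82, [], (.leaf 54)),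
 (94, [1,1,2,4,0,3,4,1,2,0,3], (.leaf 55))]))),
 (94, [3,4,0,2,1,2,0,2,1,4], (.br 0 [] [] (Bt.ofL [(82, [], (.leaf 56)),
 (79, [1,1,2,4,0,3,4,1,2,0,3], (.leaf 57))]))),
 (82, [0,2,2,1,3,1,3,1,4,0,2], (.br 0 [] [] (Bt.ofL [(79, [], (.leaf 58)),
 (94, [1,1,2,4,0,3,4,1,2,0,3], (.leaf 59))])))]))),
 (79, [3,1,2,2,0,2,2,1,3,4,1,4], (.br 0 [] [] (Bt.ofL [(8, [], (.br 0 [] [] (Bt.ofL [(94, [], (.leaf 60)),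
 (82, [1,1,2,4,0,3,4,1,2,0,3], (.leaf 61))]))),
 (82, [3,4,0,2,1,2,0,2,1,4], (.br 0 [] [] (Bt.ofL [(94, [], (.leaf 62)),
 (8, [1,1,2,4,0,3,4,1,2,0,3], (.leaf 63))]))),
 (94, [0,2,2,1,3,1,3,1,4,0,2], (.br 0 [] [] (Bt.ofL [(8, [], (.leaf 64)),
 (82, [1,1,2,4,0,3,4,1,2,0,3], (.leaf 65))])))]))),
 (82, [2,1,3,4,1,4], (.br 0 [] [] (Bt.ofL [(94, [], (.br 0 [] [] (Bt.ofL [(8, [], (.leaf 66)),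
 (79, [1,1,2,4,0,3,4,1,2,0,3], (.leaf 67))]))),
 (79, [3,4,0,2,1,2,0,2,1,4], (.br 0 [] [] (Bt.ofL [(8, [], (.leaf 68)),
 (94, [1,1,2,4,0,3,4,1,2,0,3], (.leaf 69))]))),
 (8, [0,2,2,1,3,1,3,1,4,0,2], (.br 0 [] [] (Bt.ofL [(94, [], (.leaf 70)),
 (79, [1,1,2,4,0,3,4,1,2,0,3], (.leaf 71))])))])))]))))),
 (4, [0], (.step 0 0 [1,1,2,4,0,3,4,1,2,0,3,4,2,0] (.step 0 0 [0,2,2,1,3,1,3,1,4,0,2,4,2,0,4,0,3] (.br 0 [] [] (Bt.ofL [(94, [], (.br 0 [] [] (Bt.ofL [(79, [], (.br 0 [] [] (Bt.ofL [(35, [], (.leaf 72)),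
 (71, [1,1,2,4,0,3,4,1,2,0,3], (.leaf 73))]))),
 (71, [3,4,0,2,1,2,0,2,1,4], (.br 0 [] [] (Bt.ofL [(35, [], (.leaf 74)),
 (79, [1,1,2,4,0,3,4,1,2,0,3], (.leaf 75))]))),
 (35, [0,2,2,1,3,1,3,1,4,0,2], (.br 0 [] [] (Bt.ofL [(79, [], (.leaf 76)),
 (71, [1,1,2,4,0,3,4,1,2,0,3], (.leaf 77))])))]))),
 (71, [3,1,2,2,0,2], (.br 0 [] [] (Bt.ofL [(35, [], (.br 0 [] [] (Bt.ofL [(79, [], (.leaf 78)),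
 (94, [1,1,2,4,0,3,4,1,2,0,3], (.leaf 79))]))),
 (94, [3,4,0,2,1,2,0,2,1,4], (.br 0 [] [] (Bt.ofL [(79, [], (.leaf 80)),
 (35, [1,1,2,4,0,3,4,1,2,0,3], (.leaf 81))]))),
 (79, [0,2,2,1,3,1,3,1,4,0,2], (.br 0 [] [] (Bt.ofL [(35, [], (.leaf 82)),
 (94, [1,1,2,4,0,3,4,1,2,0,3], (.leaf 83))])))]))),
 (35, [3,1,2,2,0,2,2,1,3,4,1,4], (.br 0 [] [] (Bt.ofL [(71, [], (.br 0 [] [] (Bt.ofL [(94, [], (.leaf 84)),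
 (79, [1,1,2,4,0,3,4,1,2,0,3], (.leaf 85))]))),
 (79, [3,4,0,2,1,2,0,2,1,4], (.br 0 [] [] (Bt.ofL [(94, [], (.leaf 86)),
 (71, [1,1,2,4,0,3,4,1,2,0,3], (.leaf 87))]))),
 (94, [0,2,2,1,3,1,3,1,4,0,2], (.br 0 [] [] (Bt.ofL [(71, [], (.leaf 88)),
 (79, [1,1,2,4,0,3,4,1,2,0,3], (.leaf 89))])))]))),
 (79, [2,1,3,4,1,4], (.br 0 [] [] (Bt.ofL [(94, [], (.br 0 [] [] (Bt.ofL [(71, [], (.leaf 90)),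
 (35, [1,1,2,4,0,3,4,1,2,0,3], (.leaf 91))]))),
 (35, [3,4,0,2,1,2,0,2,1,4], (.br 0 [] [] (Bt.ofL [(71, [], (.leaf 92)),
 (94, [1,1,2,4,0,3,4,1,2,0,3], (.leaf 93))]))),
 (71, [0,2,2,1,3,1,3,1,4,0,2], (.br 0 [] [] (Bt.ofL [(94, [], (.leaf 94)),
 (35, [1,1,2,4,0,3,4,1,2,0,3], (.leaf 95))])))])))]))))),
 (65, [2,1,2], (.step 0 0 [0,2,2,1,3,1,3,1,4,0,2,4,2,0,4,0,3,1,1,3] (.dead 0 0 0))),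
 (62, [4], (.step 0 0 [1,1,3,1,3,4,1,1,3] (.step 0 0 [4,2,0,4,0,3] (.br 0 [] [] (Bt.ofL [(35, [], (.br 0 [] [] (Bt.ofL [(94, [], (.br 0 [] [] (Bt.ofL [(66, [], (.leaf 96)),
 (56, [1,1,2,4,0,3,4,1,2,0,3], (.leaf 97))]))),
 (56, [3,4,0,2,1,2,0,2,1,4], (.br 0 [] [] (Bt.ofL [(66, [], (.leaf 98)),
 (94, [1,1,2,4,0,3,4,1,2,0,3], (.leaf 99))]))),
 (66, [0,2,2,1,3,1,3,1,4,0,2], (.br 0 [] [] (Bt.ofL [(94, [], (.leaf 100)),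
 (56, [1,1,2,4,0,3,4,1,2,0,3], (.leaf 101))])))]))),
 (56, [3,1,2,2,0,2], (.br 0 [] [] (Bt.ofL [(66, [], (.br 0 [] [] (Bt.ofL [(94, [], (.leaf 102)),
 (35, [1,1,2,4,0,3,4,1,2,0,3], (.leaf 103))]))),
 (35, [3,4,0,2,1,2,0,2,1,4], (.br 0 [] [] (Bt.ofL [(94, [], (.leaf 104)),
 (66, [1,1,2,4,0,3,4,1,2,0,3], (.leaf 105))]))),
 (94, [0,2,2,1,3,1,3,1,4,0,2], (.br 0 [] [] (Bt.ofL [(66, [], (.leaf 106)),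
 (35, [1,1,2,4,0,3,4,1,2,0,3], (.leaf 107))])))]))),
 (66, [3,1,2,2,0,2,2,1,3,4,1,4], (.br 0 [] [] (Bt.ofL [(56, [], (.br 0 [] [] (Bt.ofL [(35, [], (.leaf 108)),
 (94, [1,1,2,4,0,3,4,1,2,0,3], (.leaf 109))]))),
 (94, [3,4,0,2,1,2,0,2,1,4], (.br 0 [] [] (Bt.ofL [(35, [], (.leaf 110)),
 (56, [1,1,2,4,0,3,4,1,2,0,3], (.leaf 111))]))),
 (35, [0,2,2,1,3,1,3,1,4,0,2], (.br 0 [] [] (Bt.ofL [(56, [], (.leaf 112)),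
 (94, [1,1,2,4,0,3,4,1,2,0,3], (.leaf 113))])))]))),
 (94, [2,1,3,4,1,4], (.br 0 [] [] (Bt.ofL [(35, [], (.br 0 [] [] (Bt.ofL [(56, [], (.leaf 114)),
 (66, [1,1,2,4,0,3,4,1,2,0,3], (.leaf 115))]))),
 (66, [3,4,0,2,1,2,0,2,1,4], (.br 0 [] [] (Bt.ofL [(56, [], (.leaf 116)),
 (35, [1,1,2,4,0,3,4,1,2,0,3], (.leaf 117))]))),
 (56, [0,2,2,1,3,1,3,1,4,0,2], (.br 0 [] [] (Bt.ofL [(35, [], (.leaf 118)),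
 (66, [1,1,2,4,0,3,4,1,2,0,3], (.leaf 119))])))])))]))))),
 (9, [4,3], (.step 0 0 [1,3,4] (.dead 0 0 0))),
 (11, [2], (.step 0 0 [4,2,0,4,0,0,0] (.dead 0 0 0))),
 (12, [1,1,2], (.step 0 0 [3,4,0,2,1,2,0,2,1,4,1,3,4] (.dead 0 0 0))),
 (29, [1,2,1], (.step 0 0 [2,0,0] (.dead 0 0 0))),
 (17, [0,2,1], (.step 0 0 [1,1,3,1,1,3,1,1,3] (.step 0 0 [] (.br 0 [] [] (Bt.ofL [(82, [], (.br 0 [] [] (Bt.ofL [(46, [], (.br 0 [] [] (Bt.ofL [(35, [], (.leaf 120)),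
 (56, [1,1,2,4,0,3,4,1,2,0,3], (.leaf 121))]))),
 (56, [3,4,0,2,1,2,0,2,1,4], (.br 0 [] [] (Bt.ofL [(35, [], (.leaf 122)),
 (46, [1,1,2,4,0,3,4,1,2,0,3], (.leaf 123))]))),
 (35, [0,2,2,1,3,1,3,1,4,0,2], (.br 0 [] [] (Bt.ofL [(46, [], (.leaf 124)),
 (56, [1,1,2,4,0,3,4,1,2,0,3], (.leaf 125))])))]))),
 (56, [3,1,2,2,0,2], (.br 0 [] [] (Bt.ofL [(35, [], (.br 0 [] [] (Bt.ofL [(46, [], (.leaf 126)),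
 (82, [1,1,2,4,0,3,4,1,2,0,3], (.leaf 127))]))),
 (82, [3,4,0,2,1,2,0,2,1,4], (.br 0 [] [] (Bt.ofL [(46, [], (.leaf 128)),
 (35, [1,1,2,4,0,3,4,1,2,0,3], (.leaf 129))]))),
 (46, [0,2,2,1,3,1,3,1,4,0,2], (.br 0 [] [] (Bt.ofL [(35, [], (.leaf 130)),
 (82, [1,1,2,4,0,3,4,1,2,0,3], (.leaf 131))])))]))),
 (35, [3,1,2,2,0,2,2,1,3,4,1,4], (.br 0 [] [] (Bt.ofL [(56, [], (.br 0 [] [] (Bt.ofL [(82, [], (.leaf 132)),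
 (46, [1,1,2,4,0,3,4,1,2,0,3], (.leaf 133))]))),
 (46, [3,4,0,2,1,2,0,2,1,4], (.br 0 [] [] (Bt.ofL [(82, [], (.leaf 134)),
 (56, [1,1,2,4,0,3,4,1,2,0,3], (.leaf 135))]))),
 (82, [0,2,2,1,3,1,3,1,4,0,2], (.br 0 [] [] (Bt.ofL [(56, [], (.leaf 136)),
 (46, [1,1,2,4,0,3,4,1,2,0,3], (.leaf 137))])))]))),
 (46, [2,1,3,4,1,4], (.br 0 [] [] (Bt.ofL [(82, [], (.br 0 [] [] (Bt.ofL [(56, [], (.leaf 138)),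
 (35, [1,1,2,4,0,3,4,1,2,0,3], (.leaf 139))]))),
 (35, [3,4,0,2,1,2,0,2,1,4], (.br 0 [] [] (Bt.ofL [(56, [], (.leaf 140)),
 (82, [1,1,2,4,0,3,4,1,2,0,3], (.leaf 141))]))),
 (56, [0,2,2,1,3,1,3,1,4,0,2], (.br 0 [] [] (Bt.ofL [(82, [], (.leaf 142)),
 (35, [1,1,2,4,0,3,4,1,2,0,3], (.leaf 143))])))])))]))))),
 (18, [3], (.step 0 0 [4,2,1,3,1,1,3] (.step 0 0 [4,2,0,4,0,3] (.br 0 [] [] (Bt.ofL [(71, [], (.br 0 [] [] (Bt.ofL [(56, [], (.br 0 [] [] (Bt.ofL [(46, [], (.leaf 144)),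
 (8, [1,1,2,4,0,3,4,1,2,0,3], (.leaf 145))]))),
 (8, [3,4,0,2,1,2,0,2,1,4], (.br 0 [] [] (Bt.ofL [(46, [], (.leaf 146)),
 (56, [1,1,2,4,0,3,4,1,2,0,3], (.leaf 147))]))),
 (46, [0,2,2,1,3,1,3,1,4,0,2], (.br 0 [] [] (Bt.ofL [(56, [], (.leaf 148)),
 (8, [1,1,2,4,0,3,4,1,2,0,3], (.leaf 149))])))]))),
 (8, [3,1,2,2,0,2], (.br 0 [] [] (Bt.ofL [(46, [], (.br 0 [] [] (Bt.ofL [(56, [], (.leaf 150)),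
 (71, [1,1,2,4,0,3,4,1,2,0,3], (.leaf 151))]))),
 (71, [3,4,0,2,1,2,0,2,1,4], (.br 0 [] [] (Bt.ofL [(56, [], (.leaf 152)),
 (46, [1,1,2,4,0,3,4,1,2,0,3], (.leaf 153))]))),
 (56, [0,2,2,1,3,1,3,1,4,0,2], (.br 0 [] [] (Bt.ofL [(46, [], (.leaf 154)),
 (71, [1,1,2,4,0,3,4,1,2,0,3], (.leaf 155))])))]))),
 (46, [3,1,2,2,0,2,2,1,3,4,1,4], (.br 0 [] [] (Bt.ofL [(8, [], (.br 0 [] [] (Bt.ofL [(71, [], (.leaf 156)),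
 (56, [1,1,2,4,0,3,4,1,2,0,3], (.leaf 157))]))),
 (56, [3,4,0,2,1,2,0,2,1,4], (.br 0 [] [] (Bt.ofL [(71, [], (.leaf 158)),
 (8, [1,1,2,4,0,3,4,1,2,0,3], (.leaf 159))]))),
 (71, [0,2,2,1,3,1,3,1,4,0,2], (.br 0 [] [] (Bt.ofL [(8, [], (.leaf 160)),
 (56, [1,1,2,4,0,3,4,1,2,0,3], (.leaf 161))])))]))),
 (56, [2,1,3,4,1,4], (.br 0 [] [] (Bt.ofL [(71, [], (.br 0 [] [] (Bt.ofL [(8, [], (.leaf 162)),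
 (46, [1,1,2,4,0,3,4,1,2,0,3], (.leaf 163))]))),
 (46, [3,4,0,2,1,2,0,2,1,4], (.br 0 [] [] (Bt.ofL [(8, [], (.leaf 164)),
 (71, [1,1,2,4,0,3,4,1,2,0,3], (.leaf 165))]))),
 (8, [0,2,2,1,3,1,3,1,4,0,2], (.br 0 [] [] (Bt.ofL [(71, [], (.leaf 166)),
 (46, [1,1,2,4,0,3,4,1,2,0,3], (.leaf 167))])))])))]))))),
 (96, [0,4,0,4], (.step 0 0 [2,0,3,4,1,1,3] (.dead 0 0 0))),
 (20, [4,1,2], (.step 0 0 [1,3,4,1,3,4,1,1,3] (.dead 0 0 0))),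
 (72, [1,1], (.step 0 0 [4,0,3,1,4,2,1,3,4] (.step 0 0 [2,1,4,1,3,4] (.br 0 [] [] (Bt.ofL [(56, [], (.br 0 [] [] (Bt.ofL [(79, [], (.br 0 [] [] (Bt.ofL [(71, [], (.leaf 168)),
 (66, [1,1,2,4,0,3,4,1,2,0,3], (.leaf 169))]))),
 (66, [3,4,0,2,1,2,0,2,1,4], (.br 0 [] [] (Bt.ofL [(71, [], (.leaf 170)),
 (79, [1,1,2,4,0,3,4,1,2,0,3], (.leaf 171))]))),
 (71, [0,2,2,1,3,1,3,1,4,0,2], (.br 0 [] [] (Bt.ofL [(79, [], (.leaf 172)),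
 (66, [1,1,2,4,0,3,4,1,2,0,3], (.leaf 173))])))]))),
 (66, [3,1,2,2,0,2], (.br 0 [] [] (Bt.ofL [(71, [], (.br 0 [] [] (Bt.ofL [(79, [], (.leaf 174)),
 (56, [1,1,2,4,0,3,4,1,2,0,3], (.leaf 175))]))),
 (56, [3,4,0,2,1,2,0,2,1,4], (.br 0 [] [] (Bt.ofL [(79, [], (.leaf 176)),
 (71, [1,1,2,4,0,3,4,1,2,0,3], (.leaf 177))]))),
 (79, [0,2,2,1,3,1,3,1,4,0,2], (.br 0 [] [] (Bt.ofL [(71, [], (.leaf 178)),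
 (56, [1,1,2,4,0,3,4,1,2,0,3], (.leaf 179))])))]))),
 (71, [3,1,2,2,0,2,2,1,3,4,1,4], (.br 0 [] [] (Bt.ofL [(66, [], (.br 0 [] [] (Bt.ofL [(56, [], (.leaf 180)),
 (79, [1,1,2,4,0,3,4,1,2,0,3], (.leaf 181))]))),
 (79, [3,4,0,2,1,2,0,2,1,4], (.br 0 [] [] (Bt.ofL [(56, [], (.leaf 182)),
 (66, [1,1,2,4,0,3,4,1,2,0,3], (.leaf 183))]))),
 (56, [0,2,2,1,3,1,3,1,4,0,2], (.br 0 [] [] (Bt.ofL [(66, [], (.leaf 184)),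
 (79, [1,1,2,4,0,3,4,1,2,0,3], (.leaf 185))])))]))),
 (79, [2,1,3,4,1,4], (.br 0 [] [] (Bt.ofL [(56, [], (.br 0 [] [] (Bt.ofL [(66, [], (.leaf 186)),
 (71, [1,1,2,4,0,3,4,1,2,0,3], (.leaf 187))]))),
 (71, [3,4,0,2,1,2,0,2,1,4], (.br 0 [] [] (Bt.ofL [(66, [], (.leaf 188)),
 (56, [1,1,2,4,0,3,4,1,2,0,3], (.leaf 189))]))),
 (66, [0,2,2,1,3,1,3,1,4,0,2], (.br 0 [] [] (Bt.ofL [(56, [], (.leaf 190)),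
 (71, [1,1,2,4,0,3,4,1,2,0,3], (.leaf 191))])))])))]))))),
 (26, [2,2,1], (.step 0 0 [2,0,0] (.step 0 0 [] (.br 0 [] [] (Bt.ofL [(46, [], (.br 0 [] [] (Bt.ofL [(82, [], (.br 0 [] [] (Bt.ofL [(66, [], (.leaf 192)),
 (94, [1,1,2,4,0,3,4,1,2,0,3], (.leaf 193))]))),
 (94, [3,4,0,2,1,2,0,2,1,4], (.br 0 [] [] (Bt.ofL [(66, [], (.leaf 194)),
 (82, [1,1,2,4,0,3,4,1,2,0,3], (.leaf 195))]))),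
 (66, [0,2,2,1,3,1,3,1,4,0,2], (.br 0 [] [] (Bt.ofL [(82, [], (.leaf 196)),
 (94, [1,1,2,4,0,3,4,1,2,0,3], (.leaf 197))])))]))),
 (94, [3,1,2,2,0,2], (.br 0 [] [] (Bt.ofL [(66, [], (.br 0 [] [] (Bt.ofL [(82, [], (.leaf 198)),
 (46, [1,1,2,4,0,3,4,1,2,0,3], (.leaf 199))]))),
 (46, [3,4,0,2,1,2,0,2,1,4], (.br 0 [] [] (Bt.ofL [(82, [], (.leaf 200)),
 (66, [1,1,2,4,0,3,4,1,2,0,3], (.leaf 201))]))),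
 (82, [0,2,2,1,3,1,3,1,4,0,2], (.br 0 [] [] (Bt.ofL [(66, [], (.leaf 202)),
 (46, [1,1,2,4,0,3,4,1,2,0,3], (.leaf 203))])))]))),
 (66, [3,1,2,2,0,2,2,1,3,4,1,4], (.br 0 [] [] (Bt.ofL [(94, [], (.br 0 [] [] (Bt.ofL [(46, [], (.leaf 204)),
 (82, [1,1,2,4,0,3,4,1,2,0,3], (.leaf 205))]))),
 (82, [3,4,0,2,1,2,0,2,1,4], (.br 0 [] [] (Bt.ofL [(46, [], (.leaf 206)),
 (94, [1,1,2,4,0,3,4,1,2,0,3], (.leaf 207))]))),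
 (46, [0,2,2,1,3,1,3,1,4,0,2], (.br 0 [] [] (Bt.ofL [(94, [], (.leaf 208)),
 (82, [1,1,2,4,0,3,4,1,2,0,3], (.leaf 209))])))]))),
 (82, [2,1,3,4,1,4], (.br 0 [] [] (Bt.ofL [(46, [], (.br 0 [] [] (Bt.ofL [(94, [], (.leaf 210)),
 (66, [1,1,2,4,0,3,4,1,2,0,3], (.leaf 211))]))),
 (66, [3,4,0,2,1,2,0,2,1,4], (.br 0 [] [] (Bt.ofL [(94, [], (.leaf 212)),
 (46, [1,1,2,4,0,3,4,1,2,0,3], (.leaf 213))]))),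
 (94, [0,2,2,1,3,1,3,1,4,0,2], (.br 0 [] [] (Bt.ofL [(46, [], (.leaf 214)),
 (66, [1,1,2,4,0,3,4,1,2,0,3], (.leaf 215))])))])))]))))),
 (27, [4,3,1,2], (.step 0 0 [2,0,0] (.dead 0 0 0))),
 (30, [4,0,2,1], (.step 0 0 [1,3,4,2,0,0] (.step 0 0 [4,2,0,4,0,3] (.br 0 [] [] (Bt.ofL [(46, [], (.br 0 [] [] (Bt.ofL [(35, [], (.br 0 [] [] (Bt.ofL [(76, [], (.leaf 216)),
 (79, [1,1,2,4,0,3,4,1,2,0,3], (.leaf 217))]))),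
 (79, [3,4,0,2,1,2,0,2,1,4], (.br 0 [] [] (Bt.ofL [(76, [], (.leaf 218)),
 (35, [1,1,2,4,0,3,4,1,2,0,3], (.leaf 219))]))),
 (76, [0,2,2,1,3,1,3,1,4,0,2], (.br 0 [] [] (Bt.ofL [(35, [], (.leaf 220)),
 (79, [1,1,2,4,0,3,4,1,2,0,3], (.leaf 221))])))]))),
 (79, [3,1,2,2,0,2], (.br 0 [] [] (Bt.ofL [(76, [], (.br 0 [] [] (Bt.ofL [(35, [], (.leaf 222)),
 (46, [1,1,2,4,0,3,4,1,2,0,3], (.leaf 223))]))),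
 (46, [3,4,0,2,1,2,0,2,1,4], (.br 0 [] [] (Bt.ofL [(35, [], (.leaf 224)),
 (76, [1,1,2,4,0,3,4,1,2,0,3], (.leaf 225))]))),
 (35, [0,2,2,1,3,1,3,1,4,0,2], (.br 0 [] [] (Bt.ofL [(76, [], (.leaf 226)),
 (46, [1,1,2,4,0,3,4,1,2,0,3], (.leaf 227))])))]))),
 (76, [3,1,2,2,0,2,2,1,3,4,1,4], (.br 0 [] [] (Bt.ofL [(79, [], (.br 0 [] [] (Bt.ofL [(46, [], (.leaf 228)),
 (35, [1,1,2,4,0,3,4,1,2,0,3], (.leaf 229))]))),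
 (35, [3,4,0,2,1,2,0,2,1,4], (.br 0 [] [] (Bt.ofL [(46, [], (.leaf 230)),
 (79, [1,1,2,4,0,3,4,1,2,0,3], (.leaf 231))]))),
 (46, [0,2,2,1,3,1,3,1,4,0,2], (.br 0 [] [] (Bt.ofL [(79, [], (.leaf 232)),
 (35, [1,1,2,4,0,3,4,1,2,0,3], (.leaf 233))])))]))),
 (35, [2,1,3,4,1,4], (.br 0 [] [] (Bt.ofL [(46, [], (.br 0 [] [] (Bt.ofL [(79, [], (.leaf 234)),
 (76, [1,1,2,4,0,3,4,1,2,0,3], (.leaf 235))]))),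
 (76, [3,4,0,2,1,2,0,2,1,4], (.br 0 [] [] (Bt.ofL [(79, [], (.leaf 236)),
 (46, [1,1,2,4,0,3,4,1,2,0,3], (.leaf 237))]))),
 (79, [0,2,2,1,3,1,3,1,4,0,2], (.br 0 [] [] (Bt.ofL [(46, [], (.leaf 238)),
 (76, [1,1,2,4,0,3,4,1,2,0,3], (.leaf 239))])))])))]))))),
 (31, [0,4,1], (.step 0 0 [1,3,4,1,3,4] (.step 0 0 [1,1,2,4,0,3,4,1,2,4,1,3,4] (.br 0 [] [] (Bt.ofL [(82, [], (.br 0 [] [] (Bt.ofL [(76, [], (.br 0 [] [] (Bt.ofL [(66, [], (.leaf 240)),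
 (71, [1,1,2,4,0,3,4,1,2,0,3], (.leaf 241))]))),
 (71, [3,4,0,2,1,2,0,2,1,4], (.br 0 [] [] (Bt.ofL [(66, [], (.leaf 242)),
 (76, [1,1,2,4,0,3,4,1,2,0,3], (.leaf 243))]))),
 (66, [0,2,2,1,3,1,3,1,4,0,2], (.br 0 [] [] (Bt.ofL [(76, [], (.leaf 244)),
 (71, [1,1,2,4,0,3,4,1,2,0,3], (.leaf 245))])))]))),
 (71, [3,1,2,2,0,2], (.br 0 [] [] (Bt.ofL [(66, [], (.br 0 [] [] (Bt.ofL [(76, [], (.leaf 246)),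
 (82, [1,1,2,4,0,3,4,1,2,0,3], (.leaf 247))]))),
 (82, [3,4,0,2,1,2,0,2,1,4], (.br 0 [] [] (Bt.ofL [(76, [], (.leaf 248)),
 (66, [1,1,2,4,0,3,4,1,2,0,3], (.leaf 249))]))),
 (76, [0,2,2,1,3,1,3,1,4,0,2], (.br 0 [] [] (Bt.ofL [(66, [], (.leaf 250)),
 (82, [1,1,2,4,0,3,4,1,2,0,3], (.leaf 251))])))]))),
 (66, [3,1,2,2,0,2,2,1,3,4,1,4], (.br 0 [] [] (Bt.ofL [(71, [], (.br 0 [] [] (Bt.ofL [(82, [], (.leaf 252)),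
 (76, [1,1,2,4,0,3,4,1,2,0,3], (.leaf 253))]))),
 (76, [3,4,0,2,1,2,0,2,1,4], (.br 0 [] [] (Bt.ofL [(82, [], (.leaf 254)),
 (71, [1,1,2,4,0,3,4,1,2,0,3], (.leaf 255))]))),
 (82, [0,2,2,1,3,1,3,1,4,0,2], (.br 0 [] [] (Bt.ofL [(71, [], (.leaf 256)),
 (76, [1,1,2,4,0,3,4,1,2,0,3], (.leaf 257))])))]))),
 (76, [2,1,3,4,1,4], (.br 0 [] [] (Bt.ofL [(82, [], (.br 0 [] [] (Bt.ofL [(71, [], (.leaf 258)),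
 (66, [1,1,2,4,0,3,4,1,2,0,3], (.leaf 259))]))),
 (66, [3,4,0,2,1,2,0,2,1,4], (.br 0 [] [] (Bt.ofL [(71, [], (.leaf 260)),
 (82, [1,1,2,4,0,3,4,1,2,0,3], (.leaf 261))]))),
 (71, [0,2,2,1,3,1,3,1,4,0,2], (.br 0 [] [] (Bt.ofL [(82, [], (.leaf 262)),
 (66, [1,1,2,4,0,3,4,1,2,0,3], (.leaf 263))])))])))]))))),
 (39, [1,4,1], (.step 0 0 [1,1,3] (.dead 0 0 0))),
 (34, [4,0,3,0], (.step 0 0 [4,2,1,3,1,1,3] (.dead 0 0 0))),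
 (37, [4,2,2,1], (.step 0 0 [2,1,4,1,3,4,1,1,3,1,1,3] (.dead 0 0 0))),
 (93, [4,2,1], (.step 0 0 [4,2,1,3] (.step 0 0 [0,4,0,2,2,1,4,1,2,1,4,1,3,4] (.br 0 [] [] (Bt.ofL [(76, [], (.br 0 [] [] (Bt.ofL [(66, [], (.br 0 [] [] (Bt.ofL [(8, [], (.leaf 264)),
 (35, [1,1,2,4,0,3,4,1,2,0,3], (.leaf 265))]))),
 (35, [3,4,0,2,1,2,0,2,1,4], (.br 0 [] [] (Bt.ofL [(8, [], (.leaf 266)),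
 (66, [1,1,2,4,0,3,4,1,2,0,3], (.leaf 267))]))),
 (8, [0,2,2,1,3,1,3,1,4,0,2], (.br 0 [] [] (Bt.ofL [(66, [], (.leaf 268)),
 (35, [1,1,2,4,0,3,4,1,2,0,3], (.leaf 269))])))]))),
 (35, [3,1,2,2,0,2], (.br 0 [] [] (Bt.ofL [(8, [], (.br 0 [] [] (Bt.ofL [(66, [], (.leaf 270)),
 (76, [1,1,2,4,0,3,4,1,2,0,3], (.leaf 271))]))),
 (76, [3,4,0,2,1,2,0,2,1,4], (.br 0 [] [] (Bt.ofL [(66, [], (.leaf 272)),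
 (8, [1,1,2,4,0,3,4,1,2,0,3], (.leaf 273))]))),
 (66, [0,2,2,1,3,1,3,1,4,0,2], (.br 0 [] [] (Bt.ofL [(8, [], (.leaf 274)),
 (76, [1,1,2,4,0,3,4,1,2,0,3], (.leaf 275))])))]))),
 (8, [3,1,2,2,0,2,2,1,3,4,1,4], (.br 0 [] [] (Bt.ofL [(35, [], (.br 0 [] [] (Bt.ofL [(76, [], (.leaf 276)),
 (66, [1,1,2,4,0,3,4,1,2,0,3], (.leaf 277))]))),
 (66, [3,4,0,2,1,2,0,2,1,4], (.br 0 [] [] (Bt.ofL [(76, [], (.leaf 278)),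
 (35, [1,1,2,4,0,3,4,1,2,0,3], (.leaf 279))]))),
 (76, [0,2,2,1,3,1,3,1,4,0,2], (.br 0 [] [] (Bt.ofL [(35, [], (.leaf 280)),
 (66, [1,1,2,4,0,3,4,1,2,0,3], (.leaf 281))])))]))),
 (66, [2,1,3,4,1,4], (.br 0 [] [] (Bt.ofL [(76, [], (.br 0 [] [] (Bt.ofL [(35, [], (.leaf 282)),
 (8, [1,1,2,4,0,3,4,1,2,0,3], (.leaf 283))]))),
 (8, [3,4,0,2,1,2,0,2,1,4], (.br 0 [] [] (Bt.ofL [(35, [], (.leaf 284)),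
 (76, [1,1,2,4,0,3,4,1,2,0,3], (.leaf 285))]))),
 (35, [0,2,2,1,3,1,3,1,4,0,2], (.br 0 [] [] (Bt.ofL [(76, [], (.leaf 286)),
 (8, [1,1,2,4,0,3,4,1,2,0,3], (.leaf 287))])))])))]))))),
 (43, [1], (.step 0 0 [1,1,3,1,1,3,1,1,3] (.dead 0 0 0))),
 (58, [4,1], (.step 0 0 [4,2,1,3] (.step 0 0 [] (.br 0 [] [] (Bt.ofL [(56, [], (.br 0 [] [] (Bt.ofL [(79, [], (.br 0 [] [] (Bt.ofL [(82, [], (.leaf 288)),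
 (76, [1,1,2,4,0,3,4,1,2,0,3], (.leaf 289))]))),
 (76, [3,4,0,2,1,2,0,2,1,4], (.br 0 [] [] (Bt.ofL [(82, [], (.leaf 290)),
 (79, [1,1,2,4,0,3,4,1,2,0,3], (.leaf 291))]))),
 (82, [0,2,2,1,3,1,3,1,4,0,2], (.br 0 [] [] (Bt.ofL [(79, [], (.leaf 292)),
 (76, [1,1,2,4,0,3,4,1,2,0,3], (.leaf 293))])))]))),
 (76, [3,1,2,2,0,2], (.br 0 [] [] (Bt.ofL [(82, [], (.br 0 [] [] (Bt.ofL [(79, [], (.leaf 294)),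
 (56, [1,1,2,4,0,3,4,1,2,0,3], (.leaf 295))]))),
 (56, [3,4,0,2,1,2,0,2,1,4], (.br 0 [] [] (Bt.ofL [(79, [], (.leaf 296)),
 (82, [1,1,2,4,0,3,4,1,2,0,3], (.leaf 297))]))),
 (79, [0,2,2,1,3,1,3,1,4,0,2], (.br 0 [] [] (Bt.ofL [(82, [], (.leaf 298)),
 (56, [1,1,2,4,0,3,4,1,2,0,3], (.leaf 299))])))]))),
 (82, [3,1,2,2,0,2,2,1,3,4,1,4], (.br 0 [] [] (Bt.ofL [(76, [], (.br 0 [] [] (Bt.ofL [(56, [], (.leaf 300)),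
 (79, [1,1,2,4,0,3,4,1,2,0,3], (.leaf 301))]))),
 (79, [3,4,0,2,1,2,0,2,1,4], (.br 0 [] [] (Bt.ofL [(56, [], (.leaf 302)),
 (76, [1,1,2,4,0,3,4,1,2,0,3], (.leaf 303))]))),
 (56, [0,2,2,1,3,1,3,1,4,0,2], (.br 0 [] [] (Bt.ofL [(76, [], (.leaf 304)),
 (79, [1,1,2,4,0,3,4,1,2,0,3], (.leaf 305))])))]))),
 (79, [2,1,3,4,1,4], (.br 0 [] [] (Bt.ofL [(56, [], (.br 0 [] [] (Bt.ofL [(76, [], (.leaf 306)),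
 (82, [1,1,2,4,0,3,4,1,2,0,3], (.leaf 307))]))),
 (82, [3,4,0,2,1,2,0,2,1,4], (.br 0 [] [] (Bt.ofL [(76, [], (.leaf 308)),
 (56, [1,1,2,4,0,3,4,1,2,0,3], (.leaf 309))]))),
 (76, [0,2,2,1,3,1,3,1,4,0,2], (.br 0 [] [] (Bt.ofL [(56, [], (.leaf 310)),
 (82, [1,1,2,4,0,3,4,1,2,0,3], (.leaf 311))])))])))]))))),
 (95, [2,1], (.step 0 0 [4,2,1,2,4,0,3,4,1,2,0,3,1,1,3] (.dead 0 0 0))),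
 (60, [2,1,4,1], (.step 0 0 [4,2,1,3,1,1,3] (.step 0 0 [0,2,2,1,3,1,3,1,4,0,2,4,2,0,4,0,3] (.br 0 [] [] (Bt.ofL [(71, [], (.br 0 [] [] (Bt.ofL [(94, [], (.br 0 [] [] (Bt.ofL [(46, [], (.leaf 312)),
 (76, [1,1,2,4,0,3,4,1,2,0,3], (.leaf 313))]))),
 (76, [3,4,0,2,1,2,0,2,1,4], (.br 0 [] [] (Bt.ofL [(46, [], (.leaf 314)),
 (94, [1,1,2,4,0,3,4,1,2,0,3], (.leaf 315))]))),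
 (46, [0,2,2,1,3,1,3,1,4,0,2], (.br 0 [] [] (Bt.ofL [(94, [], (.leaf 316)),
 (76, [1,1,2,4,0,3,4,1,2,0,3], (.leaf 317))])))]))),
 (76, [3,1,2,2,0,2], (.br 0 [] [] (Bt.ofL [(46, [], (.br 0 [] [] (Bt.ofL [(94, [], (.leaf 318)),
 (71, [1,1,2,4,0,3,4,1,2,0,3], (.leaf 319))]))),
 (71, [3,4,0,2,1,2,0,2,1,4], (.br 0 [] [] (Bt.ofL [(94, [], (.leaf 320)),
 (46, [1,1,2,4,0,3,4,1,2,0,3], (.leaf 321))]))),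
 (94, [0,2,2,1,3,1,3,1,4,0,2], (.br 0 [] [] (Bt.ofL [(46, [], (.leaf 322)),
 (71, [1,1,2,4,0,3,4,1,2,0,3], (.leaf 323))])))]))),
 (46, [3,1,2,2,0,2,2,1,3,4,1,4], (.br 0 [] [] (Bt.ofL [(76, [], (.br 0 [] [] (Bt.ofL [(71, [], (.leaf 324)),
 (94, [1,1,2,4,0,3,4,1,2,0,3], (.leaf 325))]))),
 (94, [3,4,0,2,1,2,0,2,1,4], (.br 0 [] [] (Bt.ofL [(71, [], (.leaf 326)),
 (76, [1,1,2,4,0,3,4,1,2,0,3], (.leaf 327))]))),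
 (71, [0,2,2,1,3,1,3,1,4,0,2], (.br 0 [] [] (Bt.ofL [(76, [], (.leaf 328)),
 (94, [1,1,2,4,0,3,4,1,2,0,3], (.leaf 329))])))]))),
 (94, [2,1,3,4,1,4], (.br 0 [] [] (Bt.ofL [(71, [], (.br 0 [] [] (Bt.ofL [(76, [], (.leaf 330)),
 (46, [1,1,2,4,0,3,4,1,2,0,3], (.leaf 331))]))),
 (46, [3,4,0,2,1,2,0,2,1,4], (.br 0 [] [] (Bt.ofL [(76, [], (.leaf 332)),
 (71, [1,1,2,4,0,3,4,1,2,0,3], (.leaf 333))]))),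
 (76, [0,2,2,1,3,1,3,1,4,0,2], (.br 0 [] [] (Bt.ofL [(71, [], (.leaf 334)),
 (46, [1,1,2,4,0,3,4,1,2,0,3], (.leaf 335))])))])))]))))),
 (91, [0,2], (.step 0 0 [4,2,1,2,4,0,3,4,1,2,0,3,1,1,3] (.step 0 0 [1,1,2,4,0,3,4,1,2,4,1,3,4] (.br 0 [] [] (Bt.ofL [(35, [], (.br 0 [] [] (Bt.ofL [(82, [], (.br 0 [] [] (Bt.ofL [(8, [], (.leaf 336)),
 (71, [1,1,2,4,0,3,4,1,2,0,3], (.leaf 337))]))),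
 (71, [3,4,0,2,1,2,0,2,1,4], (.br 0 [] [] (Bt.ofL [(8, [], (.leaf 338)),
 (82, [1,1,2,4,0,3,4,1,2,0,3], (.leaf 339))]))),
 (8, [0,2,2,1,3,1,3,1,4,0,2], (.br 0 [] [] (Bt.ofL [(82, [], (.leaf 340)),
 (71, [1,1,2,4,0,3,4,1,2,0,3], (.leaf 341))])))]))),
 (71, [3,1,2,2,0,2], (.br 0 [] [] (Bt.ofL [(8, [], (.br 0 [] [] (Bt.ofL [(82, [], (.leaf 342)),
 (35, [1,1,2,4,0,3,4,1,2,0,3], (.leaf 343))]))),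
 (35, [3,4,0,2,1,2,0,2,1,4], (.br 0 [] [] (Bt.ofL [(82, [], (.leaf 344)),
 (8, [1,1,2,4,0,3,4,1,2,0,3], (.leaf 345))]))),
 (82, [0,2,2,1,3,1,3,1,4,0,2], (.br 0 [] [] (Bt.ofL [(8, [], (.leaf 346)),
 (35, [1,1,2,4,0,3,4,1,2,0,3], (.leaf 347))])))]))),
 (8, [3,1,2,2,0,2,2,1,3,4,1,4], (.br 0 [] [] (Bt.ofL [(71, [], (.br 0 [] [] (Bt.ofL [(35, [], (.leaf 348)),
 (82, [1,1,2,4,0,3,4,1,2,0,3], (.leaf 349))]))),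
 (82, [3,4,0,2,1,2,0,2,1,4], (.br 0 [] [] (Bt.ofL [(35, [], (.leaf 350)),
 (71, [1,1,2,4,0,3,4,1,2,0,3], (.leaf 351))]))),
 (35, [0,2,2,1,3,1,3,1,4,0,2], (.br 0 [] [] (Bt.ofL [(71, [], (.leaf 352)),
 (82, [1,1,2,4,0,3,4,1,2,0,3], (.leaf 353))])))]))),
 (82, [2,1,3,4,1,4], (.br 0 [] [] (Bt.ofL [(35, [], (.br 0 [] [] (Bt.ofL [(71, [], (.leaf 354)),
 (8, [1,1,2,4,0,3,4,1,2,0,3], (.leaf 355))]))),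
 (8, [3,4,0,2,1,2,0,2,1,4], (.br 0 [] [] (Bt.ofL [(71, [], (.leaf 356)),
 (35, [1,1,2,4,0,3,4,1,2,0,3], (.leaf 357))]))),
 (71, [0,2,2,1,3,1,3,1,4,0,2], (.br 0 [] [] (Bt.ofL [(35, [], (.leaf 358)),
 (8, [1,1,2,4,0,3,4,1,2,0,3], (.leaf 359))])))])))])))))]))
def c3_0U : List (List Nat) := [[],[1,1,2,4,0,3,4,1,2,0,3],[3,4,0,2,1,2,0,2,1,4],[1,3,3,0,4,3,1,4,1,1,3,0],[0,2,2,1,3,1,3,1,4,0,2],[1,2,0,0,3,1,4,1,3,0,0,0],[3,1,2,2,0,2],[1,1,1,2,0,4,0,0,0],[4,2,0,2,1,2,0,4,0,3],[1,1,4,3,0,4,0,0,2,0],[1,3,1,1,2,1,4,1,4],[4,0,3,1,1,1,3,4,0,3,4],[2,1,2,2,0,3,4,0,2],[1,1,1,4,1,3,0,0,0],[4,2,1,3,3,1,2,2,1,2,4],[4,2,1,4,2,0,0,0,2,1,4],[1,1,2,1,1,3,0],[2,1,4,1,1,1,3,4,0,3,4],[2,1,3,4,1,4],[3,0,4,1,3,1,1,2,4,0,4],[2,1,4,1,3,0,3,1,3,4],[4,2,1,4,2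,0,0,0,4,0,3],[1,2,0,0,3,0,0],[1,3,1,1,4,1,2,4,0,0],[1,1,3,0,2,1,4,1,2],[1,3,1,2,0,0,0,3,4,1,1,1],[4,0,4,1,2,1,1,3,1,3,4,0,2],[4,1,3,0,3,1,4,1,4,1,1],[0,0,3,0,2,1,2,0,4,0,4],[3,1,4,1,1,3,0,3,0,3,0,3],[0,3,1,4,1,2,4,0,3,1,2,1],[4,1,1,1,4,2,0,3,0,3,4,0],[3,0,4,1,1,1,2,2,4,0,4],[1,1,1,2,0,4,0,0,3,1,2,1],[0,0,0,2,2,4,1,2,1,1,3],[3,0,4,3,3,1,1,1,2,2,4,0,4],[0,0,0,4,0,0,2,0,0,3],[0,4,0,0,4,1,2,1,1,3,1],[1,1,1,4,1,4,1,1,1],[2,1,1,4,0,3,1,1,4,1],[1,3,0,3,1,3,4,1,1,1],[2,1,3,0,2,0,3,0,4,1,2],[1,1,1,3,0,2,0,3,4,1,1,1],[0,3,1,2,0,0,4,0,4],[0,4,1,4,3,0,4,0,0,4,1],[1,1,1,2,2,4,1,4,1,1,1],[1,2,1,3,0,4,0,0,2,0,0,3],[4,0,4,0,0,3,1,3,1],[2,0,2,0,2,0,3,1,2],[3,1,4,1,3,1,2,0,0],[0,2,1,4,3,0,0,2,4,1,1,3],[4,3,1,3,3,1,2,2,1,3,4],[4,1,2,2,1,3,1,2,4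],[0,4,0,0,0,2,0,2,4,0],[2,0,2,1,1,1,2],[1,3,1,1,3,0,3,4,0,0,0],[4,0,4,1,3,0,2,2,1,4,0,0,0],[3,1,4,1,3,0,2,1,2,2,0],[0,3,3,0,3,0,4,0,2],[2,1,1,3,1,4,0,0,2,2,1],[2,1,2,1,2,0,2,1,4,0,2],[3,1,4,2,1,1,1,2,1,1,2],[2,0,3,1,3,4,0,4,0,2,1],[3,1,4,1,3,0,3,1,4,1,4],[3,3,0,2,2,0,3,0],[1,4,0,4,3,1,4,1,1,4,0],[0,2,0,0,0,2,0,0,4,1,4],[4,1,4,2,1,2,1,3,0,4,0,4],[2,1,1,3,1,4,0,2,1,3,1],[4,3,0,2,0,2,2,0,4],[1,3,1,2,1,1,3,1,2,1],[2,0,0,3,0,2,2,0,4,0,0,0],[2,2,0,2,1,1],[1,1,4,0,3,1,4,0,3,0,4,1],[4,1,4,0,3,0,3,1,2,2,4,0,2],[4,1,1,4,0,4,1,3,4,0,2,2],[3,0,3,0,0,4,1,2,2,0,3],[0,0,0,4,0,2,2,4,0,0,0],[1,2,1,1,3,0,2,0,0],[2,0,0,3,0,0,4,0,0,0],[4,1,4,0,0,3,1,1,1,3,1],[0,2,1,3,1,2,4,0,4,0,2,1],[4,0,4,1,2,0,4,1,1,1],[3,1,4,2,0,0,3,4,1,2],[1,2,0,0,0,2,0,2,4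,1,4],[2,0,0,3,0,4,1,1,2,2,0],[4,1,4,2,1,2,0,2,1,1],[1,1,4,1,1,2,1,1,3,1,1,4],[0,3,1,3,1,1],[0,0,0,3,1,2,2,0,4,0,0,0],[2,0,3,1,2,0,2,0,4,0,2],[1,2,1,1,3,1,4,0,0,4,0],[4,1,4,1,2,0,2,0,4,0,2],[0,4,2,0,2,0,3,4,1,1,1,4],[3,0,3,0,0,2,0,2],[1,1,1,4,0,3,1,4,0,4],[3,0,3,0,0,4,0,0,3,0,2],[2,1,3,1,1,2,1,2,4,0,2],[0,3,1,3,0,3,4,0,0,0],[0,0,2,0,2,2,1,3,0],[0,4,0,0,4,0,2,1,2,1,3],[2,0,4,0,3,0,0,3,1,2,4],[0,4,1,1,4,1,1,4,0],[3,1,3,1,1,2,1,2],[2,1,3,1,3,0,4,0,0,4,0],[4,1,2,2,4,0,3,0,3],[1,3,3,0,2,4,1,4,1,3,1],[4,3,1,2,0,0,2,0,4,0,3],[1,3,3,0,0,4,0,3,1,1,1],[2,1,3,1,1,2,1,3,4,0,2],[3,0,4,1,2,0,4,1,1,4,1],[2,0,2,0,3,0,3],[1,4,1,1,4,0,3,1,4,0,2],[1,2,1,4,1,4,1,3,1],[3,0,2,0,0,4,0,0,2,0,2],[1,3,1,2,1],[4,0,3,0,0,4,1,4,0,4,1],[2,0,2,0,2,2,4,1,4],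[0,0,0,3,4,0,2,1,2,0],[4,3,1,1,2,1,1,2,1,2,4],[1,1,3,1,2,0,0,3,0],[3,0,4,1,2,0,2,0,2,0,3],[1,4,1,1,2,0,4,1,1,3],[1,3,1,1,4,1,4,1,3,1],[4,0,3,3,0,4,1,3,4,0],[1,3,1,2,0,0,4,0,3,1,1,1],[2,1,3,0,3,0,2,1],[0,2,1,1,3,0,3,4,0,0,0],[3,3,0,4,0,0,2,0,0,3,4],[3,0,4,0,3,1,2,0,0],[0,3,0,3,1,3,0,4,0,2],[2,0,4,1,1,3,4,0,0,2,4,1],[4,0,4,2,1,4,0,4,1,1,3],[4,1,4,0,2,0,2,1,1,1,3],[4,2,1,4,1,2,0,2,0,4,0,3],[3,1,3,1,4,1,1,2,4,0,0,3,4],[3,3,1,2,2,1,2,0],[1,4,1,1,1,2,1,3,4,0],[1,2,1,1,1,2,0,0,4,1,4],[1,1,3,1,1,1,4,1,1,4,1],[1,1,1,3,4,1,2,0,2,1],[0,4,2,1,4,0,2,2,0,4],[1,3,1,2,2,1,2,1],[2,1,1,3,1,2,2,4,0,0,0],[4,0,2,4,1,2,0,0,2],[2,1,2,2,1,2,0,0,2],[1,4,2,1,1,1,4,0,3,1,4],[1,1,1,4,1,3,0,2,1,2,0],[0,3,3,1,2,4,0,4,0,2,1],[4,0,0,4,0,0,0,3,0,4,0],[3,1,3,4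,0,0,3,0,2],[0,4,3,1,4,1,1,1,3,4],[0,3,0,2,1,1,3,0,4,0,0,0],[3,3,0,2,2,0,2,1],[0,3,3,1,1,4,1,1,2,1,1,3],[3,1,4,1,1,2,4,0,0,3,0,2],[4,0,2,1,4,0,0,0,2,4,1],[0,2,0,2,2,0,2,2],[0,0,4,1,1,3,1,4,0,3,4],[1,1,3,1,2,0,2,1,4,1,4],[1,1,1,3,0,4,0,2,1,2,0],[4,3,3,1,4,0,2,0,0,4],[2,1,3,1,3,4,1,1,4,1],[4,0,4,1,3,4,1,1,4,1],[0,0,4,1,1,2,1,4,0,3,4],[2,0,2,0,2,0,2,1,2],[3,1,4,2,1,2,0,0,3,1,2,0],[2,0,4,0,3,1,3,0,3,4],[2,1,3,0,3,4,1,4,1,2,0],[1,4,0,4,1,2,0,0,2,4,1],[0,3,3,1,1,4,1,2,0,0,0],[0,0,0,3,1,4,1,1,2,2,0],[3,1,2,4,0,0,2,0,2],[2,0,2,1,2,0,0,2,2],[2,0,4,1,1,2,1,1,3,4,0,0],[3,0,4,0,3,0,2,2,0,2,1],[3,0,2,0,0,3,0,2],[0,0,0,3,4,0,0,0],[3,1,2,4,0,0,3,0,2],[1,1,2,1,1,1,2,1,4,1,4],[2,1,4,0,2,0,4,1,1],[0,0,0,4,2,0,2,1,1,3,0],[1,1,2,1,2,0],[4,1,1,3,1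,2,1,2,4,1,3],[1,1,1,4,2,0,0,0,3,1,2,1],[2,1,1,1,3,0,3,0,4,1,4],[3,1,4,1,3,0,2,1,1],[2,1,1,4,0,4,1,3,4,0,4],[0,0,0,2,2,4,0,4,0,0,0],[0,0,0,4,0,2,2,1,2,0,0,0],[1,1,2,1,1,1,4,1,2,4,0,0],[1,3,0,2,0,2,1,3],[2,2,1,2,0,0],[1,3,1,4,0,0,3,1,4,0,4,1],[4,0,3,1,3,0,4,0,4,0,0],[4,1,4,0,2,2,0,3,4,1,4],[3,3,0,3,1,3,0,3,4,0,2],[4,2,0,0,0,3,1,4,0,2,1],[1,3,0,2,1,2,1,2,2],[3,3,1,2,1,2,0,4,0,0,0],[3,1,4,1,1,3,0,2,2,1,3],[4,1,4,1,2,0,2,2],[3,3,0,3,1,4,1,4],[0,4,3,1,1,3,0,3,0,4,1],[3,3,1,3,1,1,3,0,3,4,0,2],[3,3,1,1,1,4,0,0,4,0],[3,1,4,1,3,1,2,2,1,2,0],[4,1,3,0,3,0,2,2,1,4,1,4,1],[0,2,2,1,3,0,2,2],[1,1,1,4,3,3,0,3,1,4,0,4],[3,3,1,3,1,1,4,1,4],[4,1,4,2,1,1,2,1,1,1,4,0,2],[4,1,3,1,3,0,4,1,4,1],[4,1,4,2,1,3,1,2,2,1],[3,3,0,3,1,2,0,3],[3,3,0,2,0,2,4,0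,0,0],[1,3,3,0,0,0,3,4,1,1,1],[3,3,1,3,0,4,0,4],[0,4,3,1,1,3,0,4,1,4,0],[3,1,3,1,1,4,0,2,2,1,3],[3,0,4,0,2,0,2,2,0],[3,1,4,1,1,1,3,1,1,2,4,0,4],[2,0,2,0,4,0,4,1,3,4,0],[1,1,1,4,1,3,0,3,0,2,2],[3,1,2,1,1,4,0,2,2,1,3],[1,2,0,0,3,1,3,4,1,1,1],[4,2,1,1,1,4,1,2,4,0],[0,3,3,0,2,0,3,4,0,4],[4,1,2,2,4,1,1,1,2],[1,2,1,4,1,4,0,3,1,2,1,1],[4,0,2,1,4,0,0,0,3,4,0],[4,2,1,4,0,3,0,0,4,1,1],[3,1,4,1,1,4,1,2],[4,1,3,1,2,0,0,4,0,3,0,4],[4,1,4,1,3,1,2,2,0,3,1],[0,4,0,4,1,1,2,1,4,0,3],[1,4,1,2,1,1,1,4,1,1,4],[4,2,1,2,0,2,1,4,1,3],[2,0,2,4,1,3,1,2,4],[3,0,4,2,1,1,4,1,1,3,1,2],[4,1,4,1,2,2,0,3,1,2,1],[1,1,4,2,1,1,2,1,1,3,4],[2,1,3,1,2,2,1,3,4,0,4],[2,1,1,3,1,2,2,1,4,1,1,1],[3,1,4,1,3,1,3,0,2,1,3],[3,3,0,2,1,2,0,2,0,4,0,4],[3,0,4,1,1,3,0,3],[3,1,2,0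,0,0,2,0,4,1,2],[2,1,1,3,1,1,4,1,1,1],[0,0,0,3,4,0,3,0,2,2],[3,1,4,2,1,2,0,3,0,2,1],[4,1,1,4,1,1,1,3,1,4,1],[3,1,2,2,4,1,2],[0,0,4,3,1,3,4,0,2,1,3],[0,4,0,2,0,4,1,1,4],[0,4,0,0,4,1,3,0,4,1,2],[3,0,3,1,3,1,2,2,4,0,4],[1,3,1,1,3,0,2,1,4,1,1,1],[4,0,2,2,4,0,0,0,2],[1,1,1,2,2,4,0,2,0,0,3],[0,4,0,2,0,4,1,3,4,0,3],[1,1,1,4,2,1,3,1,2,0,4,0,2],[4,3,3,1,4,0,2,0,3,4,1,3],[2,1,1,4,3,0,0,2,4,1,3,0],[1,4,2,0,4,1,4,1,3,1,3],[1,4,1,1,1,2,1,4,1,2,1],[0,3,1,3,0,4,1,2,1,1,3],[0,4,2,1,4,0,2,4,1,3],[0,0,0,4,2,0,0,2,0,3,1],[1,3,1,2,0,0,0,4,0,2,0,0,3],[1,3,3,1,3,1,4,1,2],[1,4,1,2,0,3,4,1,2,1,4],[4,1,1,4,1,1,3,1,1,4,1,2,4],[4,1,3,1,3,4,0,3,1,4,1],[1,4,3,0,4,0,0,0,3,4],[0,2,0,4,0,2,4,1,1],[1,2,0,2,1,1,2,4,1,1,1],[0,2,1,1,1,2,1,2,4,0,4],[3,1,4,2,0,0,2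,4,1,2],[1,3,0,2,0,4,0,4],[1,1,4,0,2,1,3,1,2,0,4],[3,0,4,2,1,1,2,4,0,0,4,0,2],[1,4,0,4,1,2,0,0,4,1,3,0],[0,4,1,1,3,0,2,1,1,4,0],[1,1,1,4,1,2,1,2,4,0,0,0],[3,1,4,3,0,0,2,4,1,2],[0,0,0,4,3,3,1,3,0,4,1,4],[0,0,2,0,0,0,2,0,4,0,4],[4,1,4,2,1,3],[3,1,4,0,3,0,0,0,3,1,2],[1,4,2,1,2,1,3,4,0,0,0,4],[3,0,3,0,4,3,1,4,0,2,0,0],[0,2,1,2,0,0,4,0,2,1,1,1],[0,2,0,3,1,3,4,1,1,1],[2,0,2,1,1,4,0,0,4,0,2],[0,4,0,0,0,2,0,4,0,2,0],[3,0,2,0,0,2,4,1,1,4,1,2],[3,1,4,1,1,1,2,1,1,2,2],[3,1,3,1,1,4,0,3,1,1,1,2],[0,3,0,2,1,1,4,0,2,0,0,3],[1,4,0,4,1,2,1,4,0,3,1,4],[3,1,4,1,2,0,2,1,2,1],[1,2,1,1,3,1,2,1,4,0,4],[1,3,1,3,1,1,3,4,1,1,1],[3,3,1,2,1,2,4,1,1,1],[2,1,4,3,0,4,1,4,1,3,0],[4,1,4,2,1,1,3,4,1,4],[2,1,2,0,0,4,1,2],[1,1,4,0,0,2,0,4,1,3,4],[4,0,2,2,4,1,3,1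,3],[3,0,4,2,0,2,1,3,1,3,1],[2,0,4,1,1,4,0,3,0,4,1],[2,0,0,0,3,1,3,1,4,0,4],[0,4,3,3,1,1,3,4,1,4,0,4],[1,4,1,3,1,3,1,3,1,3,4,0],[3,0,4,1,3,0,3,1,3,1,3],[1,1,3,1,1,2,1,4,0,4],[3,1,4,0,3,1,2,2,1,3],[0,0,4,0,4,1,1,1,2,4,1,3],[1,2,0,4,0,4,1,2,4,0,3],[3,1,4,1,3,0,2,2,0,2,1],[0,4,2,1,4,0,4,0,3,0,3],[0,3,3,1,1,1,4,1,2,1,1,3],[3,1,4,0,0,3,0,2,2,0,4,1,4],[1,2,0,4,3,1,1,2,4,0,0,3],[4,1,3,3,1,4,0,4,0,3,1],[4,0,4,0,3,0,0,3,1],[0,3,1,3,0,2,1,4,1,1,1],[3,1,2,1,1,4,1,1,2,1,2],[1,1,3,0,0,0,3,0,4,1,2],[0,0,0,4,0,0,3,1,4,0,4],[3,1,3,1,1,2,1,1,4,1,2],[0,3,1,3,0,3,1,4,1,1,1],[3,1,3,1,1,3,1,1,4,1,2],[4,2,0,4,2,1,1,1,2,0,4],[3,1,4,0,2,0,2,2,1,2,0],[2,1,1,2,4,0,0,4,0],[3,1,2,2,0,0,4,0,2],[0,0,0,3,1,3,1,2,4,0,0,0],[2,1,3,0,2,0,3,0,0,2],[1,1,1,4,1,1,2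,1,1,3],[0,0,4,3,1,4,1,1,2,1],[4,0,2,1,4,0,3,0,4,1,4,0],[3,1,1,1,3,0,3],[0,0,0,4,2,1,1,1,3,0,2,0],[0,0,3,0,0,2,0,4,1,4],[1,1,2,4,0,4,0,2,1],[0,0,0,4,1,1,1,3,1,2,4,0,2],[1,1,4,2,1,3,1,2,2,4,1,4,1],[3,1,1,1,2,2,4,1,4],[1,4,1,4,0,0,2,0,4,1,3],[1,1,2,1,2,2,0,3,1],[1,4,3,0,4,1,3,1,4,0,2,1],[1,1,4,0,2,2,0,4,1,4,1],[1,1,1,4,1,1,1,2,0,0,0,3],[1,3,0,2,2,0,2,2],[1,4,1,2,0,2,2,4,0,4,1,1],[2,0,4,3,1,4,0,4,0,3,1],[4,0,3,0,3,1,4,0,4,0],[0,0,0,4,0,0,0,3,0,0,0,3]]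
theorem c3_0 : Ck SL (wprod g0 [1,3,1,2,2,1,3,0]) :=
  M0.ck c3_0L _ _ 3 [[0],[0,0],[1]] c3_0U 1 7 c3_0Z c3_0T (by decide +kernel) (by decide +kernel) (by decide +kernel)
def c3_1C : List Lvl := [⟨89, [[0],[2],[4]], [0,1,2,0,1,0,2,0,1,0,2,0], 100⟩,
  ⟨35, [[1,2,0],[0,2,1,2],[1,1,4,0]], [0,1,0,1,2,1,2,1], 36⟩,
  ⟨19, [[0,0,0,3,1,2,1],[2,4,1,2,1,1,4]], [0,1,0,0,1], 7⟩,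
  ⟨96, [[0,2,1,3,4,1,4,1],[0,3,1,2,2,0,2,1]], [0,1], 4⟩,
  ⟨13, [[3,1,2,2,0,2],[1,4,1,3,0,2,2,1,2,0,4,0]], [0,1], 3⟩,
  ⟨64, [[1,4,1,3,0,2,2,1,2,0,4,0]], [0], 2⟩]
def c3_1M : List (List Nat) := [[0x300421cb149c10bab06186c19],
  [0x20000002040400a0000080000],
  [0x1000000010000002000002000],
  [0x10000002000002000],
  [],
  []]
def c3_1Z : List Nat := [0xfffffffffffffffffffffffff]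
theorem c3_1L : LvOk G0 (finPt 100) 100 [] (mkLV c3_1C c3_1M) := M0.lvOk c3_1C 7 c3_1M (by decide +kernel) (by decide +kernel)
noncomputable def c3_1T : Bt := (.br 0 [] [] (Bt.ofL [(89, [], (.br 0 [] [] (Bt.ofL [(35, [], (.br 0 [] [] (Bt.ofL [(19, [], (.br 0 [] [] (Bt.ofL [(96, [], (.br 0 [[0]] [0,0] (Bt.ofL [(13, [], (.step 0 0 [] (.leaf 0)))])))])))]))),
 (19, [1,1,4,3,0], (.br 0 [] [] (Bt.ofL [(96, [0,0,0,3,1,2,1,2,4,1,2,1,1,4], (.br 0 [] [] (Bt.ofL [(35, [0,2,1,3,4,1,4,1], (.br 0 [[0]] [0,0] (Bt.ofL [(76, [], (.step 0 0 [1,4,1,3,0,2,2,1,2,0,4,0] (.leaf 1)))])))])))]))),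
 (96, [1,4,0,0], (.br 0 [] [] (Bt.ofL [(35, [0,0,0,3,1,2,1], (.br 0 [] [] (Bt.ofL [(19, [], (.br 0 [[0]] [0,0] (Bt.ofL [(97, [], (.step 0 0 [1,4,1,3,0,2,2,1,2,0,4,0] (.leaf 2)))])))])))])))]))),
 (19, [0], (.br 0 [] [] (Bt.ofL [(35, [4,0,0,3,0,4,3,3,0,3,1], (.br 0 [] [] (Bt.ofL [(96, [2,4,1,2,1,1,4,0,0,0,3,1,2,1], (.br 0 [] [] (Bt.ofL [(89, [], (.br 0 [[0]] [0,0] (Bt.ofL [(29, [], (.step 0 0 [1,4,1,3,0,2,2,1,2,0,4,0] (.leaf 3)))])))])))]))),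
 (89, [1,2,4,0,0], (.br 0 [] [] (Bt.ofL [(35, [3,1,2,2,0,2,2,4,1,2,1,1,4], (.br 0 [] [] (Bt.ofL [(96, [0,3,1,2,2,0,2,2,1,3,4,1,4,1], (.br 0 [[0]] [0,0] (Bt.ofL [(13, [], (.step 0 0 [1,4,1,3,0,2,2,1,2,0,4,0] (.leaf 4)))])))])))]))),
 (96, [1,1,4,2,2,0], (.br 0 [] [] (Bt.ofL [(89, [], (.br 0 [] [] (Bt.ofL [(35, [], (.br 0 [[0]] [0,0] (Bt.ofL [(76, [], (.step 0 0 [1,4,1,3,0,2,2,1,2,0,4,0] (.leaf 5)))])))])))])))]))),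
 (35, [1,4,2], (.br 0 [] [] (Bt.ofL [(19, [1,1,4,3,0], (.br 0 [] [] (Bt.ofL [(89, [3,1,2,2,0,2,2,4,1,2,1,1,4], (.br 0 [] [] (Bt.ofL [(96, [0,2,1,3,4,1,4,1], (.br 0 [[0]] [0,0] (Bt.ofL [(37, [], (.step 0 0 [] (.leaf 6)))])))])))]))),
 (89, [2,4,1,2,1,1,4,1,2,0], (.br 0 [] [] (Bt.ofL [(96, [2,4,1,2,1,1,4], (.br 0 [] [] (Bt.ofL [(19, [0,3,1,2,2,0,2,1], (.br 0 [[0]] [0,0] (Bt.ofL [(43, [], (.step 0 0 [] (.leaf 7)))])))])))]))),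
 (96, [3,1,2,2,0,2,1,2,0], (.br 0 [] [] (Bt.ofL [(19, [], (.br 0 [] [] (Bt.ofL [(89, [0,3,1,2,2,0,2,1], (.br 0 [[0]] [0,0] (Bt.ofL [(47, [], (.step 0 0 [] (.leaf 8)))])))])))])))]))),
 (96, [1,3], (.br 0 [] [] (Bt.ofL [(89, [1,1,4,3,0], (.br 0 [] [] (Bt.ofL [(19, [3,1,2,2,0,2,2,4,1,2,1,1,4], (.br 0 [] [] (Bt.ofL [(35, [0,2,1,3,4,1,4,1], (.br 0 [[0]] [0,0] (Bt.ofL [(71, [], (.step 0 0 [1,4,1,3,0,2,2,1,2,0,4,0] (.leaf 9)))])))])))]))),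
 (19, [2,4,1,2,1,1,4,1,2,0], (.br 0 [] [] (Bt.ofL [(35, [2,4,1,2,1,1,4], (.br 0 [] [] (Bt.ofL [(89, [0,3,1,2,2,0,2,1], (.br 0 [[0]] [0,0] (Bt.ofL [(47, [], (.step 0 0 [1,4,1,3,0,2,2,1,2,0,4,0] (.leaf 10)))])))])))]))),
 (35, [3,1,2,2,0,2,1,2,0], (.br 0 [] [] (Bt.ofL [(89, [], (.br 0 [] [] (Bt.ofL [(19, [0,3,1,2,2,0,2,1], (.br 0 [[0]] [0,0] (Bt.ofL [(43, [], (.step 0 0 [1,4,1,3,0,2,2,1,2,0,4,0] (.leaf 11)))])))])))])))])))]))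
def c3_1U : List (List Nat) := [[],[1,1,2,1,2,2,1,3,1,4,0],[3,0,3,1,1,1,3,4,1,1,2,2],[1,3,1,2,2,1,3,0],[1,4,3,0,2,2,0,3,4,0],[2,1,3,0,2,2,1,4,0],[2,0,2,1,4,0,3,0,3,1,2],[1,2,0,4,3,1,3,0,3,1,4],[1,4,1,3,0,2,1,2,2,0,3],[3,0,4,1,1,4,0,4,1,2,0],[2,0,3,0,0,0,4,0,3,1,3],[0,4,0,4,0,3,0,3,1,4]]
theorem c3_1 : Ck SL (wprod g0 [4,0,4,0,2,1,2,0,4,0,2]) :=
  M0.ck c3_1L _ _ 3 [[0],[0,0],[1]] c3_1U 1 7 c3_1Z c3_1T (by decide +kernel) (by decide +kernel) (by decide +kernel)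
theorem k3 : Pk G0 SL 3 := M0.pk s3P (by norm_num) (by decide) [[1,3,1,2,2,1,3,0],[4,0,4,0,2,1,2,0,4,0,2]]
  (.cons (.cons (.cons .pw (.cons (.rep [] 0) (.cons (.rep [2,1,2,0,0,2,1,2] 0) .nil))) (.cons (.cons (.rep [] 1) (.cons (.rep [0,0,0,4,0,2,1,2,0,2,1] 1) (.cons (.rep [2,0,4,2,1,3,1,4,0,2,2,4] 1) .nil))) (.cons (.cons (.rep [1,4,1,3,0,3,3,1,2,0,4,0] 1) (.cons (.rep [0,0,0,4,2,0,0,2,0,2,0] 1) (.cons (.rep [2,1,1,4,0,4,1,1,3] 1) .nil))) .nil))) (.cons (.cons (.cons (.rep [2,0,4,1,3,3,1,2,1,4,0] 1) (.cons (.rep [1,2,0,3,0,4,1,3,4,0,0] 1) (.cons (.rep [2,1,3,1,2,0,2,1,4,1,1,1] 1) .nil))) (.cons (.cons (.rep [4,0,3,0,4,3,3,0,0,0,2,4] 1) (.cons (.rep [0,4,3,1,1,1,3,1,1,4] 1) (.cons (.rep [3,1,1,4,2,0,0] 1) .nil))) (.cons (.cons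 (.rep [4,3,1,2,0,4,2,0,0,2] 1) (.cons (.rep [0,2,1,4,0,2,1,3,4,1,1,4] 1) (.cons (.rep [2,1,3,0,4,2,1,4,1,2,0] 1) .nil))) .nil))) (.cons (.cons (.cons (.rep [0,0,4,3,1,4,0,3,0,0,4] 1) (.cons (.rep [2,1,1,1,2,0] 1) (.cons (.rep [3,0,4,3,1,4,0,0,3,0,4,1] 1) .nil))) (.cons (.cons (.rep [2,0,0,3,0,4,1,1,2,4,1] 1) (.cons (.rep [3,0,3,3,0,4,3,3,0,4,1,2] 1) (.cons (.rep [1,4,2,0,4,1,2,4,0,3] 1) .nil))) (.cons (.cons (.rep [4,0,0,0,4,1,2,1,2,1,3] 1) (.cons (.rep [1,1,1,4,3,0,0,2,0,0,3] 1) (.cons (.rep [3,1,3,0,4,0,3,4,1,1,3] 1) .nil))) .nil))) .nil))) (by decide +kernel) (by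
    simp only [List.forall_mem_cons]; exact ⟨c3_0, c3_1, by simp⟩)
def s5S : List (List Nat) := [[4,0,3,1,3,0,3,0,2,1],[0,4,1,2]]
theorem s5P : Pc (fun j => wprod g0 (wordAt s5S j)) 5 s5S.length :=
  M0.pc [[],[]] [[], [[2]]] (by decide +kernel) (M0.ge s5S [⟨0, [[0],[2]], [0,1,0,1,0,1,0,1], 25⟩] 7 (by decide +kernel))
def c5_0C : List Lvl := [⟨69, [[0],[2],[4]], [0,1,2,0,1,0,2,0,1,0,2,0], 100⟩,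
  ⟨58, [[0,2,0,2],[0,3,1,3],[2,1,2,4]], [0,1,0,2,1,0,2,0,2], 63⟩,
  ⟨39, [[2,4,0,2,1,1,4],[0,2,1,1,2,2,0,2,0],[3,0,4,0,0,4,0,3,4]], [0,1,2,1,2,2,0], 24⟩,
  ⟨68, [[2,4,0,2,0,3,0,0,2,0,4]], [0], 2⟩,
  ⟨1, [[2,2,4,1,1,1,2,1,2,4]], [0], 2⟩]
def c5_0M : List (List Nat) := [[0xbf472d34edf5bfe46d7a9bed1],
  [],
  [],
  [0x4000000000000000002, 0x8000000000000000000000000],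
  []]
def c5_0Z : List Nat := [0xfffffffffffffffffffffffff]
theorem c5_0L : LvOk G0 (finPt 100) 100 [] (mkLV c5_0C c5_0M) := M0.lvOk c5_0C 7 c5_0M (by decide +kernel) (by decide +kernel)
noncomputable def c5_0T : Bt := (.br 0 [[0]] [0,0,0,0] (Bt.deads [[3,0,0,0,3,1],
 [1,0,0,0,2],
 [5,0,0,0,3],
 [13,0,0,0,0],
 [21,0,0,0,2,2,1,3,0],
 [22,0,0,0,2,2,0],
 [23,0,0,0,3,1,3,0],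
 [29,0,0,0,0,3,1],
 [30,0,0,0,1,4,1],
 [94,0,0,0,1]] (Bt.ofL [(69, [], (.step 0 0 [] (.step 0 0 [] (.step 0 0 [] (.br 0 [] [] (Bt.ofL [(1, [], (.leaf 0)),
 (74, [2,2,4,1,1,1,2,1,2,4], (.leaf 1))])))))),
 (2, [4,2,1], (.step 0 0 [2,4,0,2,0,3,0,0,2,0,4,2,1,2,4] (.step 0 0 [3,0,4,0,0,4,0,3,4] (.step 0 0 [] (.br 0 [] [] (Bt.ofL [(55, [], (.leaf 2)),
 (92, [2,2,4,1,1,1,2,1,2,4], (.leaf 3))])))))),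
 (7, [2,1], (.step 0 0 [4,2,1,4,1,1,4,1,2,0,2,0,2] (.step 0 0 [4,1,3,1,1,2,1,3,1,4,3,1,3,1,3,3,0,0,3,1] (.step 0 0 [] (.dead 0 0 1))))),
 (8, [4,0], (.step 0 0 [1,3,1,3,3,0,0,3,1,2,1,2,4] (.step 0 0 [3,0,4,0,0,4,0,3,4,2,4,0,2,1,1,4] (.step 0 0 [2,4,0,2,0,3,0,0,2,0,4] (.dead 0 0 1))))),
 (9, [1,2,1], (.step 0 0 [2,1,2,4] (.step 0 0 [4,0,0,3,1,4,3] (.step 0 0 [] (.br 0 [] [] (Bt.ofL [(44, [], (.leaf 4)),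
 (79, [2,2,4,1,1,1,2,1,2,4], (.leaf 5))])))))),
 (11, [0,2,1,1], (.step 0 0 [3,0,4,0,0,4,0,3,4,2,0,2,1] (.step 0 0 [4,0,0,3,1,4,3] (.step 0 0 [] (.br 0 [] [] (Bt.ofL [(94, [], (.leaf 6)),
 (41, [2,2,4,1,1,1,2,1,2,4], (.leaf 7))])))))),
 (12, [0,3], (.step 0 0 [4,0,0,3,1,4,3,0,2,0,2] (.step 0 0 [0,2,1,1,2,2,0,2,0,2,4,0,2,1,1,4] (.step 0 0 [2,4,0,2,0,3,0,0,2,0,4] (.br 0 [] [] (Bt.ofL [(79, [], (.leaf 8)),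
 (45, [2,2,4,1,1,1,2,1,2,4], (.leaf 9))])))))),
 (51, [2,0], (.step 0 0 [0,3,1,3,3,0,4,0,0,4,0,3,4,0,3,1,3] (.step 0 0 [4,2,1,4,1,1,4,1,2,4,0,0,3,1,4,3] (.step 0 0 [2,4,0,2,0,3,0,0,2,0,4] (.dead 0 0 1))))),
 (88, [1,2], (.step 0 0 [3,0,4,0,0,4,0,3,4,0,2,0,2] (.step 0 0 [0,2,1,1,2,2,0,2,0,2,4,0,2,1,1,4,2,4,0,2,1,1,4] (.step 0 0 [2,4,0,2,0,3,0,0,2,0,4] (.dead 0 0 1))))),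
 (18, [4,1,2,1], (.step 0 0 [4,0,0,3,1,4,1,2,4] (.step 0 0 [0,2,1,1,2,2,0,2,0,2,4,0,2,1,1,4,2,4,0,2,1,1,4] (.step 0 0 [] (.dead 0 0 1)))))])))
def c5_0U : List (List Nat) := [[],[2,2,4,1,1,1,2,1,2,4],[2,1,3,1,3,0,3,4,0,2,4],[1,4,1,4,0,2,0,4,0,0,2,4],[0,3,1,2,1,2,0,2,1,4],[3,1,2,2,0,2,2,1,4],[4,0,4,1,3,0,3,1],[2,1,4,2,0,0,0,3,0,0,2],[4,0,3,1,3,0,3,0,2,1],[4,0,4,2,1,2,2,0,3,4,1,4]]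
theorem c5_0 : Ck SL (wprod g0 [0,4,1,2]) :=
  M0.ck c5_0L _ _ 5 [[0],[0,0],[0,0,0],[0,0,0,0],[1]] c5_0U 0 7 c5_0Z c5_0T (by decide +kernel) (by decide +kernel) (by decide +kernel)
def c5_1C : List Lvl := [⟨30, [[0],[2],[4]], [0,2,0,1,0,1,2,0,0,2,0,2], 100⟩,
  ⟨90, [[0,2,1],[1,3,0,3],[0,4,0,0,3]], [0,1,2,0,1,0,2,0,0,1], 63⟩,
  ⟨65, [[0,2,2,1],[0,4,0,2,2,1,2,2],[1,3,1,2,2,0,2,0],[3,3,1,4,1,2,4,0,2,0,4,0]], [0,1,2,3,1], 24⟩,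
  ⟨40, [[0,4,0,3,1,3,0,4,0,3,1,3]], [0], 2⟩,
  ⟨2, [[1,1,1,3,1,1,1,2,0,0]], [0], 2⟩]
def c5_1M : List (List Nat) := [[0x2dee76fbde79ca096a73cf9fd],
  [],
  [],
  [0x400000000000004, 0x8000000000000000],
  []]
def c5_1Z : List Nat := [0xfffffffffffffffffffffffff]
theorem c5_1L : LvOk G0 (finPt 100) 100 [] (mkLV c5_1C c5_1M) := M0.lvOk c5_1C 7 c5_1M (by decide +kernel) (by decide +kernel)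
noncomputable def c5_1T : Bt := (.br 0 [[0]] [0,0,0,0] (Bt.deads [[2,0,0,0,3,0],
 [7,0,0,0,4,3,0],
 [48,0,0,0,0,4,1],
 [93,0,0,0,3,1,1],
 [11,0,0,0,0,4,2,2],
 [46,0,0,0,4,3],
 [20,0,0,0,2,2],
 [88,0,0,0,0,0,4],
 [31,0,0,0,1],
 [58,0,0,0,1,1]] (Bt.ofL [(30, [], (.step 0 0 [] (.step 0 0 [] (.step 0 0 [] (.br 0 [] [] (Bt.ofL [(2, [], (.leaf 0)),
 (58, [1,1,1,3,1,1,1,2,0,0], (.leaf 1))])))))),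
 (17, [4], (.step 0 0 [0,4,0,0,3,1,4,1,3,1,4,3,0,4,0,2,2,0,2,1] (.step 0 0 [3,3,1,4,1,2,4,0,2,0,4,0,3,3,0,3,3,1,4,1] (.step 0 0 [0,4,0,3,1,3,0,4,0,3,1,3] (.br 0 [] [] (Bt.ofL [(93, [], (.leaf 2)),
 (59, [1,1,1,3,1,1,1,2,0,0], (.leaf 3))])))))),
 (1, [4,0,4], (.step 0 0 [2,1,2,0,3,3,1,4,1,2,4,0,2,0,4,3,0,3] (.step 0 0 [3,3,1,4,1,2,4,0,2,0,4,3,1,2,2,0,2,0] (.step 0 0 [] (.dead 0 0 1))))),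
 (41, [2], (.step 0 0 [0,4,0,2,2,1,2,2,2,1,2,0,0,2,1] (.step 0 0 [3,3,1,4,1,2,4,0,2,0,4,0] (.step 0 0 [] (.dead 0 0 1))))),
 (13, [0,0,4,0], (.step 0 0 [3,3,0,3,3,1,4,1,2,1,2,0,0,2,1] (.step 0 0 [3,3,1,4,1,2,4,0,2,0,4,3,1,2,2,0,2,0] (.step 0 0 [] (.br 0 [] [] (Bt.ofL [(96, [], (.leaf 4)),
 (68, [1,1,1,3,1,1,1,2,0,0], (.leaf 5))])))))),
 (19, [0,3,0,0,0], (.step 0 0 [0,2,4,0,3,1,3,0,4,0,3,1,3,1,3,0,3] (.step 0 0 [3,3,1,4,1,2,4,0,2,0,4,0,3,3,0,3,3,1,4,1] (.step 0 0 [] (.br 0 [] [] (Bt.ofL [(46, [], (.leaf 6)),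
 (2, [1,1,1,3,1,1,1,2,0,0], (.leaf 7))])))))),
 (87, [1,2], (.step 0 0 [3,3,0,3,3,1,4,1,2,1,2,0,0,2,1] (.step 0 0 [3,3,1,4,1,2,4,0,2,0,4,0,0,2,2,1] (.step 0 0 [0,4,0,3,1,3,0,4,0,3,1,3] (.br 0 [] [] (Bt.ofL [(9, [], (.leaf 8)),
 (56, [1,1,1,3,1,1,1,2,0,0], (.leaf 9))])))))),
 (28, [2,0,2], (.step 0 0 [0,4,0,3,1,3,0,4,0,3,1,1,1,4,1] (.step 0 0 [1,4,1,3,1,4,3,0,4,0,0,3,3,1,4,1] (.step 0 0 [0,4,0,3,1,3,0,4,0,3,1,3] (.dead 0 0 1))))),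
 (50, [4,1], (.step 0 0 [2,0,2,1,4,1,2,0,2,0,3] (.step 0 0 [1,4,1,3,1,4,3,0,4,0,2,2,1,3,1,2,2,0,2,0] (.step 0 0 [0,4,0,3,1,3,0,4,0,3,1,3] (.dead 0 0 1))))),
 (97, [0], (.step 0 0 [0,4,0,2,2,1,2,2,1,3,0,3,0,2,1] (.step 0 0 [3,3,1,4,1,2,4,0,2,0,4,3,1,2,2,0,2,0] (.step 0 0 [0,4,0,3,1,3,0,4,0,3,1,3] (.dead 0 0 1)))))])))
def c5_1U : List (List Nat) := [[],[1,1,1,3,1,1,1,2,0,0],[2,1,4,1,3,0,3,0,2,2,1,4],[2,1,1,1,2,0,4,0,0,0,2,2],[2,1,4,1,3,0,2,0,2],[2,1,4,2,0,0,0,3,0,0,2],[0,3,0,0,0,3,1,1,4,1,1,4],[4,0,4,2,1,2,2,0,3,4,1,4],[3,0,4,2,1,2,0,4,1,4],[4,3,1,4,1,2,0,0,2,0,0,4]]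
theorem c5_1 : Ck SL (wprod g0 [0,4,1,2,0,4,1,2]) :=
  M0.ck c5_1L _ _ 5 [[0],[0,0],[0,0,0],[0,0,0,0],[1]] c5_1U 0 7 c5_1Z c5_1T (by decide +kernel) (by decide +kernel) (by decide +kernel)
def c5_2C : List Lvl := [⟨68, [[0],[2],[4]], [0,1,2,0,1,0,2,1,0,2], 100⟩,
  ⟨93, [[2,1,2],[1,1,2,2],[0,0,3,0,2],[4,1,2,0,4]], [0,1,0,2,0,3,0,1,2,0,0], 63⟩,
  ⟨95, [[1,2,2,0],[0,0,2,1,4,1,1]], [0,1,0,1,1,0,1,1,1], 32⟩,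
  ⟨70, [[1,1,1,4,1,1,4,1,4,0,0]], [0,0], 3⟩]
def c5_2M : List (List Nat) := [[],
  [],
  [0x10400000000040000000],
  []]
def c5_2Z : List Nat := [0xfffffffffffffffffffffffff]
theorem c5_2L : LvOk G0 (finPt 100) 100 [] (mkLV c5_2C c5_2M) := M0.lvOk c5_2C 7 c5_2M (by decide +kernel) (by decide +kernel)
noncomputable def c5_2T : Bt := (.br 0 [[0]] [0,0,0,0] (Bt.ofL [(68, [], (.step 0 0 [] (.step 0 0 [] (.br 0 [] [] (Bt.ofL [(70, [], (.leaf 0)),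
 (30, [1,1,4,0,4,0,0,4,0,0,0], (.leaf 1)),
 (76, [1,1,1,4,1,1,4,1,4,0,0], (.leaf 2))]))))),
 (0, [4,1,3,1], (.step 0 0 [2,1,2] (.step 0 0 [1,2,2,1,1,4,1,1,4,1,4,0,2,2,0] (.br 0 [] [] (Bt.ofL [(55, [], (.leaf 3)),
 (53, [1,1,4,0,4,0,0,4,0,0,0], (.leaf 4)),
 (60, [1,1,1,4,1,1,4,1,4,0,0], (.leaf 5))]))))),
 (44, [0,0], (.step 0 0 [3,1,2,1,1] (.step 0 0 [1,2,2,0,0,0,2,1,4,1,1,1,2,2,0] (.br 0 [] [] (Bt.ofL [(98, [], (.leaf 6)),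
 (72, [1,1,4,0,4,0,0,4,0,0,0], (.leaf 7)),
 (21, [1,1,1,4,1,1,4,1,4,0,0], (.leaf 8))]))))),
 (58, [0,0,4,3], (.step 0 0 [4,1,3,0,4,3,0,3] (.step 0 0 [0,0,2,1,4,1,1] (.br 0 [] [] (Bt.ofL [(27, [], (.leaf 9)),
 (1, [1,1,4,0,4,0,0,4,0,0,0], (.leaf 10)),
 (63, [1,1,1,4,1,1,4,1,4,0,0], (.leaf 11))]))))),
 (3, [1,3,1], (.step 0 0 [0,0,2,1,4,1,1,3,1,2,1,1] (.step 0 0 [1,2,2,0,0,0,2,1,4,2,1,4,1,1,1,2,2,0] (.br 0 [] [] (Bt.ofL [(93, [], (.leaf 12)),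
 (70, [1,1,4,0,4,0,0,4,0,0,0], (.leaf 13)),
 (76, [1,1,1,4,1,1,4,1,4,0,0], (.leaf 14))]))))),
 (4, [2,0,2,0], (.step 0 0 [4,1,3,0,4,1,2,2,0,3,3,0,0] (.step 0 0 [1,1,1,4,1,1,4,1,4,0,2,2,0] (.br 0 [] [] (Bt.ofL [(19, [], (.leaf 15)),
 (28, [1,1,4,0,4,0,0,4,0,0,0], (.leaf 16)),
 (96, [1,1,1,4,1,1,4,1,4,0,0], (.leaf 17))]))))),
 (80, [2,0,0,0], (.step 0 0 [] (.step 0 0 [0,0,2,1,4,1,1,1,1,1,4,1,1,4,1,4,0,2,2,0] (.br 0 [] [] (Bt.ofL [(60, [], (.leaf 18)),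
 (53, [1,1,4,0,4,0,0,4,0,0,0], (.leaf 19)),
 (65, [1,1,1,4,1,1,4,1,4,0,0], (.leaf 20))]))))),
 (9, [0,4,0], (.step 0 0 [4,1,2,0,4,2,1,2] (.step 0 0 [0,0,2,1,4,1,1,1,1,1,4,1,1,4,1,4,0,2,2,0] (.br 0 [] [] (Bt.ofL [(22, [], (.leaf 21)),
 (35, [1,1,4,0,4,0,0,4,0,0,0], (.leaf 22)),
 (61, [1,1,1,4,1,1,4,1,4,0,0], (.leaf 23))]))))),
 (15, [0,0,2], (.step 0 0 [4,1,3,0,4,1,1,2,2] (.step 0 0 [0,0,2,1,4,1,1,1,1,1,4,1,1,4,1,4,0,2,2,0] (.br 0 [] [] (Bt.ofL [(60, [], (.leaf 24)),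
 (65, [1,1,4,0,4,0,0,4,0,0,0], (.leaf 25)),
 (55, [1,1,1,4,1,1,4,1,4,0,0], (.leaf 26))]))))),
 (89, [4], (.step 0 0 [1,1,1,4,1,1,4,1,4,0,0,4,1,2,0,4,2,1,2] (.step 0 0 [1,2,2,0,0,0,2,1,4,2,1,4,1,1,1,2,2,0] (.br 0 [] [] (Bt.ofL [(99, [], (.leaf 27)),
 (82, [1,1,4,0,4,0,0,4,0,0,0], (.leaf 28)),
 (50, [1,1,1,4,1,1,4,1,4,0,0], (.leaf 29))]))))),
 (10, [1,1,4,0], (.step 0 0 [2,1,2,2,1,2,2,1,2] (.step 0 0 [1,1,4,0,4,0,0,4,0,0,2,2,0] (.br 0 [] [] (Bt.ofL [(99, [], (.leaf 30)),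
 (49, [1,1,4,0,4,0,0,4,0,0,0], (.leaf 31)),
 (82, [1,1,1,4,1,1,4,1,4,0,0], (.leaf 32))]))))),
 (11, [1,4,0], (.step 0 0 [3,1,2,1,1] (.step 0 0 [0,0,2,1,4,1,1,1,1,1,4,1,1,4,1,4,0,2,2,0] (.br 0 [] [] (Bt.ofL [(20, [], (.leaf 33)),
 (5, [1,1,4,0,4,0,0,4,0,0,0], (.leaf 34)),
 (26, [1,1,1,4,1,1,4,1,4,0,0], (.leaf 35))]))))),
 (13, [4,0,2], (.step 0 0 [4,1,2,0,4,2,1,2] (.step 0 0 [1,1,1,4,1,1,4,1,4,0,2,2,0,0,0,4,0,3,1,1] (.br 0 [] [] (Bt.ofL [(88, [], (.leaf 36)),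
 (69, [1,1,4,0,4,0,0,4,0,0,0], (.leaf 37)),
 (64, [1,1,1,4,1,1,4,1,4,0,0], (.leaf 38))]))))),
 (14, [3,1,1], (.step 0 0 [3,1,2,1,1,4,1,2,0,4] (.step 0 0 [0,0,4,0,3,1,1,1,2,2,0,0,0,4,0,3,1,1] (.br 0 [] [] (Bt.ofL [(83, [], (.leaf 39)),
 (79, [1,1,4,0,4,0,0,4,0,0,0], (.leaf 40)),
 (58, [1,1,1,4,1,1,4,1,4,0,0], (.leaf 41))]))))),
 (51, [4,1,1], (.step 0 0 [4,1,2,0,4,3,3,0,0] (.step 0 0 [1,1,4,0,4,0,0,4,0,0,0,0,0,2,1,4,1,1,1,2,2,0] (.br 0 [] [] (Bt.ofL [(17, [], (.leaf 42)),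
 (64, [1,1,4,0,4,0,0,4,0,0,0], (.leaf 43)),
 (69, [1,1,1,4,1,1,4,1,4,0,0], (.leaf 44))]))))),
 (86, [1], (.step 0 0 [1,1,2,2,2,1,2] (.step 0 0 [1,2,2,0,0,0,2,1,4,1,1] (.br 0 [] [] (Bt.ofL [(58, [], (.leaf 45)),
 (79, [1,1,4,0,4,0,0,4,0,0,0], (.leaf 46)),
 (77, [1,1,1,4,1,1,4,1,4,0,0], (.leaf 47))]))))),
 (75, [1,1], (.step 0 0 [1,1,1,4,1,1,4,1,4,0,0,3,1,2,1,1] (.step 0 0 [0,0,4,0,3,1,1,1,2,2,0,0,0,4,0,3,1,1] (.br 0 [] [] (Bt.ofL [(50, [], (.leaf 48)),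
 (49, [1,1,4,0,4,0,0,4,0,0,0], (.leaf 49)),
 (99, [1,1,1,4,1,1,4,1,4,0,0], (.leaf 50))]))))),
 (29, [3,1], (.step 0 0 [3,0,3,3,0,3] (.step 0 0 [1,1,1,4,1,1,4,1,4,0,0,0,0,4,0,3,1,1] (.br 0 [] [] (Bt.ofL [(76, [], (.leaf 51)),
 (30, [1,1,4,0,4,0,0,4,0,0,0], (.leaf 52)),
 (93, [1,1,1,4,1,1,4,1,4,0,0], (.leaf 53))]))))),
 (67, [4,3], (.step 0 0 [0,0,2,1,4,1,1,3,0,3] (.step 0 0 [1,1,1,4,1,1,4,1,4,0,0,0,0,4,0,3,1,1] (.br 0 [] [] (Bt.ofL [(6, [], (.leaf 54)),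
 (35, [1,1,4,0,4,0,0,4,0,0,0], (.leaf 55)),
 (22, [1,1,1,4,1,1,4,1,4,0,0], (.leaf 56))]))))),
 (81, [3], (.step 0 0 [4,1,2,0,4,1,1,2,2] (.step 0 0 [0,0,2,1,4,2,1,4,1,1,1,2,2,0] (.br 0 [] [] (Bt.ofL [(50, [], (.leaf 57)),
 (82, [1,1,4,0,4,0,0,4,0,0,0], (.leaf 58)),
 (49, [1,1,1,4,1,1,4,1,4,0,0], (.leaf 59))])))))]))
def c5_2U : List (List Nat) := [[],[1,1,4,0,4,0,0,4,0,0,0],[1,1,1,4,1,1,4,1,4,0,0],[3,1,4,2,0,2,1,3,4,1,1,3],[4,0,0,3,0,3,4,0,0,3,0],[3,3,1,3,1,1,2,1,2,2,4,1],[3,1,2,0,3,0,4,1,4,0,0,3],[0,0,4,3,3,1,3,1,4,0,3,1],[4,3,0,3,1,4,1,4,0,3],[4,0,0,4,1,2,4,0,0,2,4,1],[0,4,1,2,0,4,1,2],[0,2,1,2,2,0,0,3,4,1],[0,2,1,2,2,0,0,3,1,2],[0,4,3,1,3,0,0,4,0,4,0],[4,3,0,0,4,3,1,1,1,4,0,2,2,4],[1,3,1,3,1,1,2,4,1,1,4,1,4],[0,4,0,2,1,2,2,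0,2,1,4,0],[3,0,4,0,2,1,1,3,1,4,0],[2,0,3,0,2,4,1,4,1,1],[0,4,0,4,0,4,0,3,4],[0,4,3,0,0,2,0,2,2,0],[0,0,4,0,2,0,3,1,2,2,1],[4,1,2,1,2,4,0,3,0],[3,1,4,3,3,0,2,0,0,3,0],[4,1,1,3,1,3,4,1,1,1,2],[1,3,1,4,0,2,1,4,0,2,0,3],[0,2,0,0,3,0,4,0,3,1,3],[1,4,3,3,1,3,1,3,0,4,0,0],[1,1,3,0,4,0,2,2,0,4],[3,3,0,0,3,0,4,1,2,2,0],[2,1,3,1,2,0,0,4,1,1],[0,4,0,2,0,0,4,1,1,1,2,1],[4,2,0,3,1,4,1,3,1,2,4],[1,4,2,0,4,0,2,1,2,2],[2,0,4,3,1,1,1,2,0,2,4,1],[3,1,3,3,1,3,4,1,4,0],[1,4,3,1,1,1,3,4,0,4,0,2],[1,2,1,2,4,0,4,1,2,1],[3,0,0,4,1,3,1,1,1,2,4],[4,3,0,3,3,1,2,0,4,1,2,0],[0,2,1,2,2,4,0,4,0,4],[2,1,3,1,2,0,0,4,1,4,1,2],[4,3,3,0,0,4,0,0,2,0,0],[1,4,0,0,0,3,0,0,0,2,4],[3,3,0,3,3,0,4,1,2,1,2,2],[0,3,3,0,2,1,3,1,4,1,1],[0,0,0,4,2,1,1,2,2,0,2,4],[1,3,1,4,1,3,1,4,1,3],[0,3,1,2,4,0,0,2,0,4],[3,0,2,1,1,4,0,4,0,4],[2,0,3,0,3,0,4,1,2,0,3],[3,0,0,4,0,4,0,3,4],[1,3,1,1,2,1,2,2,1,3],[4,3,0,4,1,1,4,1,1,4,0,2],[1,3,3,0,2,4,1,1,3,1,2],[1,1,4,2,0,0,4,0,0,2,2],[1,1,1,4,1,2,2,4,1],[4,1,1,3,1,1,3,0,4,0,2,4],[1,4,3,1,3,1,2,2,1,4,0,0],[0,2,0,0,2,0,0,3,4,0,2]]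
theorem c5_2 : Ck SL (wprod g0 [4,0,3,1,3,0,3,0,2,1]) :=
  M0.ck c5_2L _ _ 5 [[0],[0,0],[0,0,0],[0,0,0,0],[1]] c5_2U 0 7 c5_2Z c5_2T (by decide +kernel) (by decide +kernel) (by decide +kernel)
def c5_3C : List Lvl := [⟨85, [[0],[2],[4]], [0,1,2,0,1,2,0,0,1,0,2], 100⟩,
  ⟨84, [[2,2],[1,2,4],[0,0,2,0,4]], [0,1,0,1,0,2,1,0,1,0,1], 63⟩,
  ⟨49, [[0,0,0,4,0,3,1],[2,0,0,0,3,0,4]], [0,1,0,1,0,1,0,1], 32⟩,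
  ⟨16, [[1,2,4,0,0,0,4,1,1,1,2,0]], [0,0], 3⟩]
def c5_3M : List (List Nat) := [[],
  [],
  [0x8000000010400],
  []]
def c5_3Z : List Nat := [0xfffffffffffffffffffffffff]
theorem c5_3L : LvOk G0 (finPt 100) 100 [] (mkLV c5_3C c5_3M) := M0.lvOk c5_3C 7 c5_3M (by decide +kernel) (by decide +kernel)
noncomputable def c5_3T : Bt := (.br 0 [[0]] [0,0,0,0] (Bt.ofL [(85, [], (.step 0 0 [] (.step 0 0 [] (.br 0 [] [] (Bt.ofL [(16, [], (.leaf 0)),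
 (10, [1,3,0,0,0,4,1,1,1,4,3,0], (.leaf 1)),
 (51, [1,2,4,0,0,0,4,1,1,1,2,0], (.leaf 2))]))))),
 (0, [0,2,1], (.step 0 0 [1,2,4,0,0,0,4,1,1,1,2,0,4,1,3,1,1] (.step 0 0 [0,2,1,4,1,1,1,1,2,4,0,0,0,4,1,1,1,2,0,0,0,0,4,0,3,1] (.br 0 [] [] (Bt.ofL [(70, [], (.leaf 3)),
 (43, [1,3,0,0,0,4,1,1,1,4,3,0], (.leaf 4)),
 (44, [1,2,4,0,0,0,4,1,1,1,2,0], (.leaf 5))]))))),
 (10, [4,1], (.step 0 0 [4,3,0,4,1,3,1,1,2,2] (.step 0 0 [0,2,1,4,1,1,1] (.br 0 [] [] (Bt.ofL [(85, [], (.leaf 6)),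
 (22, [1,3,0,0,0,4,1,1,1,4,3,0], (.leaf 7)),
 (19, [1,2,4,0,0,0,4,1,1,1,2,0], (.leaf 8))]))))),
 (2, [1,1], (.step 0 0 [4,1,3,1,1,1,2,4,2,2] (.step 0 0 [] (.br 0 [] [] (Bt.ofL [(91, [], (.leaf 9)),
 (40, [1,3,0,0,0,4,1,1,1,4,3,0], (.leaf 10)),
 (93, [1,2,4,0,0,0,4,1,1,1,2,0], (.leaf 11))]))))),
 (40, [3,1,2], (.step 0 0 [0,0,2,0,3,0,2,2] (.step 0 0 [0,2,1,4,1,1,1,4,1,2,1,1,1,3,0,0,0,4,0,3,1] (.br 0 [] [] (Bt.ofL [(61, [], (.leaf 12)),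
 (2, [1,3,0,0,0,4,1,1,1,4,3,0], (.leaf 13)),
 (28, [1,2,4,0,0,0,4,1,1,1,2,0], (.leaf 14))]))))),
 (4, [4,0,4,1], (.step 0 0 [1,2,4,0,0,0,4,1,1,1,2,2,4] (.step 0 0 [0,0,0,4,0,3,1] (.br 0 [] [] (Bt.ofL [(48, [], (.leaf 15)),
 (32, [1,3,0,0,0,4,1,1,1,4,3,0], (.leaf 16)),
 (72, [1,2,4,0,0,0,4,1,1,1,2,0], (.leaf 17))]))))),
 (5, [0,4,1,1], (.step 0 0 [4,1,2,1,1,1,2] (.step 0 0 [] (.br 0 [] [] (Bt.ofL [(18, [], (.leaf 18)),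
 (78, [1,3,0,0,0,4,1,1,1,4,3,0], (.leaf 19)),
 (21, [1,2,4,0,0,0,4,1,1,1,2,0], (.leaf 20))]))))),
 (98, [1,4,0,4], (.step 0 0 [0,2,1,4,1,2,0,4] (.step 0 0 [2,0,0,0,3,0,4,0,0,0,4,0,3,1] (.br 0 [] [] (Bt.ofL [(81, [], (.leaf 21)),
 (25, [1,3,0,0,0,4,1,1,1,4,3,0], (.leaf 22)),
 (95, [1,2,4,0,0,0,4,1,1,1,2,0], (.leaf 23))]))))),
 (7, [4,1,1], (.step 0 0 [0,0,0,4,0,3,0,2,0,4,2,2] (.step 0 0 [1,2,4,0,0,0,4,1,1,1,2,0,0,0,0,4,0,3,1] (.br 0 [] [] (Bt.ofL [(23, [], (.leaf 24)),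
 (18, [1,3,0,0,0,4,1,1,1,4,3,0], (.leaf 25)),
 (8, [1,2,4,0,0,0,4,1,1,1,2,0], (.leaf 26))]))))),
 (20, [1], (.step 0 0 [4,3,0,2,2] (.step 0 0 [1,3,0,0,0,4,1,1,1,4,3,0,0,0,0,4,0,3,1,2,0,0,0,3,0,4,0,0,0,4,0,3,1] (.br 0 [] [] (Bt.ofL [(50, [], (.leaf 27)),
 (88, [1,3,0,0,0,4,1,1,1,4,3,0], (.leaf 28)),
 (31, [1,2,4,0,0,0,4,1,1,1,2,0], (.leaf 29))]))))),
 (12, [1,4,1], (.step 0 0 [4,1,2,1,1,1,2] (.step 0 0 [0,0,0,4,0,3,1] (.br 0 [] [] (Bt.ofL [(19, [], (.leaf 30)),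
 (11, [1,3,0,0,0,4,1,1,1,4,3,0], (.leaf 31)),
 (68, [1,2,4,0,0,0,4,1,1,1,2,0], (.leaf 32))]))))),
 (83, [0], (.step 0 0 [0,2,1,4,1,2,0,4] (.step 0 0 [2,0,0,0,3,0,4,0,0,0,4,0,3,1,4,1,2,1,1,1,3,0,0,0,4,0,3,1] (.br 0 [] [] (Bt.ofL [(55, [], (.leaf 33)),
 (93, [1,3,0,0,0,4,1,1,1,4,3,0], (.leaf 34)),
 (61, [1,2,4,0,0,0,4,1,1,1,2,0], (.leaf 35))]))))),
 (15, [1,4,0,0], (.step 0 0 [2,2] (.step 0 0 [0,0,0,4,0,3,1,2,0,0,0,3,0,4,0,0,0,4,0,3,1] (.br 0 [] [] (Bt.ofL [(89, [], (.leaf 36)),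
 (33, [1,3,0,0,0,4,1,1,1,4,3,0], (.leaf 37)),
 (48, [1,2,4,0,0,0,4,1,1,1,2,0], (.leaf 38))]))))),
 (63, [4], (.step 0 0 [0,2,1,4,1,2,0,4] (.step 0 0 [0,0,0,4,0,3,1,2,0,0,0,3,0,4] (.br 0 [] [] (Bt.ofL [(95, [], (.leaf 39)),
 (32, [1,3,0,0,0,4,1,1,1,4,3,0], (.leaf 40)),
 (62, [1,2,4,0,0,0,4,1,1,1,2,0], (.leaf 41))]))))),
 (55, [0,0], (.step 0 0 [1,2,4,0,0,0,4,1,1,1,2,0,4,3,0] (.step 0 0 [0,2,1,4,1,1,1,2,0,0,0,3,0,4,0,0,0,4,0,3,1] (.br 0 [] [] (Bt.ofL [(24, [], (.leaf 42)),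
 (83, [1,3,0,0,0,4,1,1,1,4,3,0], (.leaf 43)),
 (88, [1,2,4,0,0,0,4,1,1,1,2,0], (.leaf 44))]))))),
 (42, [0,2], (.step 0 0 [2,0,0,0,3,0,4,2,2] (.step 0 0 [2,0,0,0,3,0,4,0,0,0,4,0,3,1,4,1,2,1,1,1,3,0,0,0,4,0,3,1] (.br 0 [] [] (Bt.ofL [(92, [], (.leaf 45)),
 (96, [1,3,0,0,0,4,1,1,1,4,3,0], (.leaf 46)),
 (54, [1,2,4,0,0,0,4,1,1,1,2,0], (.leaf 47))]))))),
 (97, [2,1,1], (.step 0 0 [4,1,2,1,1,1,3,1,2,4] (.step 0 0 [4,1,2,1,1,1,3,0,0,0,4,0,3,1,2,0,0,0,3,0,4,0,0,0,4,0,3,1] (.br 0 [] [] (Bt.ofL [(53, [], (.leaf 48)),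
 (17, [1,3,0,0,0,4,1,1,1,4,3,0], (.leaf 49)),
 (30, [1,2,4,0,0,0,4,1,1,1,2,0], (.leaf 50))]))))),
 (93, [1,4], (.step 0 0 [0,2,1,4,1,1,1,4,3,0] (.step 0 0 [0,2,1,4,1,1,1,1,2,4,0,0,0,4,1,1,1,2,0,0,2,1,4,1,1,1] (.br 0 [] [] (Bt.ofL [(2, [], (.leaf 51)),
 (83, [1,3,0,0,0,4,1,1,1,4,3,0], (.leaf 52)),
 (69, [1,2,4,0,0,0,4,1,1,1,2,0], (.leaf 53))]))))),
 (41, [3,1], (.step 0 0 [4,1,2,1,1,1,2] (.step 0 0 [] (.br 0 [] [] (Bt.ofL [(72, [], (.leaf 54)),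
 (25, [1,3,0,0,0,4,1,1,1,4,3,0], (.leaf 55)),
 (71, [1,2,4,0,0,0,4,1,1,1,2,0], (.leaf 56))]))))),
 (96, [2], (.step 0 0 [0,0,2,0,3,0,2,2] (.step 0 0 [0,2,1,4,1,1,1,4,1,2,1,1,1,3,0,2,1,4,1,1,1] (.br 0 [] [] (Bt.ofL [(6, [], (.leaf 57)),
 (46, [1,3,0,0,0,4,1,1,1,4,3,0], (.leaf 58)),
 (42, [1,2,4,0,0,0,4,1,1,1,2,0], (.leaf 59))])))))]))
def c5_3U : List (List Nat) := [[],[1,3,0,0,0,4,1,1,1,4,3,0],[1,2,4,0,0,0,4,1,1,1,2,0],[0,4,3,3,0,4,0,0,2,0],[2,1,1,4,1,2,4,0,3,1,2,0],[4,1,2,1,1,2,1,3,0,4,1,1],[0,3,0,3,1,2,0,0,3,4,1,1],[4,3,0,3,3,0,4,0,3,0,3,1],[4,1,1,4,0,2,1,4,0,2,4,1,3],[1,1,4,1,3,1,1,1,3,4],[3,1,4,3,3,0,0,4,0,2,1],[0,0,4,0,3,3,1,1,1,3,0,4],[1,2,1,3,1,3,4,1,1,1,4],[0,3,1,2,0,0,2,0,3,4,0,3,1],[1,3,0,3,1,1,1,3,4,0,2,2],[4,1,1,3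,1,1,3,0,4,0,2,4],[0,4,3,0,0,0,4,0,2,0,3,0],[0,3,3,1,4,0,4,1,4,0],[0,4,1,1,4,1,2,1,1,1,2],[1,1,4,3,1,3,0,3,0,3,4,0],[3,3,1,4,2,0,0,0,2,1,2,0],[1,4,0,3,3,1,4,1,2,4,0,0],[2,0,4,2,1,3,1,3,0,4,0,0],[1,4,2,1,1,1,2,4,1,1,1,3,1],[1,1,1,4,0,3,1,3,1,2,0,3],[2,0,2,0,2,1,2,0,4,0,4,1],[4,0,3,1,3,0,3,0,2,1],[2,1,4,1,1,1,4,0,0,3,1,2],[4,3,1,3,3,1,2,1,4,0,0,2,2],[0,3,1,2,1,2,0,2,1,4],[2,1,4,1,1,3,4,1,2,4,0,0],[3,1,1,4,1,1,4,1,4,0,2],[0,0,3,1,2,1,2,4,0,0,4,0,2],[0,2,0,3,0,0,3,1,2,4],[1,4,0,4,2,1,2,1,3,0,4,0,0],[1,4,3,1,1,4,1,4,0,3,0],[0,3,0,0,0,3,1,1,4,1,1,4],[2,1,1,3,1,1,3,4,1,1,4],[0,3,1,3,1,3,4,0,0,2,2],[0,0,4,0,0,4,1,3,4,0,0],[0,4,1,2,0,0,2,4,1,1],[0,0,2,0,0,3,4,0,2,0,2],[1,3,1,1,4,1,2,2,4,1],[3,0,2,0,4,0,3,1,2,1],[0,0,4,1,3,1,2,0,0,0,4],[1,1,4,2,0,4,1,1,3,1,1],[0,4,3,1,1,3,0,4,0,3,0,0,2],[1,1,4,2,0,0,0,3,0,3,4,1],[0,4,2,0,3,1,2,0,0,4,1,3,0],[3,3,0,4,0,2,0,0,0,3,0],[1,1,4,2,0,4,1,1,4,1,1],[1,1,4,0,3,1,1,4,1,3,1],[1,4,1,1,1,2,1,1,1,2,0],[0,3,1,4,1,2,0,0,3,0],[3,1,4,1,2,1,1,1,2],[4,0,0,0,3,1,1,1,2,4,1],[1,1,4,0,4,0,0,2,1,4,0],[3,1,2,0,3,0,4,0,0,3,4],[1,4,1,3,1,1,3,4,1,1,2,4],[3,0,2,0,4,0,4,0,4]]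
theorem c5_3 : Ck SL (wprod g0 [1,1,4,3,0,3,0,4,1,2,0]) :=
  M0.ck c5_3L _ _ 5 [[0],[0,0],[0,0,0],[0,0,0,0],[1]] c5_3U 0 7 c5_3Z c5_3T (by decide +kernel) (by decide +kernel) (by decide +kernel)
theorem k5 : Pk G0 SL 5 := M0.pk s5P (by norm_num) (by decide) [[0,4,1,2],[0,4,1,2,0,4,1,2],[4,0,3,1,3,0,3,0,2,1],[1,1,4,3,0,3,0,4,1,2,0]]
  (.cons (.cons .pw (.cons (.rep [] 0) (.cons (.rep [] 1) (.cons (.rep [1,3,0,4,1,2,0] 1) (.cons (.rep [0,3,3,0,4,1,4,0,2,0,0,4] 0) .nil))))) (.cons (.cons (.rep [] 2) (.cons (.rep [] 3) (.cons (.rep [0,2,1,1,3,1,2,2,0] 0) (.cons (.rep [1,4,0,0,3,1,2,4,0,0,2] 0) (.cons (.rep [4,0,2,0,3,3,0,2,2,0] 3) .nil))))) (.cons (.cons (.rep [3,1,3,3,1,4,0,0,0,2,4,0] 3) (.cons (.rep [1,1,4,3,3,0,2,2,0,2,1,1] 1)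 (.cons (.rep [2,0,4,1,4,0,2,0,0,0] 2) (.cons (.rep [3,3,1,2,0,4,1,2,1,1,3,0,4] 2) (.cons (.rep [0,4,1,1,4,0,2,1,1,1,3] 1) .nil))))) (.cons (.cons (.rep [1,3,1,4,1,1,4,0,3,0,0] 3) (.cons (.rep [3,3,1,3,3,1,2,0,0,4,0,0] 1) (.cons (.rep [0,4,2,0,4,1,3,4,1,1,2] 2) (.cons (.rep [4,2,1,4,1,4,0,2,2,0,3,4,0] 2) (.cons (.rep [1,4,2,0,2,0,4,0,0,3,1] 1) .nil))))) (.cons (.cons (.rep [0,4,1,3,0,4,3,1,3,1] 2) (.cons (.rep [4,0,3,3,1,3,3,0,2] 3) (.cons (.rep [1,3,3,1,3,3,1,4,1,1,4] 0) (.cons (.rep [0,3,1,4,2,0,2,1,2,1,4] 0) (.cons (.rep [4,0,2,1,2,0,2,1,2,4] 3) .nil))))) .nil))))) (by decide +kernel) (by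
    simp only [List.forall_mem_cons]; exact ⟨c5_0, c5_1, c5_2, c5_3, by simp⟩)
def c7C : List Lvl := [⟨76, [[4],[0],[2]], [0,1,0,1,2,0,1,2,0,1,2,1,0,1], 100⟩,
  ⟨55, [[0],[2]], [0,1,0,1,0,0,1,0,1,0], 36⟩,
  ⟨87, [[3,0,2],[0,2,2,1]], [0,1,0,0,1,0,0,0], 21⟩,
  ⟨45, [[0,0,0,2,0,3],[0,0,2,2,1,1]], [0,1,0,1], 8⟩]
def c7M : List (List Nat) := [[0xb26a806489c8527a2d9180005],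
  [0x904880608880026a251080001],
  [0x1000002080000020000000000],
  []]
def c7Z : List Nat := [0xfffffffffffffffffffffffff]
theorem c7L : LvOk G0 (finPt 100) 100 [] (mkLV c7C c7M) := M0.lvOk c7C 7 c7M (by decide +kernel) (by decide +kernel)
noncomputable def c7T : Bt := (.br 0 [] [] (Bt.ofL [(76, [], (.br 0 [] [] (Bt.ofL [(55, [], (.br 0 [[0]] [0,0,0,0,0,0] (Bt.deads [[0,0,0,0,0,2,2,1,3,0,2],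
 [99,0,0,0,0,0,2,2,1,1,3,0,2]] (Bt.ofL [(87, [], (.step 0 2 [] (.leaf 0)))]))))]))),
 (55, [4,0,0,3,0,4], (.br 0 [] [] (Bt.ofL [(76, [2], (.br 0 [[0]] [0,0,0,0,0,0] (Bt.deads [[36,0,0,0],
 [26,0,0,0,3,0,0,2],
 [64,0,4,0,3,1,1,2]] .nil)))])))]))
def c7U : List (List Nat) := [[]]
theorem c7 : Ck SL (wprod g0 [3,0,0,2]) :=
  M0.ck c7L _ _ 7 [[0],[0,0],[0,0,0],[0,0,0,0],[0,0,0,0,0],[0,0,0,0,0,0],[1]] c7U 1 7 c7Z c7T (by decide +kernel) (by decide +kernel) (by decide +kernel)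
theorem k7 : Pk G0 SL 7 := have := M0.fin; pk_cyc (by norm_num) (by rw [M0.card]; norm_num) (M0.ordN _ (by decide +kernel)) c7
def s2S : List (List Nat) := [[4,2,0,3,1,3,1,4,1,3,4,0,4],[1,2,0,4,1,4,0,0,4,1],[4,0,0,0,3,0,2,1,4],[4,1,2,1,3,1,3,4,0,3],[3,0,0,0,4,0,2,0,0,3,0],[4,3,0,3,1,3,0,3,1,4],[4,3,0,3,1,2,0,2,2,1,3,4]]
theorem s2P : Pc (fun j => wprod g0 (wordAt s2S j)) 2 s2S.length :=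
  M0.pc [[],[12],[12],[10,12],[12],[],[]] [[], [[2,4]], [[4,12],[4,12]], [[6,10,12],[6,8,10],[6,10]], [[8,10],[8],[8,12],[8]], [[10],[10,12],[10],[10],[10]], [[12],[12],[12],[12],[12],[12]]] (by decide +kernel) (M0.ge s2S [⟨0, [[0],[2],[6],[4],[8],[10]], [0,1,2,4,5,3,0], 64⟩,
  ⟨1, [[2,5,10]], [0], 2⟩] 7 (by decide +kernel))
theorem kl : ∀ x : G0, Kl SL x := have := M0.fin; kl_all (q := 2) (a := 7) (e := 3) M0.card [3,5,7] (by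
    simp only [List.forall_mem_cons]; exact ⟨⟨by norm_num, k3⟩, ⟨by norm_num, k5⟩, ⟨by norm_num, k7⟩, by simp⟩)
  (M0.ex s2P (by norm_num) (by decide) (q := 8) (by decide) (.cons (.cons (.cons (.cons (.cons (.cons (.cons .pw (.cons .pw .nil)) (.cons (.cons .pw (.cons .pw .nil)) .nil)) (.cons (.cons (.cons .pw (.cons .pw .nil)) (.cons (.cons .pw (.cons .pw .nil)) .nil)) .nil)) (.cons (.cons (.cons (.cons .pw (.cons .pw .nil)) (.cons (.cons .pw (.cons .pw .nil)) .nil)) (.cons (.cons (.cons .pw (.cons .pw .nil)) (.cons (.cons .pw (.cons .pw .nil)) .nil)) .nil)) .nil)) (.cons (.cons (.cons (.cons (.cons .pw (.cons .pw .nil)) (.cons (.cons .pw (.cons .pw .nil)) .nil)) (.cons (.cons (.cons .pw (.cons .pw .nil)) (.cons (.cons .pw (.cons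 .pw .nil)) .nil)) .nil)) (.cons (.cons (.cons (.cons .pw (.cons .pw .nil)) (.cons (.cons .pw (.cons .pw .nil)) .nil)) (.cons (.cons (.cons .pw (.cons .pw .nil)) (.cons (.cons .pw (.cons .pw .nil)) .nil)) .nil)) .nil)) .nil)) (.cons (.cons (.cons (.cons (.cons (.cons .pw (.cons .pw .nil)) (.cons (.cons .pw (.cons .pw .nil)) .nil)) (.cons (.cons (.cons .pw (.cons .pw .nil)) (.cons (.cons .pw (.cons .pw .nil)) .nil)) .nil)) (.cons (.cons (.cons (.cons .pw (.cons .pw .nil)) (.cons (.cons .pw (.cons .pw .nil)) .nil)) (.cons (.cons (.cons .pw (.cons .pw .nil)) (.cons (.cons .pw (.cons .pw .nil)) .nil)) .nil)) .nil)) (.cons (.cons (.cons (.cons (.cons .pw (.cons .pw .nil)) (.cons (.cons .pw (.cons .pw .nil)) .nil)) (.cons (.cons (.cons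 .pw (.cons .pw .nil)) (.cons (.cons .pw (.cons .pw .nil)) .nil)) .nil)) (.cons (.cons (.cons (.cons .pw (.cons .pw .nil)) (.cons (.cons .pw (.cons .pw .nil)) .nil)) (.cons (.cons (.cons .pw (.cons .pw .nil)) (.cons (.cons .pw (.cons .pw .nil)) .nil)) .nil)) .nil)) .nil)) .nil)) (.cons (.cons (.cons (.cons (.cons (.cons (.cons .pw (.cons .pw .nil)) (.cons (.cons .pw (.cons .pw .nil)) .nil)) (.cons (.cons (.cons .pw (.cons .pw .nil)) (.cons (.cons .pw (.cons .pw .nil)) .nil)) .nil)) (.cons (.cons (.cons (.cons .pw (.cons .pw .nil)) (.cons (.cons .pw (.cons .pw .nil)) .nil)) (.cons (.cons (.cons .pw (.cons .pw .nil)) (.cons (.cons .pw (.cons .pw .nil)) .nil)) .nil)) .nil)) (.cons (.cons (.cons (.cons (.cons .pw (.cons .pw .nil))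 (.cons (.cons .pw (.cons .pw .nil)) .nil)) (.cons (.cons (.cons .pw (.cons .pw .nil)) (.cons (.cons .pw (.cons .pw .nil)) .nil)) .nil)) (.cons (.cons (.cons (.cons .pw (.cons .pw .nil)) (.cons (.cons .pw (.cons .pw .nil)) .nil)) (.cons (.cons (.cons .pw (.cons .pw .nil)) (.cons (.cons .pw (.cons .pw .nil)) .nil)) .nil)) .nil)) .nil)) (.cons (.cons (.cons (.cons (.cons (.cons .pw (.cons .pw .nil)) (.cons (.cons .pw (.cons .pw .nil)) .nil)) (.cons (.cons (.cons .pw (.cons .pw .nil)) (.cons (.cons .pw (.cons .pw .nil)) .nil)) .nil)) (.cons (.cons (.cons (.cons .pw (.cons .pw .nil)) (.cons (.cons .pw (.cons .pw .nil)) .nil)) (.cons (.cons (.cons .pw (.cons .pw .nil)) (.cons (.cons .pw (.cons .pw .nil)) .nil)) .nil)) .nil)) (.cons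 (.cons (.cons (.cons (.cons .pw (.cons .pw .nil)) (.cons (.cons .pw (.cons .pw .nil)) .nil)) (.cons (.cons (.cons .pw (.cons .pw .nil)) (.cons (.cons .pw (.cons .pw .nil)) .nil)) .nil)) (.cons (.cons (.cons (.cons .pw (.cons .pw .nil)) (.cons (.cons .pw (.cons .pw .nil)) .nil)) (.cons (.cons (.cons .pw (.cons .pw .nil)) (.cons (.cons .pw (.cons .pw .nil)) .nil)) .nil)) .nil)) .nil)) .nil)) .nil)) (by decide +kernel)) (by norm_num)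
theorem spec0 : Set.range (orderOf : G0 → ℕ) = {n | ∃ m ∈ SL, n ∣ m} := M0.spec kl [[4,0,4,0,0,4],[0,3],[1,4,0,4,3,4,0,4],[4,0],[4,1,4,2,0]] (by decide +kernel)
theorem spec {G : Type u} [Group G] (h : Mdl G 3 Rf 604800) : Set.range (orderOf : G → ℕ) = {n | ∃ m ∈ [7,8,10,12,15], n ∣ m} :=
  (iso h).elim fun e => (CfsgH8.range_orderOf_congr e).symm.trans spec0

end CfsgH7.J2m.Sp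

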