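import Cfsg.Agent.H7.Mult3
import Cfsg.Agent.H7.PgQ
import Cfsg.Agent.H7.Li.Sz8

set_option autoImplicit false
set_option maxRecDepth 100000

universe u

open scoped Pointwise

namespace CfsgH7.Sz83T

noncomputable def e0 : Tr := (Tr.leaf (nat_lit 0x112226a26b821ac69c69e02050210238))

noncomputable def j0 : Tr := (Tr.leaf (nat_lit 0x1c610908802414610908801e000103081000))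

noncomputable def R : RTr := (RTr.node (RTr.node (RTr.node (RTr.node (RTr.leaf ⟨true,6,[],[],0,0,false⟩) (RTr.leaf ⟨false,18,[30,24,12,12,24,6,6,18,6,18,12,36],[],5,1,false⟩)) (RTr.leaf ⟨false,36,[30],[],2,1,false⟩)) (RTr.node (RTr.leaf ⟨true,18,[],[],1,0,false⟩) (RTr.leaf ⟨false,36,[36,36],[],3,1,true⟩))) (RTr.node (RTr.node (RTr.leaf ⟨false,12,[6],[],0,1,false⟩) (RTr.leaf ⟨false,30,[36],[],2,0,false⟩)) (RTr.node (RTr.leaf ⟨false,24,[18],[],1,1,false⟩) (RTr.leaf ⟨false,6,[30,6,6,18,6,24,24,12,12,24,24,36],[],4,1,false⟩))))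

noncomputable def D : TCD where
  N := nat_lit 3
  E := e0
  lb := nat_lit 4
  lm := nat_lit 15
  rw := nat_lit 42
  em := nat_lit 63
  vm := nat_lit 7
  fl := nat_lit 4
  wv := nat_lit 3
  inf := nat_lit 56
  J := j0
  jw := nat_lit 6
  jm := nat_lit 63
  jr := nat_lit 48
  pk := nat_lit 42
  nr := nat_lit 9
  R := R
  cols := [(nat_lit 6,nat_lit 12),(nat_lit 12,nat_lit 18),(nat_lit 18,nat_lit 24),(nat_lit 24,nat_lit 30),(nat_lit 30,nat_lit 36),(nat_lit 36,nat_lit 42)]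
  j0 := nat_lit 6
  big := nat_lit 1000000000

def cl : List (Nat × Nat) := [(6,0),(12,1),(18,2),(24,3),(30,4),(36,5)]
def invs : List Nat := []
def rels : List (List Nat) := [[0,1],[2,3],[4,5],[4,4,4],[4,0,5,3,3,1,1,3,3,0,2,0,0],[4,2,5,1,2,0,2,0,0,3,1,1,3]]
def subs : List (List Nat) := [[0],[2]]
def W0 : List (List Nat) := [[0],[2],[4]]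

theorem c0 : Nat.beq (nsum2 D.val 0 1 64) 3 = true := by decide +kernel

theorem pre : tcPre D cl invs rels subs W0 64 3 = true := by decide +kernel

theorem u0 : Upto D.val 0 0 := Upto.zero _
theorem u1 : Upto D.val 64 3 := u0.step c0 (by decide) (by decide)

theorem relIndex {G : Type*} [Group G] (g : Nat → G) (K : Subgroup G) (hinv : ∀ k ∈ invs, g k * g k = 1)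
    (hrel : ∀ r ∈ rels, wprod g r = 1) (hsub : ∀ h ∈ subs, wprod g h ∈ K) :
    K.relIndex (genW g W0) ≠ 0 ∧ K.relIndex (genW g W0) ≤ 3 :=
  tc_relIndex g K D cl invs rels subs W0 _ _ hinv hrel hsub pre u1

end CfsgH7.Sz83T

namespace CfsgH7.Sz83

def R : List (List Nat) := [[4,4,4],[4,0,5,3,3,1,1,3,3,0,2,0,0],[4,2,5,1,2,0,2,0,0,3,1,1,3]]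
def S : List (List Nat) := [[0],[2]]
theorem p2 : P2.{u} 3 R S 3 := fun _ _ g K hs hS =>
  have hf := hs.follows (invs := Sz83T.invs) (rels := Sz83T.rels) (by decide +kernel)
  Sz83T.relIndex g K hf.1 hf.2 hS
noncomputable def Rf : List (List Nat) := R ++ (Sz8.Rf).map (substW S)
theorem pr : Pr.{u} 3 Rf 87360 := Pr.step (S := S) p2 Sz8.pr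

end CfsgH7.Sz83

namespace CfsgH7.Sz83

noncomputable def n0 : Net := (Net.cons (nat_lit 40) (nat_lit 0x9e2ee40320) (Net.cons (nat_lit 20) (nat_lit 0x4fa650000006189) (Net.cons (nat_lit 10) (nat_lit 0x14a000f400115000b0) (Net.cons (nat_lit 5) (nat_lit 0x580d010160200802410) (Net.cons (nat_lit 1) (nat_lit 0x8001000010000000000) (Net.cons (nat_lit 1) (nat_lit 0x50042401020080050040) (Net.cons (nat_lit 1) (nat_lit 0x28084284a501405204a1) (Net.cons (nat_lit 1) (nat_lit 0x501085284a0080a5284a) (Net.cons (nat_lit 1) (nat_lit 0x81014842040001424) (Net.cons (nat_lit 5) (nat_lit 0x10180501e0300c02818) (Net.cons (nat_lit 10) (nat_lit 0x110000840000a003f4)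 (Net.cons (nat_lit 20) (nat_lit 0x438a20000067180) (Net.cons (nat_lit 40) (nat_lit 0x9e2f3ab090) Net.nil)))))))))))))

noncomputable def n1 : Net := (Net.cons (nat_lit 40) (nat_lit 0x772d89f542) (Net.cons (nat_lit 20) (nat_lit 0x550920000076a44) (Net.cons (nat_lit 10) (nat_lit 0x396001f3000a90029e) (Net.cons (nat_lit 5) (nat_lit 0x6814000070681802c1c) (Net.cons (nat_lit 1) (nat_lit 0x4040800000400) (Net.cons (nat_lit 1) (nat_lit 0x428000284a5080202802) (Net.cons (nat_lit 1) (nat_lit 0x21001090852108529024) (Net.cons (nat_lit 1) (nat_lit 0x5294212902529421284a) (Net.cons (nat_lit 1) (nat_lit 0x2008109085004a000420) (Net.cons (nat_lit 5) (nat_lit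 0x20140301a060060281c) (Net.cons (nat_lit 10) (nat_lit 0x38200090000e0002ba) (Net.cons (nat_lit 20) (nat_lit 0x3705c0000076e70) (Net.cons (nat_lit 40) (nat_lit 0x772dc4a1c0) Net.nil)))))))))))))

noncomputable def n2 : Net := (Net.cons (nat_lit 40) (nat_lit 0xaf09c867bc) (Net.cons (nat_lit 20) (nat_lit 0x8ede80000043962) (Net.cons (nat_lit 10) (nat_lit 0x184002500004a00386) (Net.cons (nat_lit 5) (nat_lit 0x3006060140180803812) (Net.cons (nat_lit 1) (nat_lit 0xa0) (Net.cons (nat_lit 1) (nat_lit 0x28004010a0000042942) (Net.cons (nat_lit 1) (nat_lit 0x10242808500000294a4) (Net.cons (nat_lit 1) (nat_lit 0x284a50142101005094a) (Net.cons (nat_lit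 1) (nat_lit 0x1424280040040509020) (Net.cons (nat_lit 5) (nat_lit 0x2004060000180807808) (Net.cons (nat_lit 10) (nat_lit 0x1a4002c800102000b6) (Net.cons (nat_lit 20) (nat_lit 0x8ede80000053d00) (Net.cons (nat_lit 40) (nat_lit 0xaf089066bc) Net.nil)))))))))))))

noncomputable def l : List Net := [n0, n1, n2]

theorem R0 : Rep (finPt 65) 65 (finGen 65 l) l := finRep 65 l (by decide +kernel) (by decide +kernel)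

theorem tr0 : trivJ l 65 7 Rf 0 = true := by decide +kernel
theorem tr1 : trivJ l 65 7 Rf 1 = true := by decide +kernel
theorem tr2 : trivJ l 65 7 Rf 2 = true := by decide +kernel
theorem tr3 : trivJ l 65 7 Rf 3 = true := by decide +kernel
theorem tr4 : trivJ l 65 7 Rf 4 = true := by decide +kernel
theorem tr5 : trivJ l 65 7 Rf 5 = true := by decide +kernel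
theorem tr6 : trivJ l 65 7 Rf 6 = true := by decide +kernel
theorem sat0 : Sat (finGen 65 l) Rf := finRep_sat R0 (m := 7) (by norm_num) (by
    intro j hj
    interval_cases j
    · exact tr0
    · exact tr1
    · exact tr2
    · exact tr3
    · exact tr4
    · exact tr5
    · exact tr6)

abbrev G0 : Type := PG 65 l
noncomputable abbrev g0 : Nat → G0 := pgen 65 l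
def bs : List Nat := [2,1,0]
theorem M0 : Md (finPt 65) 65 g0 l 3 87360 bs :=
  Md.fin' R0 pr sat0 [⟨0, [[0],[2],[4]], [0,0,1,2,0,1,0,1,2,0], 65⟩,
  ⟨1, [[2],[4],[0,0,3,5,1]], [0,0,1,0,1,0,1,0,2,1,0], 64⟩,
  ⟨2, [[2,4,3],[0,3,0,3,1,5,2]], [0,0,1,0,0,1,0], 21⟩] 7 bs (by decide +kernel)
theorem sb0 : lall (fun w => fixesP l w bs) Rf = true := by decide +kernel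
theorem mdl0 : Mdl G0 3 Rf 87360 := M0.mdl sb0
theorem iso {G : Type u} [Group G] (h : Mdl G 3 Rf 87360) : Nonempty (G0 ≃* G) := Mdl.iso pr mdl0 h

end CfsgH7.Sz83

namespace CfsgH7.Sz83.Sp

open CfsgH7.Sz83

def SL : List Nat := [7, 13]
def c7C : List Lvl := [⟨47, [[0],[2],[4]], [0,2,1,2,0,1,0,1,0,0,0], 65⟩,
  ⟨4, [[0,2],[1,5],[1,2,0,4]], [0,1,0,1,0,1,0,1,0,2], 64⟩,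
  ⟨56, [[5,0,4,1,4],[0,0,3,0,2,5]], [0,0,1,1], 7⟩,
  ⟨1, [[4,1,5,0,0,3,4]], [0,0], 3⟩]
def c7M : List (List Nat) := [[0x1ffff7fffffffffff],
  [0x1100008041000802],
  [0x1000000000000802],
  []]
def c7Z : List Nat := [0x1ffffffffffffffff]
theorem c7L : LvOk G0 (finPt 65) 65 [] (mkLV c7C c7M) := M0.lvOk c7C 7 c7M (by decide +kernel) (by decide +kernel)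
noncomputable def c7T : Bt := (.br 0 [] [] (Bt.ofL [(47, [], (.br 0 [] [] (Bt.ofL [(4, [], (.br 0 [[0]] [0,0,0,0,0,0] (Bt.ofL [(56, [], (.step 0 0 [] (.leaf 0)))])))]))),
 (4, [2,0], (.br 0 [] [] (Bt.ofL [(47, [1,2,0,4,3,1], (.br 0 [[0]] [0,0,0,0,0,0] (Bt.deads [[63,0,0,0]] .nil)))])))]))
def c7U : List (List Nat) := [[]]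
theorem c7 : Ck SL (wprod g0 [2,5,0,2,4,3]) :=
  M0.ck c7L _ _ 7 [[0],[0,0],[0,0,0],[0,0,0,0],[0,0,0,0,0],[0,0,0,0,0,0],[1]] c7U 1 7 c7Z c7T (by decide +kernel) (by decide +kernel) (by decide +kernel)
theorem k7 : Pk G0 SL 7 := have := M0.fin; pk_cyc (by norm_num) (by rw [M0.card]; norm_num) (M0.ordN _ (by decide +kernel)) c7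
def c13C : List Lvl := [⟨34, [[0],[2],[4]], [0,1,2,0,1,0,2,1,1], 65⟩,
  ⟨10, [[2,1,4],[0,0,4,1]], [0,1,0,1,0,1,0,0,1,0,0,1,0], 64⟩,
  ⟨7, [[5,2,1,2,4],[0,0,2,2,0,5,0,3]], [0,1,0,1,0,1], 21⟩]
def c13M : List (List Nat) := [[],
  [0x10800122041],
  []]
def c13Z : List Nat := [0x1ffffffffffffffff]
theorem c13L : LvOk G0 (finPt 65) 65 [] (mkLV c13C c13M) := M0.lvOk c13C 7 c13M (by decide +kernel) (by decide +kernel)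
noncomputable def c13T : Bt := (.br 0 [[0]] [0,0,0,0,0,0,0,0,0,0,0,0] (Bt.ofL [(34, [], (.step 0 0 [] (.step 0 1 [] (.leaf 0)))),
 (0, [0,4], (.step 0 0 [2,1,4,0,5,1,1] (.dead 0 0 0))),
 (56, [5], (.step 0 0 [0,0,4,1,5,2,1,2,4,0,0,4,1] (.dead 0 0 0))),
 (41, [1,2], (.step 0 0 [0,0,4,1,5,2,1,2,4,2,1,4] (.dead 0 0 0))),
 (18, [2,4,2], (.step 0 0 [0,0,4,1,5,0,3] (.dead 0 0 0)))]))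
def c13U : List (List Nat) := [[]]
theorem c13 : Ck SL (wprod g0 [0,0,0]) :=
  M0.ck c13L _ _ 13 [[0],[0,0],[0,0,0],[0,0,0,0],[0,0,0,0,0],[0,0,0,0,0,0],[1]] c13U 0 7 c13Z c13T (by decide +kernel) (by decide +kernel) (by decide +kernel)
theorem k13 : Pk G0 SL 13 := have := M0.fin; pk_cyc (by norm_num) (by rw [M0.card]; norm_num) (M0.ordN _ (by decide +kernel)) c13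
def Ms : List (List (List Nat)) := [[[0,0,1,0,1,0,1,1,1,1,1,1,1,1,1,1,1,0,0,1,0,0,1,0,1,0,1,0,1,1,1,0,0,1,0,0,1,0,1,0,1,1,1,0,0,1,0,0],[1,0,1,0,1,1,1,0,0,1,0,0,1,0,0,0,0,1,0,1,1,0,1,1,1,1,1,1,1,0,0,1,0,0,1,0,1,1,1,1,1,0,0,1,0,0,1,0],[0,1,0,1,0,1,1,1,0,1,1,0,1,1,0,1,0,0,1,0,1,1,0,1,0,1,1,1,1,1,0,0,1,0,0,1,0,1,1,1,1,1,0,0,1,0,0,1],[0,0,0,1,0,0,0,1,1,1,0,0,0,0,0,0,1,1,0,0,1,0,1,1,0,0,0,0,1,0,1,1,0,0,1,0,0,0,0,0,1,0,1,1,0,0,1,0],[0,0,0,0,1,0,1,1,0,0,1,0,0,0,0,1,1,0,1,0,1,1,1,0,0,0,0,0,1,1,0,0,1,0,1,1,0,0,0,0,1,1,0,0,1,0,1,1],[0,0,0,0,0,1,1,1,1,0,0,1,0,0,0,1,1,1,0,1,0,1,1,1,0,0,0,1,0,1,1,0,0,1,0,1,0,0,0,1,0,1,1,0,0,1,0,1],[1,1,0,1,0,0,0,0,0,1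,1,0,1,0,1,0,1,1,0,0,0,1,0,1,0,0,1,0,1,0,0,0,0,0,0,1,0,0,1,0,1,0,0,0,0,0,0,1],[0,0,1,0,1,0,0,0,0,0,0,1,1,1,1,1,1,0,0,0,0,1,1,1,1,0,1,0,1,1,0,0,0,1,0,1,1,0,1,0,1,1,0,0,0,1,0,1],[1,0,0,0,0,1,0,0,0,1,0,0,0,1,1,1,1,1,0,0,0,0,1,1,0,1,0,1,0,1,0,0,0,0,1,0,0,1,0,1,0,1,0,0,0,0,1,0],[1,0,0,1,1,0,0,0,1,1,1,0,0,1,1,1,0,1,1,1,1,1,0,1,0,1,0,0,0,1,1,0,1,0,0,1,0,1,0,0,0,1,1,0,1,0,0,1],[0,1,0,0,0,1,1,0,1,0,0,1,1,1,0,1,1,1,1,0,0,1,1,1,0,1,1,1,0,1,1,1,1,1,0,1,0,1,1,1,0,1,1,1,1,1,0,1],[0,0,1,1,0,0,0,1,0,1,0,0,1,1,1,0,1,1,1,1,0,0,1,1,1,0,1,0,1,0,0,1,1,0,1,0,1,0,1,0,1,0,0,1,1,0,1,0],[0,0,0,0,0,0,0,0,0,0,0,0,0,1,1,1,1,1,0,0,1,0,0,1,1,1,0,1,0,0,1,0,1,1,0,1,0,1,1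,1,1,1,0,0,1,0,0,1],[0,0,0,0,0,0,0,0,0,0,0,0,1,1,0,1,0,0,1,0,1,1,0,1,0,0,1,0,1,0,1,1,1,1,1,1,1,1,0,1,0,0,1,0,1,1,0,1],[0,0,0,0,0,0,0,0,0,0,0,0,1,1,1,1,1,0,0,1,0,0,1,0,1,0,0,0,0,1,0,1,1,0,1,1,1,1,1,1,1,0,0,1,0,0,1,0],[0,0,0,0,0,0,0,0,0,0,0,0,0,0,0,1,0,1,1,0,0,1,0,1,0,0,0,1,1,1,0,1,0,1,1,1,0,0,0,1,0,1,1,0,0,1,0,1],[0,0,0,0,0,0,0,0,0,0,0,0,0,0,0,1,1,1,0,1,0,1,1,1,0,0,0,1,0,0,0,1,1,1,0,0,0,0,0,1,1,1,0,1,0,1,1,1],[0,0,0,0,0,0,0,0,0,0,0,0,0,0,0,0,1,1,0,0,1,0,1,1,0,0,0,1,1,0,1,0,1,1,1,0,0,0,0,0,1,1,0,0,1,0,1,1],[0,0,0,0,0,0,0,0,0,0,0,0,0,1,0,1,0,1,0,0,0,0,1,0,0,1,1,1,1,1,0,0,0,0,1,1,0,1,0,1,0,1,0,0,0,0,1,0],[0,0,0,0,0,0,0,0,0,0,0,0,0,1,1,1,1,1,0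,0,0,0,1,1,1,1,0,1,0,0,0,0,0,1,1,0,0,1,1,1,1,1,0,0,0,0,1,1],[0,0,0,0,0,0,0,0,0,0,0,0,1,0,1,0,1,1,0,0,0,1,0,1,1,1,1,1,1,0,0,0,0,1,1,1,1,0,1,0,1,1,0,0,0,1,0,1],[0,0,0,0,0,0,0,0,0,0,0,0,1,0,1,0,1,0,0,1,1,0,1,0,1,1,1,0,1,1,1,1,0,0,1,1,1,0,1,0,1,0,0,1,1,0,1,0],[0,0,0,0,0,0,0,0,0,0,0,0,1,1,1,0,1,1,1,1,0,0,1,1,1,0,0,1,1,0,0,0,1,1,1,0,1,1,1,0,1,1,1,1,0,0,1,1],[0,0,0,0,0,0,0,0,0,0,0,0,0,1,1,1,0,1,1,1,1,1,0,1,1,1,0,1,1,1,1,0,0,1,1,1,0,1,1,1,0,1,1,1,1,1,0,1],[1,0,0,0,0,1,0,1,1,0,1,1,0,1,1,1,1,1,0,0,1,0,0,1,0,0,0,0,0,0,0,0,0,0,0,0,1,0,0,0,0,1,0,1,1,0,1,1],[0,1,0,1,0,1,1,1,0,1,1,0,1,1,0,1,0,0,1,0,1,1,0,1,0,0,0,0,0,0,0,0,0,0,0,0,0,1,0,1,0,1,1,1,0,1,1,0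],[0,0,1,0,1,0,1,1,1,1,1,1,1,1,1,1,1,0,0,1,0,0,1,0,0,0,0,0,0,0,0,0,0,0,0,0,0,0,1,0,1,0,1,1,1,1,1,1],[0,0,0,1,1,0,1,0,1,1,1,0,0,0,0,1,0,1,1,0,0,1,0,1,0,0,0,0,0,0,0,0,0,0,0,0,0,0,0,1,1,0,1,0,1,1,1,0],[0,0,0,0,0,1,1,1,1,0,0,1,0,0,0,1,1,1,0,1,0,1,1,1,0,0,0,0,0,0,0,0,0,0,0,0,0,0,0,0,0,1,1,1,1,0,0,1],[0,0,0,1,0,0,0,1,1,1,0,0,0,0,0,0,1,1,0,0,1,0,1,1,0,0,0,0,0,0,0,0,0,0,0,0,0,0,0,1,0,0,0,1,1,1,0,0],[1,1,1,1,1,0,0,0,0,1,1,1,0,1,0,1,0,1,0,0,0,0,1,0,0,0,0,0,0,0,0,0,0,0,0,0,1,1,1,1,1,0,0,0,0,1,1,1],[1,0,0,0,0,1,0,0,0,1,0,0,0,1,1,1,1,1,0,0,0,0,1,1,0,0,0,0,0,0,0,0,0,0,0,0,1,0,0,0,0,1,0,0,0,1,0,0],[1,1,0,1,0,0,0,0,0,1,1,0,1,0,1,0,1,1,0,0,0,1,0,1,0,0,0,0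,0,0,0,0,0,0,0,0,1,1,0,1,0,0,0,0,0,1,1,0],[1,1,0,1,1,1,1,0,0,1,1,1,1,0,1,0,1,0,0,1,1,0,1,0,0,0,0,0,0,0,0,0,0,0,0,0,1,1,0,1,1,1,1,0,0,1,1,1],[0,0,1,1,0,0,0,1,0,1,0,0,1,1,1,0,1,1,1,1,0,0,1,1,0,0,0,0,0,0,0,0,0,0,0,0,0,0,1,1,0,0,0,1,0,1,0,0],[1,0,0,1,1,0,0,0,1,1,1,0,0,1,1,1,0,1,1,1,1,1,0,1,0,0,0,0,0,0,0,0,0,0,0,0,1,0,0,1,1,0,0,0,1,1,1,0],[0,1,1,1,1,1,0,0,1,0,0,1,1,0,0,0,0,1,0,1,1,0,1,1,0,0,1,0,1,0,1,1,1,1,1,1,1,0,0,0,0,1,0,1,1,0,1,1],[1,1,0,1,0,0,1,0,1,1,0,1,0,1,0,1,0,1,1,1,0,1,1,0,1,0,1,0,1,1,1,0,0,1,0,0,0,1,0,1,0,1,1,1,0,1,1,0],[1,1,1,1,1,0,0,1,0,0,1,0,0,0,1,0,1,0,1,1,1,1,1,1,0,1,0,1,0,1,1,1,0,1,1,0,0,0,1,0,1,0,1,1,1,1,1,1],[0,0,0,1,0,1,1,0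,0,1,0,1,0,0,0,1,1,0,1,0,1,1,1,0,0,0,0,1,0,0,0,1,1,1,0,0,0,0,0,1,1,0,1,0,1,1,1,0],[0,0,0,1,1,1,0,1,0,1,1,1,0,0,0,0,0,1,1,1,1,0,0,1,0,0,0,0,1,0,1,1,0,0,1,0,0,0,0,0,0,1,1,1,1,0,0,1],[0,0,0,0,1,1,0,0,1,0,1,1,0,0,0,1,0,0,0,1,1,1,0,0,0,0,0,0,0,1,1,1,1,0,0,1,0,0,0,1,0,0,0,1,1,1,0,0],[0,1,0,1,0,1,0,0,0,0,1,0,1,1,1,1,1,0,0,0,0,1,1,1,1,1,0,1,0,0,0,0,0,1,1,0,1,1,1,1,1,0,0,0,0,1,1,1],[0,1,1,1,1,1,0,0,0,0,1,1,1,0,0,0,0,1,0,0,0,1,0,0,0,0,1,0,1,0,0,0,0,0,0,1,1,0,0,0,0,1,0,0,0,1,0,0],[1,0,1,0,1,1,0,0,0,1,0,1,1,1,0,1,0,0,0,0,0,1,1,0,1,0,0,0,0,1,0,0,0,1,0,0,1,1,0,1,0,0,0,0,0,1,1,0],[1,0,1,0,1,0,0,1,1,0,1,0,1,1,0,1,1,1,1,0,0,1,1,1,1,0,0,1,1,0,0,0,1,1,1,0,1,1,0,1,1,1,1,0,0,1,1,1],[1,1,1,0,1,1,1,1,0,0,1,1,0,0,1,1,0,0,0,1,0,1,0,0,0,1,0,0,0,1,1,0,1,0,0,1,0,0,1,1,0,0,0,1,0,1,0,0],[0,1,1,1,0,1,1,1,1,1,0,1,1,0,0,1,1,0,0,0,1,1,1,0,0,0,1,1,0,0,0,1,0,1,0,0,1,0,0,1,1,0,0,0,1,1,1,0]],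
  [[1,1,1,1,1,1,1,1,0,0,1,1,1,1,1,1,1,1,1,1,0,0,1,1,0,1,0,0,1,0,1,0,1,0,0,1,0,0,1,0,0,1,0,1,0,1,0,0],[1,0,0,1,0,0,0,0,1,1,1,0,1,0,0,1,0,0,0,0,1,1,1,0,0,1,1,0,1,1,1,1,1,1,0,1,1,0,1,1,0,1,0,1,1,0,1,0],[1,1,0,1,1,0,1,0,0,1,1,1,1,1,0,1,1,0,1,0,0,1,1,1,1,0,1,1,0,1,0,1,1,0,1,0,0,1,0,0,1,0,1,0,1,0,0,1],[1,0,0,0,0,0,1,0,1,0,1,1,1,0,0,0,0,0,1,0,1,0,1,1,0,1,1,0,0,0,1,0,0,0,0,1,1,0,1,0,0,0,1,1,0,1,0,0],[0,1,0,0,0,0,1,1,1,1,1,0,0,1,0,0,0,0,1,1,1,1,1,0,1,1,0,0,0,0,0,1,0,1,0,1,1,1,1,0,0,0,0,0,1,0,1,0],[0,0,1,0,0,0,0,1,1,1,1,1,0,0,1,0,0,0,0,1,1,1,1,1,1,1,1,0,0,0,0,0,1,0,1,0,0,1,1,0,0,0,1,0,0,0,0,1],[1,1,1,1,1,0,1,1,0,0,0,1,1,1,1,1,1,0,1,1,0,0,0,1,0,1,0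,1,0,1,1,0,1,1,1,1,0,0,1,0,1,0,0,1,0,0,1,1],[1,0,0,0,0,1,0,0,1,1,0,1,1,0,0,0,0,1,0,0,1,1,0,1,0,1,1,1,1,1,1,1,1,1,0,0,1,0,1,0,1,1,0,1,1,1,1,0],[1,1,0,1,0,0,1,0,0,0,1,0,1,1,0,1,0,0,1,0,0,0,1,0,1,0,1,0,1,1,0,1,1,1,1,0,0,1,0,1,0,1,1,0,1,1,1,1],[1,1,0,1,1,1,0,0,0,1,0,0,1,1,0,1,1,1,0,0,0,1,0,0,1,0,1,0,1,0,0,0,0,0,1,1,0,1,0,0,0,1,0,0,0,1,0,1],[0,0,1,1,0,0,0,0,0,0,1,0,0,0,1,1,0,0,0,0,0,0,1,0,1,1,1,0,1,1,0,0,0,1,1,0,0,1,1,1,0,1,0,0,0,1,1,1],[1,0,0,1,1,0,0,0,0,0,0,1,1,0,0,1,1,0,0,0,0,0,0,1,0,1,1,1,0,1,0,0,0,1,1,1,1,0,1,0,1,0,0,0,0,0,1,1],[1,1,0,1,1,0,1,0,0,1,1,1,0,0,0,0,0,0,0,0,0,0,0,0,0,1,1,0,1,1,1,1,1,1,0,1,0,0,1,0,0,1,0,1,0,1,0,0],[0,0,1,0,0,1,0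,1,0,1,0,0,0,0,0,0,0,0,0,0,0,0,0,0,1,1,0,1,1,0,1,0,0,1,1,1,1,0,1,1,0,1,0,1,1,0,1,0],[1,0,0,1,0,0,0,0,1,1,1,0,0,0,0,0,0,0,0,0,0,0,0,0,1,1,1,1,1,1,1,1,0,0,1,1,0,1,0,0,1,0,1,0,1,0,0,1],[0,0,1,0,0,0,0,1,1,1,1,1,0,0,0,0,0,0,0,0,0,0,0,0,1,1,0,0,0,0,0,1,0,1,0,1,1,0,1,0,0,0,1,1,0,1,0,0],[1,0,1,0,0,0,1,1,0,1,0,0,0,0,0,0,0,0,0,0,0,0,0,0,0,0,1,0,0,0,0,1,1,1,1,1,1,1,1,0,0,0,0,0,1,0,1,0],[0,1,0,0,0,0,1,1,1,1,1,0,0,0,0,0,0,0,0,0,0,0,0,0,1,0,0,0,0,0,1,0,1,0,1,1,0,1,1,0,0,0,1,0,0,0,0,1],[1,1,0,1,0,0,1,0,0,0,1,0,0,0,0,0,0,0,0,0,0,0,0,0,0,1,1,1,1,1,1,1,1,1,0,0,0,0,1,0,1,0,0,1,0,0,1,1],[0,0,1,0,1,0,0,1,0,0,1,1,0,0,0,0,0,0,0,0,0,0,0,0,1,1,0,1,0,0,1,0,0,0,1,0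,1,0,1,0,1,1,0,1,1,1,1,0],[1,0,0,0,0,1,0,0,1,1,0,1,0,0,0,0,0,0,0,0,0,0,0,0,1,1,1,1,1,0,1,1,0,0,0,1,0,1,0,1,0,1,1,0,1,1,1,1],[1,0,0,1,1,0,0,0,0,0,0,1,0,0,0,0,0,0,0,0,0,0,0,0,1,1,1,0,1,1,0,0,0,1,1,0,0,1,0,0,0,1,0,0,0,1,0,1],[0,1,0,0,0,1,0,0,0,1,0,1,0,0,0,0,0,0,0,0,0,0,0,0,1,0,0,1,1,0,0,0,0,0,0,1,0,1,1,1,0,1,0,0,0,1,1,1],[0,0,1,1,0,0,0,0,0,0,1,0,0,0,0,0,0,0,0,0,0,0,0,0,1,1,0,1,1,1,0,0,0,1,0,0,1,0,1,0,1,0,0,0,0,0,1,1],[1,1,1,1,1,1,1,1,0,0,1,1,0,1,0,0,1,0,1,0,1,0,0,1,0,1,0,0,1,0,1,0,1,0,0,1,1,0,1,1,0,1,0,1,1,0,1,0],[1,0,0,1,0,0,0,0,1,1,1,0,0,1,1,0,1,1,1,1,1,1,0,1,0,1,1,0,1,1,1,1,1,1,0,1,1,1,1,1,1,1,1,1,0,0,1,1],[1,1,0,1,1,0,1,0,0,1,1,1,1,0,1,1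,0,1,0,1,1,0,1,0,1,0,1,1,0,1,0,1,1,0,1,0,0,1,1,0,1,1,1,1,1,1,0,1],[1,0,0,0,0,0,1,0,1,0,1,1,0,1,1,0,0,0,1,0,0,0,0,1,0,1,1,0,0,0,1,0,0,0,0,1,1,1,1,0,0,0,0,0,1,0,1,0],[0,1,0,0,0,0,1,1,1,1,1,0,1,1,0,0,0,0,0,1,0,1,0,1,1,1,0,0,0,0,0,1,0,1,0,1,1,0,0,0,0,0,1,0,1,0,1,1],[0,0,1,0,0,0,0,1,1,1,1,1,1,1,1,0,0,0,0,0,1,0,1,0,1,1,1,0,0,0,0,0,1,0,1,0,1,1,0,0,0,0,0,1,0,1,0,1],[1,1,1,1,1,0,1,1,0,0,0,1,0,1,0,1,0,1,1,0,1,1,1,1,0,1,0,1,0,1,1,0,1,1,1,1,1,0,1,0,1,1,0,1,1,1,1,0],[1,0,0,0,0,1,0,0,1,1,0,1,0,1,1,1,1,1,1,1,1,1,0,0,0,1,1,1,1,1,1,1,1,1,0,0,1,1,1,1,1,0,1,1,0,0,0,1],[1,1,0,1,0,0,1,0,0,0,1,0,1,0,1,0,1,1,0,1,1,1,1,0,1,0,1,0,1,1,0,1,1,1,1,0,0,1,1,1,1,1,1,1,1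,1,0,0],[1,1,0,1,1,1,0,0,0,1,0,0,1,0,1,0,1,0,0,0,0,0,1,1,1,0,1,0,1,0,0,0,0,0,1,1,0,1,1,1,0,1,0,0,0,1,1,1],[0,0,1,1,0,0,0,0,0,0,1,0,1,1,1,0,1,1,0,0,0,1,1,0,1,1,1,0,1,1,0,0,0,1,1,0,1,1,0,1,1,1,0,0,0,1,0,0],[1,0,0,1,1,0,0,0,0,0,0,1,0,1,1,1,0,1,0,0,0,1,1,1,0,1,1,1,0,1,0,0,0,1,1,1,1,1,1,0,1,1,0,0,0,1,1,0],[0,1,0,0,1,0,1,0,1,0,0,1,1,1,1,1,1,1,1,1,0,0,1,1,0,0,0,0,0,0,0,0,0,0,0,0,1,1,0,1,1,0,1,0,0,1,1,1],[0,1,1,0,1,1,1,1,1,1,0,1,1,0,0,1,0,0,0,0,1,1,1,0,0,0,0,0,0,0,0,0,0,0,0,0,0,0,1,0,0,1,0,1,0,1,0,0],[1,0,1,1,0,1,0,1,1,0,1,0,1,1,0,1,1,0,1,0,0,1,1,1,0,0,0,0,0,0,0,0,0,0,0,0,1,0,0,1,0,0,0,0,1,1,1,0],[0,1,1,0,0,0,1,0,0,0,0,1,1,0,0,0,0,0,1,0,1,0,1,1,0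,0,0,0,0,0,0,0,0,0,0,0,0,0,1,0,0,0,0,1,1,1,1,1],[1,1,0,0,0,0,0,1,0,1,0,1,0,1,0,0,0,0,1,1,1,1,1,0,0,0,0,0,0,0,0,0,0,0,0,0,1,0,1,0,0,0,1,1,0,1,0,0],[1,1,1,0,0,0,0,0,1,0,1,0,0,0,1,0,0,0,0,1,1,1,1,1,0,0,0,0,0,0,0,0,0,0,0,0,0,1,0,0,0,0,1,1,1,1,1,0],[0,1,0,1,0,1,1,0,1,1,1,1,1,1,1,1,1,0,1,1,0,0,0,1,0,0,0,0,0,0,0,0,0,0,0,0,1,1,0,1,0,0,1,0,0,0,1,0],[0,1,1,1,1,1,1,1,1,1,0,0,1,0,0,0,0,1,0,0,1,1,0,1,0,0,0,0,0,0,0,0,0,0,0,0,0,0,1,0,1,0,0,1,0,0,1,1],[1,0,1,0,1,1,0,1,1,1,1,0,1,1,0,1,0,0,1,0,0,0,1,0,0,0,0,0,0,0,0,0,0,0,0,0,1,0,0,0,0,1,0,0,1,1,0,1],[1,0,1,0,1,0,0,0,0,0,1,1,1,1,0,1,1,1,0,0,0,1,0,0,0,0,0,0,0,0,0,0,0,0,0,0,1,0,0,1,1,0,0,0,0,0,0,1],[1,1,1,0,1,1,0,0,0,1,1,0,0,0,1,1,0,0,0,0,0,0,1,0,0,0,0,0,0,0,0,0,0,0,0,0,0,1,0,0,0,1,0,0,0,1,0,1],[0,1,1,1,0,1,0,0,0,1,1,1,1,0,0,1,1,0,0,0,0,0,0,1,0,0,0,0,0,0,0,0,0,0,0,0,0,0,1,1,0,0,0,0,0,0,1,0]],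
  [[1,0,0,0,0,0,0,0,0,0,0,0,0,0,0,0,0,0,0,0,0,0,0,0,0,0,0,0,0,0,0,0,0,0,0,0,0,0,0,0,0,0,0,0,0,0,0,0],[0,1,0,0,0,0,0,0,0,0,0,0,0,0,0,0,0,0,0,0,0,0,0,0,0,0,0,0,0,0,0,0,0,0,0,0,0,0,0,0,0,0,0,0,0,0,0,0],[0,0,1,0,0,0,0,0,0,0,0,0,0,0,0,0,0,0,0,0,0,0,0,0,0,0,0,0,0,0,0,0,0,0,0,0,0,0,0,0,0,0,0,0,0,0,0,0],[0,1,0,1,0,0,0,0,0,0,0,0,0,0,0,0,0,0,0,0,0,0,0,0,0,0,0,0,0,0,0,0,0,0,0,0,0,0,0,0,0,0,0,0,0,0,0,0],[0,1,1,0,1,0,0,0,0,0,0,0,0,0,0,0,0,0,0,0,0,0,0,0,0,0,0,0,0,0,0,0,0,0,0,0,0,0,0,0,0,0,0,0,0,0,0,0],[1,0,1,0,0,1,0,0,0,0,0,0,0,0,0,0,0,0,0,0,0,0,0,0,0,0,0,0,0,0,0,0,0,0,0,0,0,0,0,0,0,0,0,0,0,0,0,0],[1,0,1,0,0,1,1,0,0,0,0,0,0,0,0,0,0,0,0,0,0,0,0,0,0,0,0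,0,0,0,0,0,0,0,0,0,0,0,0,0,0,0,0,0,0,0,0,0],[1,1,1,1,0,1,0,1,0,0,0,0,0,0,0,0,0,0,0,0,0,0,0,0,0,0,0,0,0,0,0,0,0,0,0,0,0,0,0,0,0,0,0,0,0,0,0,0],[0,1,1,0,1,0,0,0,1,0,0,0,0,0,0,0,0,0,0,0,0,0,0,0,0,0,0,0,0,0,0,0,0,0,0,0,0,0,0,0,0,0,0,0,0,0,0,0],[1,1,1,0,0,0,0,1,0,1,0,0,0,0,0,0,0,0,0,0,0,0,0,0,0,0,0,0,0,0,0,0,0,0,0,0,0,0,0,0,0,0,0,0,0,0,0,0],[1,0,0,0,0,0,0,1,1,0,1,0,0,0,0,0,0,0,0,0,0,0,0,0,0,0,0,0,0,0,0,0,0,0,0,0,0,0,0,0,0,0,0,0,0,0,0,0],[1,1,0,0,0,0,1,0,1,0,0,1,0,0,0,0,0,0,0,0,0,0,0,0,0,0,0,0,0,0,0,0,0,0,0,0,0,0,0,0,0,0,0,0,0,0,0,0],[0,0,1,0,0,0,0,0,0,0,0,0,1,0,0,0,0,0,0,0,0,0,0,0,0,0,0,0,0,0,0,0,0,0,0,0,0,0,0,0,0,0,0,0,0,0,0,0],[1,0,1,0,0,0,0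,0,0,0,0,0,0,1,0,0,0,0,0,0,0,0,0,0,0,0,0,0,0,0,0,0,0,0,0,0,0,0,0,0,0,0,0,0,0,0,0,0],[0,1,0,0,0,0,0,0,0,0,0,0,0,0,1,0,0,0,0,0,0,0,0,0,0,0,0,0,0,0,0,0,0,0,0,0,0,0,0,0,0,0,0,0,0,0,0,0],[1,0,1,0,0,1,0,0,0,0,0,0,0,1,0,1,0,0,0,0,0,0,0,0,0,0,0,0,0,0,0,0,0,0,0,0,0,0,0,0,0,0,0,0,0,0,0,0],[1,1,1,1,0,1,0,0,0,0,0,0,0,1,1,0,1,0,0,0,0,0,0,0,0,0,0,0,0,0,0,0,0,0,0,0,0,0,0,0,0,0,0,0,0,0,0,0],[0,1,1,0,1,0,0,0,0,0,0,0,1,0,1,0,0,1,0,0,0,0,0,0,0,0,0,0,0,0,0,0,0,0,0,0,0,0,0,0,0,0,0,0,0,0,0,0],[0,1,1,0,1,0,0,0,1,0,0,0,1,0,1,0,0,1,1,0,0,0,0,0,0,0,0,0,0,0,0,0,0,0,0,0,0,0,0,0,0,0,0,0,0,0,0,0],[1,1,0,0,1,1,1,0,1,0,0,0,1,1,1,1,0,1,0,1,0,0,0,0,0,0,0,0,0,0,0,0,0,0,0,0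,0,0,0,0,0,0,0,0,0,0,0,0],[1,1,1,1,0,1,0,1,0,0,0,0,0,1,1,0,1,0,0,0,1,0,0,0,0,0,0,0,0,0,0,0,0,0,0,0,0,0,0,0,0,0,0,0,0,0,0,0],[1,1,0,0,0,0,1,0,1,0,0,1,1,1,1,0,0,0,0,1,0,1,0,0,0,0,0,0,0,0,0,0,0,0,0,0,0,0,0,0,0,0,0,0,0,0,0,0],[0,0,1,0,0,0,1,1,1,1,0,1,1,0,0,0,0,0,0,1,1,0,1,0,0,0,0,0,0,0,0,0,0,0,0,0,0,0,0,0,0,0,0,0,0,0,0,0],[1,0,0,0,0,0,0,1,1,0,1,0,1,1,0,0,0,0,1,0,1,0,0,1,0,0,0,0,0,0,0,0,0,0,0,0,0,0,0,0,0,0,0,0,0,0,0,0],[1,1,1,0,0,0,0,0,0,0,0,0,0,1,1,0,0,0,0,0,0,0,0,0,1,0,0,0,0,0,0,0,0,0,0,0,0,0,0,0,0,0,0,0,0,0,0,0],[1,0,0,0,0,0,0,0,0,0,0,0,1,1,0,0,0,0,0,0,0,0,0,0,0,1,0,0,0,0,0,0,0,0,0,0,0,0,0,0,0,0,0,0,0,0,0,0],[1,1,0,0,0,0,0,0,0,0,0,0,1,1,1,0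,0,0,0,0,0,0,0,0,0,0,1,0,0,0,0,0,0,0,0,0,0,0,0,0,0,0,0,0,0,0,0,0],[1,0,0,1,1,1,0,0,0,0,0,0,1,1,0,0,1,1,0,0,0,0,0,0,0,1,0,1,0,0,0,0,0,0,0,0,0,0,0,0,0,0,0,0,0,0,0,0],[0,1,0,1,0,0,0,0,0,0,0,0,0,0,1,1,1,0,0,0,0,0,0,0,0,1,1,0,1,0,0,0,0,0,0,0,0,0,0,0,0,0,0,0,0,0,0,0],[0,0,1,1,1,0,0,0,0,0,0,0,1,0,0,1,1,1,0,0,0,0,0,0,1,0,1,0,0,1,0,0,0,0,0,0,0,0,0,0,0,0,0,0,0,0,0,0],[0,0,1,1,1,0,1,1,1,0,0,0,1,0,0,1,1,1,0,1,1,0,0,0,1,0,1,0,0,1,1,0,0,0,0,0,0,0,0,0,0,0,0,0,0,0,0,0],[1,0,1,0,0,1,1,0,0,0,0,0,0,1,0,1,0,0,1,1,0,0,0,0,1,1,1,1,0,1,0,1,0,0,0,0,0,0,0,0,0,0,0,0,0,0,0,0],[0,1,0,1,0,0,1,1,0,0,0,0,0,0,1,1,1,0,1,1,1,0,0,0,0,1,1,0,1,0,0,0,1,0,0,0,0,0,0,0,0,0,0,0,0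,0,0,0],[1,0,1,0,0,0,1,0,0,1,1,1,0,1,0,0,0,0,1,1,0,0,1,1,1,1,1,0,0,0,0,1,0,1,0,0,0,0,0,0,0,0,0,0,0,0,0,0],[1,1,1,0,0,0,0,1,0,1,0,0,0,1,1,0,0,0,0,0,1,1,1,0,1,0,0,0,0,0,0,1,1,0,1,0,0,0,0,0,0,0,0,0,0,0,0,0],[0,1,1,0,0,0,0,0,1,1,1,0,1,0,1,0,0,0,1,0,0,1,1,1,1,1,0,0,0,0,1,0,1,0,0,1,0,0,0,0,0,0,0,0,0,0,0,0],[1,1,0,0,0,0,0,0,0,0,0,0,0,0,0,0,0,0,0,0,0,0,0,0,0,0,1,0,0,0,0,0,0,0,0,0,1,0,0,0,0,0,0,0,0,0,0,0],[0,0,1,0,0,0,0,0,0,0,0,0,0,0,0,0,0,0,0,0,0,0,0,0,1,0,1,0,0,0,0,0,0,0,0,0,0,1,0,0,0,0,0,0,0,0,0,0],[1,0,0,0,0,0,0,0,0,0,0,0,0,0,0,0,0,0,0,0,0,0,0,0,0,1,0,0,0,0,0,0,0,0,0,0,0,0,1,0,0,0,0,0,0,0,0,0],[0,0,1,1,1,0,0,0,0,0,0,0,0,0,0,0,0,0,0,0,0,0,0,0,1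,0,1,0,0,1,0,0,0,0,0,0,0,1,0,1,0,0,0,0,0,0,0,0],[1,0,1,0,0,1,0,0,0,0,0,0,0,0,0,0,0,0,0,0,0,0,0,0,1,1,1,1,0,1,0,0,0,0,0,0,0,1,1,0,1,0,0,0,0,0,0,0],[0,1,0,1,0,0,0,0,0,0,0,0,0,0,0,0,0,0,0,0,0,0,0,0,0,1,1,0,1,0,0,0,0,0,0,0,1,0,1,0,0,1,0,0,0,0,0,0],[0,1,0,1,0,0,1,1,0,0,0,0,0,0,0,0,0,0,0,0,0,0,0,0,0,1,1,0,1,0,0,0,1,0,0,0,1,0,1,0,0,1,1,0,0,0,0,0],[0,1,1,0,1,0,0,0,1,0,0,0,0,0,0,0,0,0,0,0,0,0,0,0,1,1,0,0,1,1,1,0,1,0,0,0,1,1,1,1,0,1,0,1,0,0,0,0],[1,0,1,0,0,1,1,0,0,0,0,0,0,0,0,0,0,0,0,0,0,0,0,0,1,1,1,1,0,1,0,1,0,0,0,0,0,1,1,0,1,0,0,0,1,0,0,0],[0,1,1,0,0,0,0,0,1,1,1,0,0,0,0,0,0,0,0,0,0,0,0,0,1,1,0,0,0,0,1,0,1,0,0,1,1,1,1,0,0,0,0,1,0,1,0,0],[1,1,0,0,0,0,1,0,1,0,0,1,0,0,0,0,0,0,0,0,0,0,0,0,0,0,1,0,0,0,1,1,1,1,0,1,1,0,0,0,0,0,0,1,1,0,1,0],[1,1,1,0,0,0,0,1,0,1,0,0,0,0,0,0,0,0,0,0,0,0,0,0,1,0,0,0,0,0,0,1,1,0,1,0,1,1,0,0,0,0,1,0,1,0,0,1]],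
  [[1,0,0,0,0,0,0,0,0,0,0,0,0,0,0,0,0,0,0,0,0,0,0,0,0,0,0,0,0,0,0,0,0,0,0,0,0,0,0,0,0,0,0,0,0,0,0,0],[0,1,0,0,0,0,0,0,0,0,0,0,0,0,0,0,0,0,0,0,0,0,0,0,0,0,0,0,0,0,0,0,0,0,0,0,0,0,0,0,0,0,0,0,0,0,0,0],[0,0,1,0,0,0,0,0,0,0,0,0,0,0,0,0,0,0,0,0,0,0,0,0,0,0,0,0,0,0,0,0,0,0,0,0,0,0,0,0,0,0,0,0,0,0,0,0],[0,1,0,1,0,0,0,0,0,0,0,0,0,0,0,0,0,0,0,0,0,0,0,0,0,0,0,0,0,0,0,0,0,0,0,0,0,0,0,0,0,0,0,0,0,0,0,0],[0,1,1,0,1,0,0,0,0,0,0,0,0,0,0,0,0,0,0,0,0,0,0,0,0,0,0,0,0,0,0,0,0,0,0,0,0,0,0,0,0,0,0,0,0,0,0,0],[1,0,1,0,0,1,0,0,0,0,0,0,0,0,0,0,0,0,0,0,0,0,0,0,0,0,0,0,0,0,0,0,0,0,0,0,0,0,0,0,0,0,0,0,0,0,0,0],[0,0,0,0,0,1,1,0,0,0,0,0,0,0,0,0,0,0,0,0,0,0,0,0,0,0,0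,0,0,0,0,0,0,0,0,0,0,0,0,0,0,0,0,0,0,0,0,0],[0,0,0,1,0,1,0,1,0,0,0,0,0,0,0,0,0,0,0,0,0,0,0,0,0,0,0,0,0,0,0,0,0,0,0,0,0,0,0,0,0,0,0,0,0,0,0,0],[0,0,0,0,1,0,0,0,1,0,0,0,0,0,0,0,0,0,0,0,0,0,0,0,0,0,0,0,0,0,0,0,0,0,0,0,0,0,0,0,0,0,0,0,0,0,0,0],[1,1,1,1,0,1,0,1,0,1,0,0,0,0,0,0,0,0,0,0,0,0,0,0,0,0,0,0,0,0,0,0,0,0,0,0,0,0,0,0,0,0,0,0,0,0,0,0],[1,0,0,1,1,1,0,1,1,0,1,0,0,0,0,0,0,0,0,0,0,0,0,0,0,0,0,0,0,0,0,0,0,0,0,0,0,0,0,0,0,0,0,0,0,0,0,0],[1,1,0,0,1,1,1,0,1,0,0,1,0,0,0,0,0,0,0,0,0,0,0,0,0,0,0,0,0,0,0,0,0,0,0,0,0,0,0,0,0,0,0,0,0,0,0,0],[0,0,1,0,0,0,0,0,0,0,0,0,1,0,0,0,0,0,0,0,0,0,0,0,0,0,0,0,0,0,0,0,0,0,0,0,0,0,0,0,0,0,0,0,0,0,0,0],[1,0,1,0,0,0,0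,0,0,0,0,0,0,1,0,0,0,0,0,0,0,0,0,0,0,0,0,0,0,0,0,0,0,0,0,0,0,0,0,0,0,0,0,0,0,0,0,0],[0,1,0,0,0,0,0,0,0,0,0,0,0,0,1,0,0,0,0,0,0,0,0,0,0,0,0,0,0,0,0,0,0,0,0,0,0,0,0,0,0,0,0,0,0,0,0,0],[1,0,1,0,0,1,0,0,0,0,0,0,0,1,0,1,0,0,0,0,0,0,0,0,0,0,0,0,0,0,0,0,0,0,0,0,0,0,0,0,0,0,0,0,0,0,0,0],[1,1,1,1,0,1,0,0,0,0,0,0,0,1,1,0,1,0,0,0,0,0,0,0,0,0,0,0,0,0,0,0,0,0,0,0,0,0,0,0,0,0,0,0,0,0,0,0],[0,1,1,0,1,0,0,0,0,0,0,0,1,0,1,0,0,1,0,0,0,0,0,0,0,0,0,0,0,0,0,0,0,0,0,0,0,0,0,0,0,0,0,0,0,0,0,0],[0,0,0,0,1,0,0,0,1,0,0,0,0,0,0,0,0,1,1,0,0,0,0,0,0,0,0,0,0,0,0,0,0,0,0,0,0,0,0,0,0,0,0,0,0,0,0,0],[0,0,0,0,1,1,1,0,1,0,0,0,0,0,0,1,0,1,0,1,0,0,0,0,0,0,0,0,0,0,0,0,0,0,0,0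,0,0,0,0,0,0,0,0,0,0,0,0],[0,0,0,1,0,1,0,1,0,0,0,0,0,0,0,0,1,0,0,0,1,0,0,0,0,0,0,0,0,0,0,0,0,0,0,0,0,0,0,0,0,0,0,0,0,0,0,0],[1,1,0,0,1,1,1,0,1,0,0,1,1,1,1,1,0,1,0,1,0,1,0,0,0,0,0,0,0,0,0,0,0,0,0,0,0,0,0,0,0,0,0,0,0,0,0,0],[0,0,1,1,1,0,1,1,1,1,0,1,1,0,0,1,1,1,0,1,1,0,1,0,0,0,0,0,0,0,0,0,0,0,0,0,0,0,0,0,0,0,0,0,0,0,0,0],[1,0,0,1,1,1,0,1,1,0,1,0,1,1,0,0,1,1,1,0,1,0,0,1,0,0,0,0,0,0,0,0,0,0,0,0,0,0,0,0,0,0,0,0,0,0,0,0],[0,0,0,0,0,0,0,0,0,0,0,0,0,1,1,0,0,0,0,0,0,0,0,0,1,0,0,0,0,0,0,0,0,0,0,0,0,0,0,0,0,0,0,0,0,0,0,0],[0,0,0,0,0,0,0,0,0,0,0,0,1,1,0,0,0,0,0,0,0,0,0,0,0,1,0,0,0,0,0,0,0,0,0,0,0,0,0,0,0,0,0,0,0,0,0,0],[0,0,0,0,0,0,0,0,0,0,0,0,1,1,1,0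,0,0,0,0,0,0,0,0,0,0,1,0,0,0,0,0,0,0,0,0,0,0,0,0,0,0,0,0,0,0,0,0],[0,0,0,0,0,0,0,0,0,0,0,0,1,1,0,0,1,1,0,0,0,0,0,0,0,1,0,1,0,0,0,0,0,0,0,0,0,0,0,0,0,0,0,0,0,0,0,0],[0,0,0,0,0,0,0,0,0,0,0,0,0,0,1,1,1,0,0,0,0,0,0,0,0,1,1,0,1,0,0,0,0,0,0,0,0,0,0,0,0,0,0,0,0,0,0,0],[0,0,0,0,0,0,0,0,0,0,0,0,1,0,0,1,1,1,0,0,0,0,0,0,1,0,1,0,0,1,0,0,0,0,0,0,0,0,0,0,0,0,0,0,0,0,0,0],[0,0,0,0,0,0,0,0,0,0,0,0,0,0,0,1,1,1,0,1,1,0,0,0,0,0,0,0,0,1,1,0,0,0,0,0,0,0,0,0,0,0,0,0,0,0,0,0],[0,0,0,0,0,0,0,0,0,0,0,0,0,0,0,1,0,0,1,1,0,0,0,0,0,0,0,1,0,1,0,1,0,0,0,0,0,0,0,0,0,0,0,0,0,0,0,0],[0,0,0,0,0,0,0,0,0,0,0,0,0,0,0,1,1,0,1,1,1,0,0,0,0,0,0,0,1,0,0,0,1,0,0,0,0,0,0,0,0,0,0,0,0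,0,0,0],[0,0,0,0,0,0,0,0,0,0,0,0,0,1,0,1,0,0,1,1,0,0,1,1,1,1,1,1,0,1,0,1,0,1,0,0,0,0,0,0,0,0,0,0,0,0,0,0],[0,0,0,0,0,0,0,0,0,0,0,0,0,1,1,0,1,0,0,0,1,1,1,0,1,0,0,1,1,1,0,1,1,0,1,0,0,0,0,0,0,0,0,0,0,0,0,0],[0,0,0,0,0,0,0,0,0,0,0,0,1,0,1,0,0,1,1,0,0,1,1,1,1,1,0,0,1,1,1,0,1,0,0,1,0,0,0,0,0,0,0,0,0,0,0,0],[1,1,0,0,0,0,0,0,0,0,0,0,1,1,1,0,0,0,0,0,0,0,0,0,0,0,1,0,0,0,0,0,0,0,0,0,1,0,0,0,0,0,0,0,0,0,0,0],[0,0,1,0,0,0,0,0,0,0,0,0,1,0,0,0,0,0,0,0,0,0,0,0,1,0,1,0,0,0,0,0,0,0,0,0,0,1,0,0,0,0,0,0,0,0,0,0],[1,0,0,0,0,0,0,0,0,0,0,0,1,1,0,0,0,0,0,0,0,0,0,0,0,1,0,0,0,0,0,0,0,0,0,0,0,0,1,0,0,0,0,0,0,0,0,0],[0,0,1,1,1,0,0,0,0,0,0,0,1,0,0,1,1,1,0,0,0,0,0,0,1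,0,1,0,0,1,0,0,0,0,0,0,0,1,0,1,0,0,0,0,0,0,0,0],[1,0,1,0,0,1,0,0,0,0,0,0,0,1,0,1,0,0,0,0,0,0,0,0,1,1,1,1,0,1,0,0,0,0,0,0,0,1,1,0,1,0,0,0,0,0,0,0],[0,1,0,1,0,0,0,0,0,0,0,0,0,0,1,1,1,0,0,0,0,0,0,0,0,1,1,0,1,0,0,0,0,0,0,0,1,0,1,0,0,1,0,0,0,0,0,0],[0,0,0,1,0,0,1,1,0,0,0,0,0,0,0,1,1,0,1,1,1,0,0,0,0,0,0,0,1,0,0,0,1,0,0,0,0,0,0,0,0,1,1,0,0,0,0,0],[0,0,0,0,1,0,0,0,1,0,0,0,0,0,0,0,0,1,1,0,0,0,0,0,0,0,0,0,1,1,1,0,1,0,0,0,0,0,0,1,0,1,0,1,0,0,0,0],[0,0,0,0,0,1,1,0,0,0,0,0,0,0,0,1,0,0,1,1,0,0,0,0,0,0,0,1,0,1,0,1,0,0,0,0,0,0,0,0,1,0,0,0,1,0,0,0],[0,1,1,0,1,0,0,0,1,1,1,0,1,0,1,0,0,1,1,0,0,1,1,1,1,1,0,0,1,1,1,0,1,0,0,1,1,1,1,1,0,1,0,1,0,1,0,0],[1,1,0,0,1,1,1,0,1,0,0,1,1,1,1,1,0,1,0,1,0,1,0,0,0,0,1,1,1,0,1,1,1,1,0,1,1,0,0,1,1,1,0,1,1,0,1,0],[1,1,1,1,0,1,0,1,0,1,0,0,0,1,1,0,1,0,0,0,1,1,1,0,1,0,0,1,1,1,0,1,1,0,1,0,1,1,0,0,1,1,1,0,1,0,0,1]],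
  [[1,0,0,0,0,0,0,0,0,0,0,0,0,0,0,0,0,0,0,0,0,0,0,0,0,0,0,0,0,0,0,0,0,0,0,0,0,0,0,0,0,0,0,0,0,0,0,0],[0,0,1,0,0,0,0,0,0,0,0,0,0,0,0,0,0,0,0,0,0,0,0,0,0,0,0,0,0,0,0,0,0,0,0,0,0,0,0,0,0,0,0,0,0,0,0,0],[0,1,1,0,0,0,0,0,0,0,0,0,0,0,0,0,0,0,0,0,0,0,0,0,0,0,0,0,0,0,0,0,0,0,0,0,0,0,0,0,0,0,0,0,0,0,0,0],[0,0,0,1,0,0,0,0,0,0,0,0,0,0,0,0,0,0,0,0,0,0,0,0,0,0,0,0,0,0,0,0,0,0,0,0,0,0,0,0,0,0,0,0,0,0,0,0],[0,0,0,0,0,1,0,0,0,0,0,0,0,0,0,0,0,0,0,0,0,0,0,0,0,0,0,0,0,0,0,0,0,0,0,0,0,0,0,0,0,0,0,0,0,0,0,0],[0,0,0,0,1,1,0,0,0,0,0,0,0,0,0,0,0,0,0,0,0,0,0,0,0,0,0,0,0,0,0,0,0,0,0,0,0,0,0,0,0,0,0,0,0,0,0,0],[0,0,0,0,0,0,1,0,0,0,0,0,0,0,0,0,0,0,0,0,0,0,0,0,0,0,0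,0,0,0,0,0,0,0,0,0,0,0,0,0,0,0,0,0,0,0,0,0],[0,0,0,0,0,0,0,0,1,0,0,0,0,0,0,0,0,0,0,0,0,0,0,0,0,0,0,0,0,0,0,0,0,0,0,0,0,0,0,0,0,0,0,0,0,0,0,0],[0,0,0,0,0,0,0,1,1,0,0,0,0,0,0,0,0,0,0,0,0,0,0,0,0,0,0,0,0,0,0,0,0,0,0,0,0,0,0,0,0,0,0,0,0,0,0,0],[0,0,0,0,0,0,0,0,0,1,0,0,0,0,0,0,0,0,0,0,0,0,0,0,0,0,0,0,0,0,0,0,0,0,0,0,0,0,0,0,0,0,0,0,0,0,0,0],[0,0,0,0,0,0,0,0,0,0,0,1,0,0,0,0,0,0,0,0,0,0,0,0,0,0,0,0,0,0,0,0,0,0,0,0,0,0,0,0,0,0,0,0,0,0,0,0],[0,0,0,0,0,0,0,0,0,0,1,1,0,0,0,0,0,0,0,0,0,0,0,0,0,0,0,0,0,0,0,0,0,0,0,0,0,0,0,0,0,0,0,0,0,0,0,0],[0,0,0,0,0,0,0,0,0,0,0,0,1,0,0,0,0,0,0,0,0,0,0,0,0,0,0,0,0,0,0,0,0,0,0,0,0,0,0,0,0,0,0,0,0,0,0,0],[0,0,0,0,0,0,0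,0,0,0,0,0,0,0,1,0,0,0,0,0,0,0,0,0,0,0,0,0,0,0,0,0,0,0,0,0,0,0,0,0,0,0,0,0,0,0,0,0],[0,0,0,0,0,0,0,0,0,0,0,0,0,1,1,0,0,0,0,0,0,0,0,0,0,0,0,0,0,0,0,0,0,0,0,0,0,0,0,0,0,0,0,0,0,0,0,0],[0,0,0,0,0,0,0,0,0,0,0,0,0,0,0,1,0,0,0,0,0,0,0,0,0,0,0,0,0,0,0,0,0,0,0,0,0,0,0,0,0,0,0,0,0,0,0,0],[0,0,0,0,0,0,0,0,0,0,0,0,0,0,0,0,0,1,0,0,0,0,0,0,0,0,0,0,0,0,0,0,0,0,0,0,0,0,0,0,0,0,0,0,0,0,0,0],[0,0,0,0,0,0,0,0,0,0,0,0,0,0,0,0,1,1,0,0,0,0,0,0,0,0,0,0,0,0,0,0,0,0,0,0,0,0,0,0,0,0,0,0,0,0,0,0],[0,0,0,0,0,0,0,0,0,0,0,0,0,0,0,0,0,0,1,0,0,0,0,0,0,0,0,0,0,0,0,0,0,0,0,0,0,0,0,0,0,0,0,0,0,0,0,0],[0,0,0,0,0,0,0,0,0,0,0,0,0,0,0,0,0,0,0,0,1,0,0,0,0,0,0,0,0,0,0,0,0,0,0,0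,0,0,0,0,0,0,0,0,0,0,0,0],[0,0,0,0,0,0,0,0,0,0,0,0,0,0,0,0,0,0,0,1,1,0,0,0,0,0,0,0,0,0,0,0,0,0,0,0,0,0,0,0,0,0,0,0,0,0,0,0],[0,0,0,0,0,0,0,0,0,0,0,0,0,0,0,0,0,0,0,0,0,1,0,0,0,0,0,0,0,0,0,0,0,0,0,0,0,0,0,0,0,0,0,0,0,0,0,0],[0,0,0,0,0,0,0,0,0,0,0,0,0,0,0,0,0,0,0,0,0,0,0,1,0,0,0,0,0,0,0,0,0,0,0,0,0,0,0,0,0,0,0,0,0,0,0,0],[0,0,0,0,0,0,0,0,0,0,0,0,0,0,0,0,0,0,0,0,0,0,1,1,0,0,0,0,0,0,0,0,0,0,0,0,0,0,0,0,0,0,0,0,0,0,0,0],[0,0,0,0,0,0,0,0,0,0,0,0,0,0,0,0,0,0,0,0,0,0,0,0,1,0,0,0,0,0,0,0,0,0,0,0,0,0,0,0,0,0,0,0,0,0,0,0],[0,0,0,0,0,0,0,0,0,0,0,0,0,0,0,0,0,0,0,0,0,0,0,0,0,0,1,0,0,0,0,0,0,0,0,0,0,0,0,0,0,0,0,0,0,0,0,0],[0,0,0,0,0,0,0,0,0,0,0,0,0,0,0,0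,0,0,0,0,0,0,0,0,0,1,1,0,0,0,0,0,0,0,0,0,0,0,0,0,0,0,0,0,0,0,0,0],[0,0,0,0,0,0,0,0,0,0,0,0,0,0,0,0,0,0,0,0,0,0,0,0,0,0,0,1,0,0,0,0,0,0,0,0,0,0,0,0,0,0,0,0,0,0,0,0],[0,0,0,0,0,0,0,0,0,0,0,0,0,0,0,0,0,0,0,0,0,0,0,0,0,0,0,0,0,1,0,0,0,0,0,0,0,0,0,0,0,0,0,0,0,0,0,0],[0,0,0,0,0,0,0,0,0,0,0,0,0,0,0,0,0,0,0,0,0,0,0,0,0,0,0,0,1,1,0,0,0,0,0,0,0,0,0,0,0,0,0,0,0,0,0,0],[0,0,0,0,0,0,0,0,0,0,0,0,0,0,0,0,0,0,0,0,0,0,0,0,0,0,0,0,0,0,1,0,0,0,0,0,0,0,0,0,0,0,0,0,0,0,0,0],[0,0,0,0,0,0,0,0,0,0,0,0,0,0,0,0,0,0,0,0,0,0,0,0,0,0,0,0,0,0,0,0,1,0,0,0,0,0,0,0,0,0,0,0,0,0,0,0],[0,0,0,0,0,0,0,0,0,0,0,0,0,0,0,0,0,0,0,0,0,0,0,0,0,0,0,0,0,0,0,1,1,0,0,0,0,0,0,0,0,0,0,0,0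,0,0,0],[0,0,0,0,0,0,0,0,0,0,0,0,0,0,0,0,0,0,0,0,0,0,0,0,0,0,0,0,0,0,0,0,0,1,0,0,0,0,0,0,0,0,0,0,0,0,0,0],[0,0,0,0,0,0,0,0,0,0,0,0,0,0,0,0,0,0,0,0,0,0,0,0,0,0,0,0,0,0,0,0,0,0,0,1,0,0,0,0,0,0,0,0,0,0,0,0],[0,0,0,0,0,0,0,0,0,0,0,0,0,0,0,0,0,0,0,0,0,0,0,0,0,0,0,0,0,0,0,0,0,0,1,1,0,0,0,0,0,0,0,0,0,0,0,0],[0,0,0,0,0,0,0,0,0,0,0,0,0,0,0,0,0,0,0,0,0,0,0,0,0,0,0,0,0,0,0,0,0,0,0,0,1,0,0,0,0,0,0,0,0,0,0,0],[0,0,0,0,0,0,0,0,0,0,0,0,0,0,0,0,0,0,0,0,0,0,0,0,0,0,0,0,0,0,0,0,0,0,0,0,0,0,1,0,0,0,0,0,0,0,0,0],[0,0,0,0,0,0,0,0,0,0,0,0,0,0,0,0,0,0,0,0,0,0,0,0,0,0,0,0,0,0,0,0,0,0,0,0,0,1,1,0,0,0,0,0,0,0,0,0],[0,0,0,0,0,0,0,0,0,0,0,0,0,0,0,0,0,0,0,0,0,0,0,0,0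,0,0,0,0,0,0,0,0,0,0,0,0,0,0,1,0,0,0,0,0,0,0,0],[0,0,0,0,0,0,0,0,0,0,0,0,0,0,0,0,0,0,0,0,0,0,0,0,0,0,0,0,0,0,0,0,0,0,0,0,0,0,0,0,0,1,0,0,0,0,0,0],[0,0,0,0,0,0,0,0,0,0,0,0,0,0,0,0,0,0,0,0,0,0,0,0,0,0,0,0,0,0,0,0,0,0,0,0,0,0,0,0,1,1,0,0,0,0,0,0],[0,0,0,0,0,0,0,0,0,0,0,0,0,0,0,0,0,0,0,0,0,0,0,0,0,0,0,0,0,0,0,0,0,0,0,0,0,0,0,0,0,0,1,0,0,0,0,0],[0,0,0,0,0,0,0,0,0,0,0,0,0,0,0,0,0,0,0,0,0,0,0,0,0,0,0,0,0,0,0,0,0,0,0,0,0,0,0,0,0,0,0,0,1,0,0,0],[0,0,0,0,0,0,0,0,0,0,0,0,0,0,0,0,0,0,0,0,0,0,0,0,0,0,0,0,0,0,0,0,0,0,0,0,0,0,0,0,0,0,0,1,1,0,0,0],[0,0,0,0,0,0,0,0,0,0,0,0,0,0,0,0,0,0,0,0,0,0,0,0,0,0,0,0,0,0,0,0,0,0,0,0,0,0,0,0,0,0,0,0,0,1,0,0],[0,0,0,0,0,0,0,0,0,0,0,0,0,0,0,0,0,0,0,0,0,0,0,0,0,0,0,0,0,0,0,0,0,0,0,0,0,0,0,0,0,0,0,0,0,0,0,1],[0,0,0,0,0,0,0,0,0,0,0,0,0,0,0,0,0,0,0,0,0,0,0,0,0,0,0,0,0,0,0,0,0,0,0,0,0,0,0,0,0,0,0,0,0,0,1,1]],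
  [[1,0,0,0,0,0,0,0,0,0,0,0,0,0,0,0,0,0,0,0,0,0,0,0,0,0,0,0,0,0,0,0,0,0,0,0,0,0,0,0,0,0,0,0,0,0,0,0],[0,1,1,0,0,0,0,0,0,0,0,0,0,0,0,0,0,0,0,0,0,0,0,0,0,0,0,0,0,0,0,0,0,0,0,0,0,0,0,0,0,0,0,0,0,0,0,0],[0,1,0,0,0,0,0,0,0,0,0,0,0,0,0,0,0,0,0,0,0,0,0,0,0,0,0,0,0,0,0,0,0,0,0,0,0,0,0,0,0,0,0,0,0,0,0,0],[0,0,0,1,0,0,0,0,0,0,0,0,0,0,0,0,0,0,0,0,0,0,0,0,0,0,0,0,0,0,0,0,0,0,0,0,0,0,0,0,0,0,0,0,0,0,0,0],[0,0,0,0,1,1,0,0,0,0,0,0,0,0,0,0,0,0,0,0,0,0,0,0,0,0,0,0,0,0,0,0,0,0,0,0,0,0,0,0,0,0,0,0,0,0,0,0],[0,0,0,0,1,0,0,0,0,0,0,0,0,0,0,0,0,0,0,0,0,0,0,0,0,0,0,0,0,0,0,0,0,0,0,0,0,0,0,0,0,0,0,0,0,0,0,0],[0,0,0,0,0,0,1,0,0,0,0,0,0,0,0,0,0,0,0,0,0,0,0,0,0,0,0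,0,0,0,0,0,0,0,0,0,0,0,0,0,0,0,0,0,0,0,0,0],[0,0,0,0,0,0,0,1,1,0,0,0,0,0,0,0,0,0,0,0,0,0,0,0,0,0,0,0,0,0,0,0,0,0,0,0,0,0,0,0,0,0,0,0,0,0,0,0],[0,0,0,0,0,0,0,1,0,0,0,0,0,0,0,0,0,0,0,0,0,0,0,0,0,0,0,0,0,0,0,0,0,0,0,0,0,0,0,0,0,0,0,0,0,0,0,0],[0,0,0,0,0,0,0,0,0,1,0,0,0,0,0,0,0,0,0,0,0,0,0,0,0,0,0,0,0,0,0,0,0,0,0,0,0,0,0,0,0,0,0,0,0,0,0,0],[0,0,0,0,0,0,0,0,0,0,1,1,0,0,0,0,0,0,0,0,0,0,0,0,0,0,0,0,0,0,0,0,0,0,0,0,0,0,0,0,0,0,0,0,0,0,0,0],[0,0,0,0,0,0,0,0,0,0,1,0,0,0,0,0,0,0,0,0,0,0,0,0,0,0,0,0,0,0,0,0,0,0,0,0,0,0,0,0,0,0,0,0,0,0,0,0],[0,0,0,0,0,0,0,0,0,0,0,0,1,0,0,0,0,0,0,0,0,0,0,0,0,0,0,0,0,0,0,0,0,0,0,0,0,0,0,0,0,0,0,0,0,0,0,0],[0,0,0,0,0,0,0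,0,0,0,0,0,0,1,1,0,0,0,0,0,0,0,0,0,0,0,0,0,0,0,0,0,0,0,0,0,0,0,0,0,0,0,0,0,0,0,0,0],[0,0,0,0,0,0,0,0,0,0,0,0,0,1,0,0,0,0,0,0,0,0,0,0,0,0,0,0,0,0,0,0,0,0,0,0,0,0,0,0,0,0,0,0,0,0,0,0],[0,0,0,0,0,0,0,0,0,0,0,0,0,0,0,1,0,0,0,0,0,0,0,0,0,0,0,0,0,0,0,0,0,0,0,0,0,0,0,0,0,0,0,0,0,0,0,0],[0,0,0,0,0,0,0,0,0,0,0,0,0,0,0,0,1,1,0,0,0,0,0,0,0,0,0,0,0,0,0,0,0,0,0,0,0,0,0,0,0,0,0,0,0,0,0,0],[0,0,0,0,0,0,0,0,0,0,0,0,0,0,0,0,1,0,0,0,0,0,0,0,0,0,0,0,0,0,0,0,0,0,0,0,0,0,0,0,0,0,0,0,0,0,0,0],[0,0,0,0,0,0,0,0,0,0,0,0,0,0,0,0,0,0,1,0,0,0,0,0,0,0,0,0,0,0,0,0,0,0,0,0,0,0,0,0,0,0,0,0,0,0,0,0],[0,0,0,0,0,0,0,0,0,0,0,0,0,0,0,0,0,0,0,1,1,0,0,0,0,0,0,0,0,0,0,0,0,0,0,0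,0,0,0,0,0,0,0,0,0,0,0,0],[0,0,0,0,0,0,0,0,0,0,0,0,0,0,0,0,0,0,0,1,0,0,0,0,0,0,0,0,0,0,0,0,0,0,0,0,0,0,0,0,0,0,0,0,0,0,0,0],[0,0,0,0,0,0,0,0,0,0,0,0,0,0,0,0,0,0,0,0,0,1,0,0,0,0,0,0,0,0,0,0,0,0,0,0,0,0,0,0,0,0,0,0,0,0,0,0],[0,0,0,0,0,0,0,0,0,0,0,0,0,0,0,0,0,0,0,0,0,0,1,1,0,0,0,0,0,0,0,0,0,0,0,0,0,0,0,0,0,0,0,0,0,0,0,0],[0,0,0,0,0,0,0,0,0,0,0,0,0,0,0,0,0,0,0,0,0,0,1,0,0,0,0,0,0,0,0,0,0,0,0,0,0,0,0,0,0,0,0,0,0,0,0,0],[0,0,0,0,0,0,0,0,0,0,0,0,0,0,0,0,0,0,0,0,0,0,0,0,1,0,0,0,0,0,0,0,0,0,0,0,0,0,0,0,0,0,0,0,0,0,0,0],[0,0,0,0,0,0,0,0,0,0,0,0,0,0,0,0,0,0,0,0,0,0,0,0,0,1,1,0,0,0,0,0,0,0,0,0,0,0,0,0,0,0,0,0,0,0,0,0],[0,0,0,0,0,0,0,0,0,0,0,0,0,0,0,0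,0,0,0,0,0,0,0,0,0,1,0,0,0,0,0,0,0,0,0,0,0,0,0,0,0,0,0,0,0,0,0,0],[0,0,0,0,0,0,0,0,0,0,0,0,0,0,0,0,0,0,0,0,0,0,0,0,0,0,0,1,0,0,0,0,0,0,0,0,0,0,0,0,0,0,0,0,0,0,0,0],[0,0,0,0,0,0,0,0,0,0,0,0,0,0,0,0,0,0,0,0,0,0,0,0,0,0,0,0,1,1,0,0,0,0,0,0,0,0,0,0,0,0,0,0,0,0,0,0],[0,0,0,0,0,0,0,0,0,0,0,0,0,0,0,0,0,0,0,0,0,0,0,0,0,0,0,0,1,0,0,0,0,0,0,0,0,0,0,0,0,0,0,0,0,0,0,0],[0,0,0,0,0,0,0,0,0,0,0,0,0,0,0,0,0,0,0,0,0,0,0,0,0,0,0,0,0,0,1,0,0,0,0,0,0,0,0,0,0,0,0,0,0,0,0,0],[0,0,0,0,0,0,0,0,0,0,0,0,0,0,0,0,0,0,0,0,0,0,0,0,0,0,0,0,0,0,0,1,1,0,0,0,0,0,0,0,0,0,0,0,0,0,0,0],[0,0,0,0,0,0,0,0,0,0,0,0,0,0,0,0,0,0,0,0,0,0,0,0,0,0,0,0,0,0,0,1,0,0,0,0,0,0,0,0,0,0,0,0,0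,0,0,0],[0,0,0,0,0,0,0,0,0,0,0,0,0,0,0,0,0,0,0,0,0,0,0,0,0,0,0,0,0,0,0,0,0,1,0,0,0,0,0,0,0,0,0,0,0,0,0,0],[0,0,0,0,0,0,0,0,0,0,0,0,0,0,0,0,0,0,0,0,0,0,0,0,0,0,0,0,0,0,0,0,0,0,1,1,0,0,0,0,0,0,0,0,0,0,0,0],[0,0,0,0,0,0,0,0,0,0,0,0,0,0,0,0,0,0,0,0,0,0,0,0,0,0,0,0,0,0,0,0,0,0,1,0,0,0,0,0,0,0,0,0,0,0,0,0],[0,0,0,0,0,0,0,0,0,0,0,0,0,0,0,0,0,0,0,0,0,0,0,0,0,0,0,0,0,0,0,0,0,0,0,0,1,0,0,0,0,0,0,0,0,0,0,0],[0,0,0,0,0,0,0,0,0,0,0,0,0,0,0,0,0,0,0,0,0,0,0,0,0,0,0,0,0,0,0,0,0,0,0,0,0,1,1,0,0,0,0,0,0,0,0,0],[0,0,0,0,0,0,0,0,0,0,0,0,0,0,0,0,0,0,0,0,0,0,0,0,0,0,0,0,0,0,0,0,0,0,0,0,0,1,0,0,0,0,0,0,0,0,0,0],[0,0,0,0,0,0,0,0,0,0,0,0,0,0,0,0,0,0,0,0,0,0,0,0,0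,0,0,0,0,0,0,0,0,0,0,0,0,0,0,1,0,0,0,0,0,0,0,0],[0,0,0,0,0,0,0,0,0,0,0,0,0,0,0,0,0,0,0,0,0,0,0,0,0,0,0,0,0,0,0,0,0,0,0,0,0,0,0,0,1,1,0,0,0,0,0,0],[0,0,0,0,0,0,0,0,0,0,0,0,0,0,0,0,0,0,0,0,0,0,0,0,0,0,0,0,0,0,0,0,0,0,0,0,0,0,0,0,1,0,0,0,0,0,0,0],[0,0,0,0,0,0,0,0,0,0,0,0,0,0,0,0,0,0,0,0,0,0,0,0,0,0,0,0,0,0,0,0,0,0,0,0,0,0,0,0,0,0,1,0,0,0,0,0],[0,0,0,0,0,0,0,0,0,0,0,0,0,0,0,0,0,0,0,0,0,0,0,0,0,0,0,0,0,0,0,0,0,0,0,0,0,0,0,0,0,0,0,1,1,0,0,0],[0,0,0,0,0,0,0,0,0,0,0,0,0,0,0,0,0,0,0,0,0,0,0,0,0,0,0,0,0,0,0,0,0,0,0,0,0,0,0,0,0,0,0,1,0,0,0,0],[0,0,0,0,0,0,0,0,0,0,0,0,0,0,0,0,0,0,0,0,0,0,0,0,0,0,0,0,0,0,0,0,0,0,0,0,0,0,0,0,0,0,0,0,0,1,0,0],[0,0,0,0,0,0,0,0,0,0,0,0,0,0,0,0,0,0,0,0,0,0,0,0,0,0,0,0,0,0,0,0,0,0,0,0,0,0,0,0,0,0,0,0,0,0,1,1],[0,0,0,0,0,0,0,0,0,0,0,0,0,0,0,0,0,0,0,0,0,0,0,0,0,0,0,0,0,0,0,0,0,0,0,0,0,0,0,0,0,0,0,0,0,0,1,0]],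
  [[1,1,0,1,0,1,1,1,1,0,1,0,0,0,1,1,1,1,1,0,0,0,1,1,0,1,0,1,1,0,0,0,1,1,1,1,0,1,1,0,0,1,1,0,1,1,0,0],[0,0,1,1,1,1,1,0,0,0,1,1,1,0,1,1,0,0,0,1,0,1,1,0,0,1,1,0,0,1,1,0,1,1,0,0,1,1,0,1,0,1,1,1,1,0,1,0],[1,0,0,0,1,1,1,1,0,1,0,1,0,1,0,1,1,0,0,0,1,1,1,1,1,0,1,1,0,0,0,1,0,1,1,0,1,1,1,0,1,0,0,1,1,0,0,1],[0,0,1,0,1,1,1,1,0,0,1,1,1,0,1,1,1,0,0,0,1,1,1,0,0,1,1,1,0,0,0,1,0,1,0,0,1,1,0,0,1,0,0,1,1,0,1,0],[1,0,1,1,1,0,0,0,1,1,1,0,1,1,1,0,0,1,1,0,1,0,0,1,1,1,0,0,1,0,0,1,1,0,1,0,0,0,1,0,1,1,1,1,0,0,1,1],[0,1,0,1,1,1,1,0,0,1,1,1,0,1,1,1,0,0,0,1,0,1,0,0,1,1,1,0,0,1,1,0,1,0,0,1,1,0,0,1,0,1,1,1,1,1,0,1],[1,1,1,0,1,1,1,0,1,0,0,0,1,0,0,1,1,0,1,1,1,0,0,0,0,0,1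,1,0,0,1,1,0,0,0,0,1,0,1,0,1,0,0,0,1,0,0,0],[1,0,0,1,1,0,1,1,1,0,0,0,0,1,0,0,0,1,1,0,0,0,0,0,1,0,1,0,1,0,0,0,1,0,0,0,1,1,1,0,1,1,1,0,1,0,0,0],[1,1,0,1,1,1,0,1,1,0,0,0,0,0,1,1,0,0,1,1,0,0,0,0,0,1,0,0,0,1,1,0,0,0,0,0,0,1,1,1,0,1,0,1,0,0,0,0],[1,0,1,1,1,1,0,1,0,1,0,0,1,1,1,1,0,0,0,1,1,0,1,0,1,1,0,0,0,1,1,1,1,1,0,1,0,0,1,1,0,1,1,0,0,1,1,1],[1,1,1,1,0,0,0,1,1,0,1,0,1,0,0,0,1,0,1,1,0,0,1,1,0,0,1,1,0,1,1,0,0,1,1,1,1,0,1,1,1,1,0,1,0,1,0,0],[0,1,1,1,1,0,1,0,1,0,0,1,1,1,0,0,0,1,1,1,1,1,0,1,1,0,0,0,1,0,1,1,0,0,1,1,0,1,0,0,1,1,0,0,1,1,1,0],[1,0,0,0,1,1,1,1,0,1,0,1,1,1,1,0,1,0,0,1,1,0,0,1,1,1,0,1,0,1,1,1,1,0,1,0,1,1,1,0,1,0,0,1,1,0,0,1],[0,1,0,1,1,0,0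,0,1,1,1,1,1,0,0,0,1,1,1,1,0,1,0,1,0,0,1,1,1,1,1,0,0,0,1,1,1,0,0,0,1,1,1,1,0,1,0,1],[0,0,1,1,1,1,1,0,0,0,1,1,1,1,0,1,0,1,1,1,1,0,1,0,1,0,0,0,1,1,1,1,0,1,0,1,1,1,0,1,0,1,1,1,1,0,1,0],[0,1,0,1,1,1,1,0,0,1,1,1,1,0,0,1,0,1,1,1,1,1,0,1,0,0,1,0,1,1,1,1,0,0,1,1,1,0,0,1,0,1,1,1,1,1,0,1],[0,1,1,1,0,0,0,1,0,1,0,0,0,1,0,1,1,1,1,0,0,1,1,1,1,0,1,1,1,0,0,0,1,1,1,0,0,1,0,1,1,1,1,0,0,1,1,1],[1,0,1,1,1,0,0,0,1,1,1,0,0,0,1,0,1,1,1,1,0,0,1,1,0,1,0,1,1,1,1,0,0,1,1,1,0,0,1,0,1,1,1,1,0,0,1,1],[1,1,0,1,1,1,0,1,1,0,0,0,0,1,1,1,0,1,0,1,0,0,0,0,1,1,1,0,1,1,1,0,1,0,0,0,0,1,1,1,0,1,0,1,0,0,0,0],[0,0,1,1,0,0,1,1,0,0,0,0,1,1,0,1,1,1,0,1,1,0,0,0,1,0,0,1,1,0,1,1,1,0,0,0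,1,1,0,1,1,1,0,1,1,0,0,0],[1,0,0,1,1,0,1,1,1,0,0,0,1,1,1,0,1,1,1,0,1,0,0,0,1,1,0,1,1,1,0,1,1,0,0,0,1,1,1,0,1,1,1,0,1,0,0,0],[0,1,1,1,1,0,1,0,1,0,0,1,0,1,0,0,1,1,0,0,1,1,1,0,1,0,1,1,1,1,0,1,0,1,0,0,0,1,0,0,1,1,0,0,1,1,1,0],[1,1,0,0,0,1,1,1,1,1,0,1,0,1,1,1,1,0,1,0,1,0,0,1,1,1,1,1,0,0,0,1,1,0,1,0,0,1,1,1,1,0,1,0,1,0,0,1],[1,1,1,1,0,0,0,1,1,0,1,0,1,0,1,1,1,1,0,1,0,1,0,0,0,1,1,1,1,0,1,0,1,0,0,1,1,0,1,1,1,1,0,1,0,1,0,0],[0,1,0,1,1,0,0,0,1,1,1,1,1,1,1,0,1,0,0,1,1,0,0,1,0,0,1,1,1,1,1,0,0,0,1,1,0,0,0,0,0,0,0,0,0,0,0,0],[0,1,1,0,0,1,1,0,1,1,0,0,1,0,0,0,1,1,1,1,0,1,0,1,1,0,1,1,0,0,0,1,0,1,1,0,0,0,0,0,0,0,0,0,0,0,0,0],[1,0,1,1,0,0,0,1,0,1,1,0,1,1,0,1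,0,1,1,1,1,0,1,0,0,1,0,1,1,0,0,0,1,1,1,1,0,0,0,0,0,0,0,0,0,0,0,0],[0,1,1,1,0,0,0,1,0,1,0,0,1,0,0,1,0,1,1,1,1,1,0,1,1,0,1,1,1,0,0,0,1,1,1,0,0,0,0,0,0,0,0,0,0,0,0,0],[1,1,0,0,1,0,0,1,1,0,1,0,0,1,0,1,1,1,1,0,0,1,1,1,1,1,1,0,0,1,1,0,1,0,0,1,0,0,0,0,0,0,0,0,0,0,0,0],[1,1,1,0,0,1,1,0,1,0,0,1,0,0,1,0,1,1,1,1,0,0,1,1,0,1,1,1,0,0,0,1,0,1,0,0,0,0,0,0,0,0,0,0,0,0,0,0],[0,0,1,1,0,0,1,1,0,0,0,0,0,1,1,1,0,1,0,1,0,0,0,0,1,0,0,1,1,0,1,1,1,0,0,0,0,0,0,0,0,0,0,0,0,0,0,0],[1,0,1,0,1,0,0,0,1,0,0,0,1,1,0,1,1,1,0,1,1,0,0,0,0,1,0,0,0,1,1,0,0,0,0,0,0,0,0,0,0,0,0,0,0,0,0,0],[0,1,0,0,0,1,1,0,0,0,0,0,1,1,1,0,1,1,1,0,1,0,0,0,0,0,1,1,0,0,1,1,0,0,0,0,0,0,0,0,0,0,0,0,0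,0,0,0],[1,1,0,0,0,1,1,1,1,1,0,1,0,1,0,0,1,1,0,0,1,1,1,0,1,1,1,1,0,0,0,1,1,0,1,0,0,0,0,0,0,0,0,0,0,0,0,0],[0,0,1,1,0,1,1,0,0,1,1,1,0,1,1,1,1,0,1,0,1,0,0,1,1,0,0,0,1,0,1,1,0,0,1,1,0,0,0,0,0,0,0,0,0,0,0,0],[1,0,0,0,1,0,1,1,0,0,1,1,1,0,1,1,1,1,0,1,0,1,0,0,1,1,0,0,0,1,1,1,1,1,0,1,0,0,0,0,0,0,0,0,0,0,0,0],[0,0,1,1,1,1,1,0,0,0,1,1,0,1,0,1,1,0,0,0,1,1,1,1,0,1,1,0,0,1,1,0,1,1,0,0,1,0,1,1,0,0,0,1,0,1,1,0],[1,0,1,1,0,0,0,1,0,1,1,0,0,1,1,0,0,1,1,0,1,1,0,0,1,1,0,1,0,1,1,1,1,0,1,0,1,1,1,0,1,0,0,1,1,0,0,1],[0,1,0,1,1,0,0,0,1,1,1,1,1,0,1,1,0,0,0,1,0,1,1,0,1,1,1,0,1,0,0,1,1,0,0,1,0,1,1,0,0,1,1,0,1,1,0,0],[1,0,1,1,1,0,0,0,1,1,1,0,0,1,1,1,0,0,0,1,0,1,0,0,1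,1,0,0,1,0,0,1,1,0,1,0,1,1,1,0,0,1,1,0,1,0,0,1],[1,1,1,0,0,1,1,0,1,0,0,1,1,1,0,0,1,0,0,1,1,0,1,0,0,0,1,0,1,1,1,1,0,0,1,1,1,0,0,1,0,1,1,1,1,1,0,1],[0,1,1,1,0,0,0,1,0,1,0,0,1,1,1,0,0,1,1,0,1,0,0,1,1,0,0,1,0,1,1,1,1,1,0,1,1,1,0,0,1,0,0,1,1,0,1,0],[1,0,0,1,1,0,1,1,1,0,0,0,0,0,1,1,0,0,1,1,0,0,0,0,1,0,1,0,1,0,0,0,1,0,0,0,0,1,0,0,0,1,1,0,0,0,0,0],[0,1,0,0,0,1,1,0,0,0,0,0,1,0,1,0,1,0,0,0,1,0,0,0,1,1,1,0,1,1,1,0,1,0,0,0,0,1,1,1,0,1,0,1,0,0,0,0],[0,0,1,1,0,0,1,1,0,0,0,0,0,1,0,0,0,1,1,0,0,0,0,0,0,1,1,1,0,1,0,1,0,0,0,0,1,0,1,0,1,0,0,0,1,0,0,0],[1,1,1,1,0,0,0,1,1,0,1,0,1,1,0,0,0,1,1,1,1,1,0,1,0,0,1,1,0,1,1,0,0,1,1,1,1,0,0,0,1,0,1,1,0,0,1,1],[1,0,0,0,1,0,1,1,0,0,1,1,0,0,1,1,0,1,1,0,0,1,1,1,1,0,1,1,1,1,0,1,0,1,0,0,0,1,0,0,1,1,0,0,1,1,1,0],[1,1,0,0,0,1,1,1,1,1,0,1,1,0,0,0,1,0,1,1,0,0,1,1,0,1,0,0,1,1,0,0,1,1,1,0,0,0,1,1,0,1,1,0,0,1,1,1]],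
  [[0,0,1,1,1,1,0,1,0,0,1,0,0,1,0,0,1,1,1,0,1,1,1,0,1,1,0,0,1,1,0,1,1,0,0,1,1,1,0,0,0,0,0,0,0,0,0,0],[1,0,1,1,0,0,0,1,1,0,1,1,0,1,1,1,1,0,1,1,1,0,0,1,0,0,1,1,1,0,1,1,0,1,0,1,0,0,1,0,0,0,0,0,0,0,0,0],[0,1,0,1,1,0,1,0,1,1,0,1,1,0,1,1,1,1,0,1,1,1,0,0,1,0,0,1,1,1,1,1,1,0,1,0,1,0,0,0,0,0,0,0,0,0,0,0],[0,0,1,0,1,0,1,0,0,0,1,0,0,1,1,1,0,0,1,0,0,0,0,0,1,0,1,0,1,1,0,1,0,1,0,0,0,0,0,1,1,0,0,0,0,0,0,0],[1,0,1,0,1,1,0,1,0,0,1,1,1,1,0,0,1,0,0,1,0,0,0,0,1,1,1,1,1,0,0,1,1,0,1,0,0,0,0,0,0,1,0,0,0,0,0,0],[0,1,0,1,0,1,0,0,1,1,0,1,1,1,1,0,0,1,0,0,1,0,0,0,0,1,1,1,1,1,1,0,1,0,0,1,0,0,0,1,0,0,0,0,0,0,0,0],[0,0,1,0,1,1,0,0,0,1,1,1,1,0,1,0,0,1,1,1,1,1,0,1,1,1,1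,1,0,1,1,0,1,0,1,0,0,0,0,0,0,0,1,1,0,0,0,0],[1,0,1,1,1,0,0,0,0,1,0,0,1,1,1,1,0,1,1,0,0,1,1,1,1,0,0,1,1,1,1,1,1,0,1,1,0,0,0,0,0,0,0,0,1,0,0,0],[0,1,0,1,1,1,0,0,0,1,1,0,0,1,1,0,1,0,1,1,0,0,1,1,1,1,0,0,1,1,0,1,1,1,0,1,0,0,0,0,0,0,1,0,0,0,0,0],[0,0,0,0,0,1,0,0,1,0,1,1,1,1,0,1,0,1,1,1,1,1,0,0,0,0,1,1,1,1,1,1,1,1,1,1,0,0,0,0,0,0,0,0,0,1,1,0],[0,0,0,1,0,1,1,0,1,1,1,0,0,0,1,1,1,1,1,0,0,0,1,0,1,0,1,1,0,0,1,0,0,1,0,0,0,0,0,0,0,0,0,0,0,0,0,1],[0,0,0,0,1,0,0,1,0,1,1,1,1,0,0,0,1,1,1,1,0,0,0,1,0,1,0,1,1,0,1,1,0,1,1,0,0,0,0,0,0,0,0,0,0,1,0,0],[0,1,1,1,1,1,0,0,1,1,0,1,0,0,0,0,0,1,1,0,1,0,1,1,1,0,1,0,1,0,1,1,0,0,0,0,1,1,1,0,1,0,1,0,0,0,0,1],[1,1,0,1,0,0,1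,0,1,1,1,1,0,0,0,1,0,1,1,1,1,1,1,0,1,1,1,0,1,1,0,0,1,0,0,0,1,0,0,0,1,1,0,1,0,1,0,1],[1,1,1,1,1,0,0,1,0,0,1,1,0,0,0,0,1,0,0,1,1,1,1,1,0,1,1,1,0,1,1,0,0,0,0,0,1,1,0,1,0,1,0,0,1,0,1,0],[1,0,1,0,1,1,0,1,1,1,0,1,1,1,1,0,1,0,1,1,0,0,1,0,1,0,1,0,1,1,0,0,0,1,1,0,1,1,1,1,0,1,0,1,0,0,1,1],[1,1,1,1,1,0,1,1,0,1,1,1,1,0,0,0,1,1,0,0,1,0,1,1,1,1,1,1,1,0,0,0,0,0,0,1,1,0,0,1,1,1,0,1,1,1,1,0],[0,1,1,1,1,1,1,1,1,0,1,1,1,1,0,1,0,1,1,0,0,1,0,1,0,1,1,1,1,1,0,0,0,1,0,0,1,1,0,0,1,1,1,0,1,1,1,1],[1,0,0,1,1,1,0,1,0,0,1,0,1,1,0,1,1,0,1,1,0,0,0,0,0,0,0,0,0,0,0,1,1,0,1,0,1,1,1,1,0,1,0,1,1,0,1,1],[0,1,0,1,0,0,0,1,1,0,1,1,0,0,1,0,0,1,0,0,1,0,0,0,0,0,0,0,0,0,1,1,0,0,1,1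,1,0,0,1,1,1,1,1,0,1,1,0],[0,0,1,1,1,0,1,0,1,1,0,1,1,0,0,1,0,0,1,0,0,0,0,0,0,0,0,0,0,0,1,1,1,1,0,1,1,1,0,0,1,1,1,1,1,1,1,1],[1,0,1,1,0,0,1,1,0,1,1,0,0,0,1,1,1,0,1,0,1,0,1,1,0,0,0,0,0,0,1,0,1,1,0,1,0,0,1,1,1,1,1,0,1,1,1,0],[1,1,1,0,1,0,0,0,1,0,0,1,1,0,1,0,0,1,1,1,1,1,1,0,0,0,0,0,0,0,1,1,1,1,1,1,1,0,1,1,0,0,1,1,1,0,0,1],[0,1,1,0,0,1,1,0,0,1,0,0,0,1,0,1,0,0,0,1,1,1,1,1,0,0,0,0,0,0,0,1,1,0,1,1,0,1,0,1,1,0,0,1,1,1,0,0],[0,0,1,0,1,1,0,0,1,0,0,0,1,0,0,0,0,0,0,0,0,0,0,0,1,1,1,0,0,0,0,1,0,0,1,1,1,0,0,1,0,1,0,0,0,1,1,0],[1,0,1,1,1,0,1,0,1,0,0,0,0,1,0,0,0,0,0,0,0,0,0,0,1,0,0,0,0,0,0,1,1,1,1,0,0,1,0,1,1,1,0,0,0,0,0,1],[0,1,0,1,1,1,0,1,0,0,0,0,0,0,1,0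,0,0,0,0,0,0,0,0,1,1,0,0,0,0,1,0,1,1,1,1,0,0,1,0,1,1,0,0,0,1,0,0],[1,1,1,0,0,0,0,0,0,0,0,1,0,0,0,1,0,0,0,0,0,0,0,0,1,0,1,0,1,0,1,1,0,1,0,1,1,1,1,1,1,1,1,0,0,1,0,1],[1,0,0,0,0,0,0,0,0,1,0,1,0,0,0,0,1,0,0,0,0,0,0,0,1,1,1,0,1,1,0,0,1,1,1,1,1,0,0,1,0,0,0,1,0,1,1,1],[1,1,0,0,0,0,0,0,0,0,1,0,0,0,0,0,0,1,0,0,0,0,0,0,0,1,1,1,0,1,1,0,0,0,1,1,1,1,0,1,1,0,0,0,1,0,1,1],[0,0,0,0,0,0,0,0,0,0,1,1,0,0,0,0,0,0,1,0,0,0,0,0,1,1,0,1,1,0,1,1,0,0,0,1,1,0,1,0,0,1,1,0,0,0,1,1],[0,0,0,0,0,0,0,0,0,1,1,0,0,0,0,0,0,0,0,1,0,0,0,0,0,0,1,0,0,1,0,0,1,1,0,1,1,1,1,1,0,1,0,1,0,1,1,0],[0,0,0,0,0,0,0,0,0,1,1,1,0,0,0,0,0,0,0,0,1,0,0,0,1,0,0,1,0,0,1,0,0,0,1,0,0,1,1,0,1,0,0,0,1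,1,1,1],[0,0,0,0,0,0,1,1,1,0,0,1,0,0,0,0,0,0,0,0,0,1,0,0,0,0,1,1,1,0,1,1,1,1,0,0,1,1,0,1,0,1,0,1,1,0,1,0],[0,0,0,0,0,0,1,0,0,1,0,1,0,0,0,0,0,0,0,0,0,0,1,0,1,0,1,0,0,1,1,0,0,0,1,0,0,0,1,1,1,1,1,1,0,0,1,1],[0,0,0,0,0,0,1,1,0,0,1,0,0,0,0,0,0,0,0,0,0,0,0,1,0,1,0,1,0,0,1,1,0,0,0,1,1,0,0,0,1,1,1,1,1,1,0,1],[1,1,0,1,1,0,1,0,1,0,0,0,0,0,1,0,1,1,0,0,1,0,0,0,1,1,0,0,1,0,1,0,1,1,0,1,1,1,1,1,1,1,0,1,0,0,1,0],[0,0,1,0,0,1,1,1,1,0,0,0,1,0,1,1,1,0,1,0,1,0,0,0,0,0,1,0,1,1,1,1,1,1,1,1,1,0,0,1,0,0,0,1,1,0,1,1],[1,0,0,1,0,0,0,1,1,0,0,0,0,1,0,1,1,1,0,1,0,0,0,0,1,0,0,1,0,1,0,1,1,0,1,1,1,1,0,1,1,0,1,0,1,1,0,1],[1,0,0,0,1,1,0,0,0,1,0,1,1,1,1,0,0,0,0,0,0,0,0,1,1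,1,0,0,1,0,0,1,1,0,0,1,0,0,1,1,0,0,1,0,0,0,1,0],[0,1,0,1,1,0,0,0,0,1,1,1,1,0,0,0,0,0,0,0,0,1,0,1,0,0,1,0,1,1,1,1,0,1,0,1,1,0,1,0,1,0,0,1,0,0,1,1],[0,0,1,1,1,1,0,0,0,0,1,1,1,1,0,0,0,0,0,0,0,0,1,0,1,0,0,1,0,1,1,1,1,0,1,0,0,1,0,0,0,1,0,0,1,1,0,1],[0,0,0,0,0,0,0,1,1,1,1,0,0,0,0,0,0,0,0,0,0,0,1,1,1,0,0,1,1,1,0,1,1,1,1,1,0,0,1,0,1,1,1,1,0,1,1,1],[0,0,0,0,0,0,1,1,0,0,0,1,0,0,0,0,0,0,0,0,0,1,1,0,0,1,0,1,0,0,1,1,0,1,0,0,1,0,1,1,1,0,0,0,1,1,0,0],[0,0,0,0,0,0,1,1,1,1,0,0,0,0,0,0,0,0,0,0,0,1,1,1,0,0,1,1,1,0,1,1,1,1,1,0,0,1,0,1,1,1,1,0,0,1,1,0],[0,0,0,0,0,0,1,0,0,1,1,0,0,0,0,0,0,0,1,1,1,0,0,1,1,0,1,1,0,0,1,0,1,0,1,1,0,0,0,0,0,1,0,0,1,1,0,1],[0,0,0,0,0,0,0,1,0,0,0,1,0,0,0,0,0,0,1,0,0,1,0,1,1,1,1,0,1,0,1,1,1,1,1,0,0,0,0,1,0,1,1,0,1,1,1,1],[0,0,0,0,0,0,0,0,1,1,0,0,0,0,0,0,0,0,1,1,0,0,1,0,0,1,1,0,0,1,0,1,1,1,1,1,0,0,0,0,1,0,0,1,0,0,1,1]],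
  [[0,1,0,1,0,1,1,1,1,0,1,0,0,0,1,1,1,1,1,0,0,0,1,1,0,1,0,1,1,0,0,0,1,1,1,1,0,1,1,0,0,1,1,0,1,1,0,0],[0,1,1,1,1,1,1,0,0,0,1,1,1,0,1,1,0,0,0,1,0,1,1,0,0,1,1,0,0,1,1,0,1,1,0,0,1,1,0,1,0,1,1,1,1,0,1,0],[1,0,1,0,1,1,1,1,0,1,0,1,0,1,0,1,1,0,0,0,1,1,1,1,1,0,1,1,0,0,0,1,0,1,1,0,1,1,1,0,1,0,0,1,1,0,0,1],[0,0,1,1,1,1,1,1,0,0,1,1,1,0,1,1,1,0,0,0,1,1,1,0,0,1,1,1,0,0,0,1,0,1,0,0,1,1,0,0,1,0,0,1,1,0,1,0],[1,0,1,1,0,0,0,0,1,1,1,0,1,1,1,0,0,1,1,0,1,0,0,1,1,1,0,0,1,0,0,1,1,0,1,0,0,0,1,0,1,1,1,1,0,0,1,1],[0,1,0,1,1,0,1,0,0,1,1,1,0,1,1,1,0,0,0,1,0,1,0,0,1,1,1,0,0,1,1,0,1,0,0,1,1,0,0,1,0,1,1,1,1,1,0,1],[1,1,1,0,1,1,0,0,1,0,0,0,1,0,0,1,1,0,1,1,1,0,0,0,0,0,1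,1,0,0,1,1,0,0,0,0,1,0,1,0,1,0,0,0,1,0,0,0],[1,0,0,1,1,0,1,0,1,0,0,0,0,1,0,0,0,1,1,0,0,0,0,0,1,0,1,0,1,0,0,0,1,0,0,0,1,1,1,0,1,1,1,0,1,0,0,0],[1,1,0,1,1,1,0,1,0,0,0,0,0,0,1,1,0,0,1,1,0,0,0,0,0,1,0,0,0,1,1,0,0,0,0,0,0,1,1,1,0,1,0,1,0,0,0,0],[1,0,1,1,1,1,0,1,0,0,0,0,1,1,1,1,0,0,0,1,1,0,1,0,1,1,0,0,0,1,1,1,1,1,0,1,0,0,1,1,0,1,1,0,0,1,1,1],[1,1,1,1,0,0,0,1,1,0,0,0,1,0,0,0,1,0,1,1,0,0,1,1,0,0,1,1,0,1,1,0,0,1,1,1,1,0,1,1,1,1,0,1,0,1,0,0],[0,1,1,1,1,0,1,0,1,0,0,0,1,1,0,0,0,1,1,1,1,1,0,1,1,0,0,0,1,0,1,1,0,0,1,1,0,1,0,0,1,1,0,0,1,1,1,0],[1,0,0,0,1,1,1,1,0,1,0,1,0,1,1,0,1,0,0,1,1,0,0,1,1,1,0,1,0,1,1,1,1,0,1,0,1,1,1,0,1,0,0,1,1,0,0,1],[0,1,0,1,1,0,0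,0,1,1,1,1,1,1,0,0,1,1,1,1,0,1,0,1,0,0,1,1,1,1,1,0,0,0,1,1,1,0,0,0,1,1,1,1,0,1,0,1],[0,0,1,1,1,1,1,0,0,0,1,1,1,1,1,1,0,1,1,1,1,0,1,0,1,0,0,0,1,1,1,1,0,1,0,1,1,1,0,1,0,1,1,1,1,0,1,0],[0,1,0,1,1,1,1,0,0,1,1,1,1,0,0,0,0,1,1,1,1,1,0,1,0,0,1,0,1,1,1,1,0,0,1,1,1,0,0,1,0,1,1,1,1,1,0,1],[0,1,1,1,0,0,0,1,0,1,0,0,0,1,0,1,0,1,1,0,0,1,1,1,1,0,1,1,1,0,0,0,1,1,1,0,0,1,0,1,1,1,1,0,0,1,1,1],[1,0,1,1,1,0,0,0,1,1,1,0,0,0,1,0,1,0,1,1,0,0,1,1,0,1,0,1,1,1,1,0,0,1,1,1,0,0,1,0,1,1,1,1,0,0,1,1],[1,1,0,1,1,1,0,1,1,0,0,0,0,1,1,1,0,1,1,1,0,0,0,0,1,1,1,0,1,1,1,0,1,0,0,0,0,1,1,1,0,1,0,1,0,0,0,0],[0,0,1,1,0,0,1,1,0,0,0,0,1,1,0,1,1,1,0,0,1,0,0,0,1,0,0,1,1,0,1,1,1,0,0,0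,1,1,0,1,1,1,0,1,1,0,0,0],[1,0,0,1,1,0,1,1,1,0,0,0,1,1,1,0,1,1,1,0,0,0,0,0,1,1,0,1,1,1,0,1,1,0,0,0,1,1,1,0,1,1,1,0,1,0,0,0],[0,1,1,1,1,0,1,0,1,0,0,1,0,1,0,0,1,1,0,0,1,0,1,0,1,0,1,1,1,1,0,1,0,1,0,0,0,1,0,0,1,1,0,0,1,1,1,0],[1,1,0,0,0,1,1,1,1,1,0,1,0,1,1,1,1,0,1,0,1,0,1,1,1,1,1,1,0,0,0,1,1,0,1,0,0,1,1,1,1,0,1,0,1,0,0,1],[1,1,1,1,0,0,0,1,1,0,1,0,1,0,1,1,1,1,0,1,0,1,0,1,0,1,1,1,1,0,1,0,1,0,0,1,1,0,1,1,1,1,0,1,0,1,0,0],[0,1,0,1,1,0,0,0,1,1,1,1,1,1,1,0,1,0,0,1,1,0,0,1,1,0,1,1,1,1,1,0,0,0,1,1,0,0,0,0,0,0,0,0,0,0,0,0],[0,1,1,0,0,1,1,0,1,1,0,0,1,0,0,0,1,1,1,1,0,1,0,1,1,1,1,1,0,0,0,1,0,1,1,0,0,0,0,0,0,0,0,0,0,0,0,0],[1,0,1,1,0,0,0,1,0,1,1,0,1,1,0,1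,0,1,1,1,1,0,1,0,0,1,1,1,1,0,0,0,1,1,1,1,0,0,0,0,0,0,0,0,0,0,0,0],[0,1,1,1,0,0,0,1,0,1,0,0,1,0,0,1,0,1,1,1,1,1,0,1,1,0,1,0,1,0,0,0,1,1,1,0,0,0,0,0,0,0,0,0,0,0,0,0],[1,1,0,0,1,0,0,1,1,0,1,0,0,1,0,1,1,1,1,0,0,1,1,1,1,1,1,0,1,1,1,0,1,0,0,1,0,0,0,0,0,0,0,0,0,0,0,0],[1,1,1,0,0,1,1,0,1,0,0,1,0,0,1,0,1,1,1,1,0,0,1,1,0,1,1,1,0,1,0,1,0,1,0,0,0,0,0,0,0,0,0,0,0,0,0,0],[0,0,1,1,0,0,1,1,0,0,0,0,0,1,1,1,0,1,0,1,0,0,0,0,1,0,0,1,1,0,0,1,1,0,0,0,0,0,0,0,0,0,0,0,0,0,0,0],[1,0,1,0,1,0,0,0,1,0,0,0,1,1,0,1,1,1,0,1,1,0,0,0,0,1,0,0,0,1,1,1,0,0,0,0,0,0,0,0,0,0,0,0,0,0,0,0],[0,1,0,0,0,1,1,0,0,0,0,0,1,1,1,0,1,1,1,0,1,0,0,0,0,0,1,1,0,0,1,1,1,0,0,0,0,0,0,0,0,0,0,0,0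,0,0,0],[1,1,0,0,0,1,1,1,1,1,0,1,0,1,0,0,1,1,0,0,1,1,1,0,1,1,1,1,0,0,0,1,1,1,1,0,0,0,0,0,0,0,0,0,0,0,0,0],[0,0,1,1,0,1,1,0,0,1,1,1,0,1,1,1,1,0,1,0,1,0,0,1,1,0,0,0,1,0,1,1,0,0,0,1,0,0,0,0,0,0,0,0,0,0,0,0],[1,0,0,0,1,0,1,1,0,0,1,1,1,0,1,1,1,1,0,1,0,1,0,0,1,1,0,0,0,1,1,1,1,1,0,0,0,0,0,0,0,0,0,0,0,0,0,0],[0,0,1,1,1,1,1,0,0,0,1,1,0,1,0,1,1,0,0,0,1,1,1,1,0,1,1,0,0,1,1,0,1,1,0,0,0,0,1,1,0,0,0,1,0,1,1,0],[1,0,1,1,0,0,0,1,0,1,1,0,0,1,1,0,0,1,1,0,1,1,0,0,1,1,0,1,0,1,1,1,1,0,1,0,1,0,1,0,1,0,0,1,1,0,0,1],[0,1,0,1,1,0,0,0,1,1,1,1,1,0,1,1,0,0,0,1,0,1,1,0,1,1,1,0,1,0,0,1,1,0,0,1,0,1,0,0,0,1,1,0,1,1,0,0],[1,0,1,1,1,0,0,0,1,1,1,0,0,1,1,1,0,0,0,1,0,1,0,0,1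,1,0,0,1,0,0,1,1,0,1,0,1,1,1,1,0,1,1,0,1,0,0,1],[1,1,1,0,0,1,1,0,1,0,0,1,1,1,0,0,1,0,0,1,1,0,1,0,0,0,1,0,1,1,1,1,0,0,1,1,1,0,0,1,1,1,1,1,1,1,0,1],[0,1,1,1,0,0,0,1,0,1,0,0,1,1,1,0,0,1,1,0,1,0,0,1,1,0,0,1,0,1,1,1,1,1,0,1,1,1,0,0,1,1,0,1,1,0,1,0],[1,0,0,1,1,0,1,1,1,0,0,0,0,0,1,1,0,0,1,1,0,0,0,0,1,0,1,0,1,0,0,0,1,0,0,0,0,1,0,0,0,1,0,0,0,0,0,0],[0,1,0,0,0,1,1,0,0,0,0,0,1,0,1,0,1,0,0,0,1,0,0,0,1,1,1,0,1,1,1,0,1,0,0,0,0,1,1,1,0,1,0,0,0,0,0,0],[0,0,1,1,0,0,1,1,0,0,0,0,0,1,0,0,0,1,1,0,0,0,0,0,0,1,1,1,0,1,0,1,0,0,0,0,1,0,1,0,1,0,0,0,0,0,0,0],[1,1,1,1,0,0,0,1,1,0,1,0,1,1,0,0,0,1,1,1,1,1,0,1,0,0,1,1,0,1,1,0,0,1,1,1,1,0,0,0,1,0,1,1,0,1,1,1],[1,0,0,0,1,0,1,1,0,0,1,1,0,0,1,1,0,1,1,0,0,1,1,1,1,0,1,1,1,1,0,1,0,1,0,0,0,1,0,0,1,1,0,0,1,1,0,0],[1,1,0,0,0,1,1,1,1,1,0,1,1,0,0,0,1,0,1,1,0,0,1,1,0,1,0,0,1,1,0,0,1,1,1,0,0,0,1,1,0,1,1,0,0,1,1,0]],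
  [[0,0,0,0,0,0,0,0,0,0,0,0,0,0,0,0,0,0,0,0,0,0,0,0,0,0,0,0,0,0,0,0,0,0,0,0,0,0,0,0,0,0,0,0,0,0,0,0],[1,0,0,0,0,0,0,0,0,0,0,0,0,0,0,0,0,0,0,0,0,0,0,0,0,0,0,0,0,0,0,0,0,0,0,0,0,0,0,0,0,0,0,0,0,0,0,0],[0,0,0,0,0,0,0,0,0,0,0,0,0,0,0,0,0,0,0,0,0,0,0,0,0,0,0,0,0,0,0,0,0,0,0,0,0,0,0,0,0,0,0,0,0,0,0,0],[1,0,0,0,0,0,0,0,0,0,0,0,0,0,0,0,0,0,0,0,0,0,0,0,0,0,0,0,0,0,0,0,0,0,0,0,0,0,0,0,0,0,0,0,0,0,0,0],[0,0,0,0,0,0,0,0,0,0,0,0,0,0,0,0,0,0,0,0,0,0,0,0,0,0,0,0,0,0,0,0,0,0,0,0,0,0,0,0,0,0,0,0,0,0,0,0],[0,0,0,0,0,0,0,0,0,0,0,0,0,0,0,0,0,0,0,0,0,0,0,0,0,0,0,0,0,0,0,0,0,0,0,0,0,0,0,0,0,0,0,0,0,0,0,0],[1,0,0,0,0,0,0,0,0,0,0,0,0,0,0,0,0,0,0,0,0,0,0,0,0,0,0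,0,0,0,0,0,0,0,0,0,0,0,0,0,0,0,0,0,0,0,0,0],[0,0,0,0,0,0,0,0,0,0,0,0,0,0,0,0,0,0,0,0,0,0,0,0,0,0,0,0,0,0,0,0,0,0,0,0,0,0,0,0,0,0,0,0,0,0,0,0],[1,0,0,0,0,0,0,0,0,0,0,0,0,0,0,0,0,0,0,0,0,0,0,0,0,0,0,0,0,0,0,0,0,0,0,0,0,0,0,0,0,0,0,0,0,0,0,0],[1,0,0,0,0,0,0,0,0,0,0,0,0,0,0,0,0,0,0,0,0,0,0,0,0,0,0,0,0,0,0,0,0,0,0,0,0,0,0,0,0,0,0,0,0,0,0,0],[0,0,0,0,0,0,0,0,0,0,0,0,0,0,0,0,0,0,0,0,0,0,0,0,0,0,0,0,0,0,0,0,0,0,0,0,0,0,0,0,0,0,0,0,0,0,0,0],[1,0,0,0,0,0,0,0,0,0,0,0,0,0,0,0,0,0,0,0,0,0,0,0,0,0,0,0,0,0,0,0,0,0,0,0,0,0,0,0,0,0,0,0,0,0,0,0],[1,0,0,0,0,0,0,0,0,0,0,0,0,0,0,0,0,0,0,0,0,0,0,0,0,0,0,0,0,0,0,0,0,0,0,0,0,0,0,0,0,0,0,0,0,0,0,0],[1,0,0,0,0,0,0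,0,0,0,0,0,0,0,0,0,0,0,0,0,0,0,0,0,0,0,0,0,0,0,0,0,0,0,0,0,0,0,0,0,0,0,0,0,0,0,0,0],[0,0,0,0,0,0,0,0,0,0,0,0,0,0,0,0,0,0,0,0,0,0,0,0,0,0,0,0,0,0,0,0,0,0,0,0,0,0,0,0,0,0,0,0,0,0,0,0],[1,0,0,0,0,0,0,0,0,0,0,0,0,0,0,0,0,0,0,0,0,0,0,0,0,0,0,0,0,0,0,0,0,0,0,0,0,0,0,0,0,0,0,0,0,0,0,0],[1,0,0,0,0,0,0,0,0,0,0,0,0,0,0,0,0,0,0,0,0,0,0,0,0,0,0,0,0,0,0,0,0,0,0,0,0,0,0,0,0,0,0,0,0,0,0,0],[0,0,0,0,0,0,0,0,0,0,0,0,0,0,0,0,0,0,0,0,0,0,0,0,0,0,0,0,0,0,0,0,0,0,0,0,0,0,0,0,0,0,0,0,0,0,0,0],[1,0,0,0,0,0,0,0,0,0,0,0,0,0,0,0,0,0,0,0,0,0,0,0,0,0,0,0,0,0,0,0,0,0,0,0,0,0,0,0,0,0,0,0,0,0,0,0],[1,0,0,0,0,0,0,0,0,0,0,0,0,0,0,0,0,0,0,0,0,0,0,0,0,0,0,0,0,0,0,0,0,0,0,0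,0,0,0,0,0,0,0,0,0,0,0,0],[0,0,0,0,0,0,0,0,0,0,0,0,0,0,0,0,0,0,0,0,0,0,0,0,0,0,0,0,0,0,0,0,0,0,0,0,0,0,0,0,0,0,0,0,0,0,0,0],[0,0,0,0,0,0,0,0,0,0,0,0,0,0,0,0,0,0,0,0,0,0,0,0,0,0,0,0,0,0,0,0,0,0,0,0,0,0,0,0,0,0,0,0,0,0,0,0],[1,0,0,0,0,0,0,0,0,0,0,0,0,0,0,0,0,0,0,0,0,0,0,0,0,0,0,0,0,0,0,0,0,0,0,0,0,0,0,0,0,0,0,0,0,0,0,0],[0,0,0,0,0,0,0,0,0,0,0,0,0,0,0,0,0,0,0,0,0,0,0,0,0,0,0,0,0,0,0,0,0,0,0,0,0,0,0,0,0,0,0,0,0,0,0,0],[1,0,0,0,0,0,0,0,0,0,0,0,0,0,0,0,0,0,0,0,0,0,0,0,0,0,0,0,0,0,0,0,0,0,0,0,0,0,0,0,0,0,0,0,0,0,0,0],[1,0,0,0,0,0,0,0,0,0,0,0,0,0,0,0,0,0,0,0,0,0,0,0,0,0,0,0,0,0,0,0,0,0,0,0,0,0,0,0,0,0,0,0,0,0,0,0],[0,0,0,0,0,0,0,0,0,0,0,0,0,0,0,0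,0,0,0,0,0,0,0,0,0,0,0,0,0,0,0,0,0,0,0,0,0,0,0,0,0,0,0,0,0,0,0,0],[1,0,0,0,0,0,0,0,0,0,0,0,0,0,0,0,0,0,0,0,0,0,0,0,0,0,0,0,0,0,0,0,0,0,0,0,0,0,0,0,0,0,0,0,0,0,0,0],[1,0,0,0,0,0,0,0,0,0,0,0,0,0,0,0,0,0,0,0,0,0,0,0,0,0,0,0,0,0,0,0,0,0,0,0,0,0,0,0,0,0,0,0,0,0,0,0],[1,0,0,0,0,0,0,0,0,0,0,0,0,0,0,0,0,0,0,0,0,0,0,0,0,0,0,0,0,0,0,0,0,0,0,0,0,0,0,0,0,0,0,0,0,0,0,0],[1,0,0,0,0,0,0,0,0,0,0,0,0,0,0,0,0,0,0,0,0,0,0,0,0,0,0,0,0,0,0,0,0,0,0,0,0,0,0,0,0,0,0,0,0,0,0,0],[1,0,0,0,0,0,0,0,0,0,0,0,0,0,0,0,0,0,0,0,0,0,0,0,0,0,0,0,0,0,0,0,0,0,0,0,0,0,0,0,0,0,0,0,0,0,0,0],[1,0,0,0,0,0,0,0,0,0,0,0,0,0,0,0,0,0,0,0,0,0,0,0,0,0,0,0,0,0,0,0,0,0,0,0,0,0,0,0,0,0,0,0,0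,0,0,0],[0,0,0,0,0,0,0,0,0,0,0,0,0,0,0,0,0,0,0,0,0,0,0,0,0,0,0,0,0,0,0,0,0,0,0,0,0,0,0,0,0,0,0,0,0,0,0,0],[1,0,0,0,0,0,0,0,0,0,0,0,0,0,0,0,0,0,0,0,0,0,0,0,0,0,0,0,0,0,0,0,0,0,0,0,0,0,0,0,0,0,0,0,0,0,0,0],[0,0,0,0,0,0,0,0,0,0,0,0,0,0,0,0,0,0,0,0,0,0,0,0,0,0,0,0,0,0,0,0,0,0,0,0,0,0,0,0,0,0,0,0,0,0,0,0],[1,0,0,0,0,0,0,0,0,0,0,0,0,0,0,0,0,0,0,0,0,0,0,0,0,0,0,0,0,0,0,0,0,0,0,0,0,0,0,0,0,0,0,0,0,0,0,0],[0,0,0,0,0,0,0,0,0,0,0,0,0,0,0,0,0,0,0,0,0,0,0,0,0,0,0,0,0,0,0,0,0,0,0,0,0,0,0,0,0,0,0,0,0,0,0,0],[0,0,0,0,0,0,0,0,0,0,0,0,0,0,0,0,0,0,0,0,0,0,0,0,0,0,0,0,0,0,0,0,0,0,0,0,0,0,0,0,0,0,0,0,0,0,0,0],[0,0,0,0,0,0,0,0,0,0,0,0,0,0,0,0,0,0,0,0,0,0,0,0,0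,0,0,0,0,0,0,0,0,0,0,0,0,0,0,0,0,0,0,0,0,0,0,0],[0,0,0,0,0,0,0,0,0,0,0,0,0,0,0,0,0,0,0,0,0,0,0,0,0,0,0,0,0,0,0,0,0,0,0,0,0,0,0,0,0,0,0,0,0,0,0,0],[0,0,0,0,0,0,0,0,0,0,0,0,0,0,0,0,0,0,0,0,0,0,0,0,0,0,0,0,0,0,0,0,0,0,0,0,0,0,0,0,0,0,0,0,0,0,0,0],[0,0,0,0,0,0,0,0,0,0,0,0,0,0,0,0,0,0,0,0,0,0,0,0,0,0,0,0,0,0,0,0,0,0,0,0,0,0,0,0,0,0,0,0,0,0,0,0],[0,0,0,0,0,0,0,0,0,0,0,0,0,0,0,0,0,0,0,0,0,0,0,0,0,0,0,0,0,0,0,0,0,0,0,0,0,0,0,0,0,0,0,0,0,0,0,0],[0,0,0,0,0,0,0,0,0,0,0,0,0,0,0,0,0,0,0,0,0,0,0,0,0,0,0,0,0,0,0,0,0,0,0,0,0,0,0,0,0,0,0,0,0,0,0,0],[0,0,0,0,0,0,0,0,0,0,0,0,0,0,0,0,0,0,0,0,0,0,0,0,0,0,0,0,0,0,0,0,0,0,0,0,0,0,0,0,0,0,0,0,0,0,0,0],[0,0,0,0,0,0,0,0,0,0,0,0,0,0,0,0,0,0,0,0,0,0,0,0,0,0,0,0,0,0,0,0,0,0,0,0,0,0,0,0,0,0,0,0,0,0,0,0],[0,0,0,0,0,0,0,0,0,0,0,0,0,0,0,0,0,0,0,0,0,0,0,0,0,0,0,0,0,0,0,0,0,0,0,0,0,0,0,0,0,0,0,0,0,0,0,0]],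
  [[0,0,0,0,0,0,0,0,0,0,0,0,0,0,0,0,0,0,0,0,0,0,0,0,0,0,0,0,0,0,0,0,0,0,0,0,0,0,0,0,0,0,0,0,0,0,0,0],[0,0,0,0,0,0,0,0,0,0,0,0,0,0,0,0,0,0,0,0,0,0,0,0,0,0,0,0,0,0,0,0,0,0,0,0,0,0,0,0,0,0,0,0,0,0,0,0],[1,0,0,0,0,0,0,0,0,0,0,0,0,0,0,0,0,0,0,0,0,0,0,0,0,0,0,0,0,0,0,0,0,0,0,0,0,0,0,0,0,0,0,0,0,0,0,0],[0,0,0,0,0,0,0,0,0,0,0,0,0,0,0,0,0,0,0,0,0,0,0,0,0,0,0,0,0,0,0,0,0,0,0,0,0,0,0,0,0,0,0,0,0,0,0,0],[1,0,0,0,0,0,0,0,0,0,0,0,0,0,0,0,0,0,0,0,0,0,0,0,0,0,0,0,0,0,0,0,0,0,0,0,0,0,0,0,0,0,0,0,0,0,0,0],[1,0,0,0,0,0,0,0,0,0,0,0,0,0,0,0,0,0,0,0,0,0,0,0,0,0,0,0,0,0,0,0,0,0,0,0,0,0,0,0,0,0,0,0,0,0,0,0],[0,0,0,0,0,0,0,0,0,0,0,0,0,0,0,0,0,0,0,0,0,0,0,0,0,0,0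,0,0,0,0,0,0,0,0,0,0,0,0,0,0,0,0,0,0,0,0,0],[1,0,0,0,0,0,0,0,0,0,0,0,0,0,0,0,0,0,0,0,0,0,0,0,0,0,0,0,0,0,0,0,0,0,0,0,0,0,0,0,0,0,0,0,0,0,0,0],[1,0,0,0,0,0,0,0,0,0,0,0,0,0,0,0,0,0,0,0,0,0,0,0,0,0,0,0,0,0,0,0,0,0,0,0,0,0,0,0,0,0,0,0,0,0,0,0],[0,0,0,0,0,0,0,0,0,0,0,0,0,0,0,0,0,0,0,0,0,0,0,0,0,0,0,0,0,0,0,0,0,0,0,0,0,0,0,0,0,0,0,0,0,0,0,0],[0,0,0,0,0,0,0,0,0,0,0,0,0,0,0,0,0,0,0,0,0,0,0,0,0,0,0,0,0,0,0,0,0,0,0,0,0,0,0,0,0,0,0,0,0,0,0,0],[1,0,0,0,0,0,0,0,0,0,0,0,0,0,0,0,0,0,0,0,0,0,0,0,0,0,0,0,0,0,0,0,0,0,0,0,0,0,0,0,0,0,0,0,0,0,0,0],[1,0,0,0,0,0,0,0,0,0,0,0,0,0,0,0,0,0,0,0,0,0,0,0,0,0,0,0,0,0,0,0,0,0,0,0,0,0,0,0,0,0,0,0,0,0,0,0],[1,0,0,0,0,0,0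,0,0,0,0,0,0,0,0,0,0,0,0,0,0,0,0,0,0,0,0,0,0,0,0,0,0,0,0,0,0,0,0,0,0,0,0,0,0,0,0,0],[1,0,0,0,0,0,0,0,0,0,0,0,0,0,0,0,0,0,0,0,0,0,0,0,0,0,0,0,0,0,0,0,0,0,0,0,0,0,0,0,0,0,0,0,0,0,0,0],[0,0,0,0,0,0,0,0,0,0,0,0,0,0,0,0,0,0,0,0,0,0,0,0,0,0,0,0,0,0,0,0,0,0,0,0,0,0,0,0,0,0,0,0,0,0,0,0],[1,0,0,0,0,0,0,0,0,0,0,0,0,0,0,0,0,0,0,0,0,0,0,0,0,0,0,0,0,0,0,0,0,0,0,0,0,0,0,0,0,0,0,0,0,0,0,0],[1,0,0,0,0,0,0,0,0,0,0,0,0,0,0,0,0,0,0,0,0,0,0,0,0,0,0,0,0,0,0,0,0,0,0,0,0,0,0,0,0,0,0,0,0,0,0,0],[1,0,0,0,0,0,0,0,0,0,0,0,0,0,0,0,0,0,0,0,0,0,0,0,0,0,0,0,0,0,0,0,0,0,0,0,0,0,0,0,0,0,0,0,0,0,0,0],[0,0,0,0,0,0,0,0,0,0,0,0,0,0,0,0,0,0,0,0,0,0,0,0,0,0,0,0,0,0,0,0,0,0,0,0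,0,0,0,0,0,0,0,0,0,0,0,0],[1,0,0,0,0,0,0,0,0,0,0,0,0,0,0,0,0,0,0,0,0,0,0,0,0,0,0,0,0,0,0,0,0,0,0,0,0,0,0,0,0,0,0,0,0,0,0,0],[1,0,0,0,0,0,0,0,0,0,0,0,0,0,0,0,0,0,0,0,0,0,0,0,0,0,0,0,0,0,0,0,0,0,0,0,0,0,0,0,0,0,0,0,0,0,0,0],[0,0,0,0,0,0,0,0,0,0,0,0,0,0,0,0,0,0,0,0,0,0,0,0,0,0,0,0,0,0,0,0,0,0,0,0,0,0,0,0,0,0,0,0,0,0,0,0],[0,0,0,0,0,0,0,0,0,0,0,0,0,0,0,0,0,0,0,0,0,0,0,0,0,0,0,0,0,0,0,0,0,0,0,0,0,0,0,0,0,0,0,0,0,0,0,0],[0,0,0,0,0,0,0,0,0,0,0,0,0,0,0,0,0,0,0,0,0,0,0,0,0,0,0,0,0,0,0,0,0,0,0,0,0,0,0,0,0,0,0,0,0,0,0,0],[1,0,0,0,0,0,0,0,0,0,0,0,0,0,0,0,0,0,0,0,0,0,0,0,0,0,0,0,0,0,0,0,0,0,0,0,0,0,0,0,0,0,0,0,0,0,0,0],[1,0,0,0,0,0,0,0,0,0,0,0,0,0,0,0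,0,0,0,0,0,0,0,0,0,0,0,0,0,0,0,0,0,0,0,0,0,0,0,0,0,0,0,0,0,0,0,0],[0,0,0,0,0,0,0,0,0,0,0,0,0,0,0,0,0,0,0,0,0,0,0,0,0,0,0,0,0,0,0,0,0,0,0,0,0,0,0,0,0,0,0,0,0,0,0,0],[0,0,0,0,0,0,0,0,0,0,0,0,0,0,0,0,0,0,0,0,0,0,0,0,0,0,0,0,0,0,0,0,0,0,0,0,0,0,0,0,0,0,0,0,0,0,0,0],[1,0,0,0,0,0,0,0,0,0,0,0,0,0,0,0,0,0,0,0,0,0,0,0,0,0,0,0,0,0,0,0,0,0,0,0,0,0,0,0,0,0,0,0,0,0,0,0],[1,0,0,0,0,0,0,0,0,0,0,0,0,0,0,0,0,0,0,0,0,0,0,0,0,0,0,0,0,0,0,0,0,0,0,0,0,0,0,0,0,0,0,0,0,0,0,0],[1,0,0,0,0,0,0,0,0,0,0,0,0,0,0,0,0,0,0,0,0,0,0,0,0,0,0,0,0,0,0,0,0,0,0,0,0,0,0,0,0,0,0,0,0,0,0,0],[0,0,0,0,0,0,0,0,0,0,0,0,0,0,0,0,0,0,0,0,0,0,0,0,0,0,0,0,0,0,0,0,0,0,0,0,0,0,0,0,0,0,0,0,0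,0,0,0],[1,0,0,0,0,0,0,0,0,0,0,0,0,0,0,0,0,0,0,0,0,0,0,0,0,0,0,0,0,0,0,0,0,0,0,0,0,0,0,0,0,0,0,0,0,0,0,0],[1,0,0,0,0,0,0,0,0,0,0,0,0,0,0,0,0,0,0,0,0,0,0,0,0,0,0,0,0,0,0,0,0,0,0,0,0,0,0,0,0,0,0,0,0,0,0,0],[0,0,0,0,0,0,0,0,0,0,0,0,0,0,0,0,0,0,0,0,0,0,0,0,0,0,0,0,0,0,0,0,0,0,0,0,0,0,0,0,0,0,0,0,0,0,0,0],[0,0,0,0,0,0,0,0,0,0,0,0,0,0,0,0,0,0,0,0,0,0,0,0,0,0,0,0,0,0,0,0,0,0,0,0,0,0,0,0,0,0,0,0,0,0,0,0],[1,0,0,0,0,0,0,0,0,0,0,0,0,0,0,0,0,0,0,0,0,0,0,0,0,0,0,0,0,0,0,0,0,0,0,0,0,0,0,0,0,0,0,0,0,0,0,0],[1,0,0,0,0,0,0,0,0,0,0,0,0,0,0,0,0,0,0,0,0,0,0,0,0,0,0,0,0,0,0,0,0,0,0,0,0,0,0,0,0,0,0,0,0,0,0,0],[0,0,0,0,0,0,0,0,0,0,0,0,0,0,0,0,0,0,0,0,0,0,0,0,0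,0,0,0,0,0,0,0,0,0,0,0,0,0,0,0,0,0,0,0,0,0,0,0],[1,0,0,0,0,0,0,0,0,0,0,0,0,0,0,0,0,0,0,0,0,0,0,0,0,0,0,0,0,0,0,0,0,0,0,0,0,0,0,0,0,0,0,0,0,0,0,0],[0,0,0,0,0,0,0,0,0,0,0,0,0,0,0,0,0,0,0,0,0,0,0,0,0,0,0,0,0,0,0,0,0,0,0,0,0,0,0,0,0,0,0,0,0,0,0,0],[1,0,0,0,0,0,0,0,0,0,0,0,0,0,0,0,0,0,0,0,0,0,0,0,0,0,0,0,0,0,0,0,0,0,0,0,0,0,0,0,0,0,0,0,0,0,0,0],[0,0,0,0,0,0,0,0,0,0,0,0,0,0,0,0,0,0,0,0,0,0,0,0,0,0,0,0,0,0,0,0,0,0,0,0,0,0,0,0,0,0,0,0,0,0,0,0],[0,0,0,0,0,0,0,0,0,0,0,0,0,0,0,0,0,0,0,0,0,0,0,0,0,0,0,0,0,0,0,0,0,0,0,0,0,0,0,0,0,0,0,0,0,0,0,0],[0,0,0,0,0,0,0,0,0,0,0,0,0,0,0,0,0,0,0,0,0,0,0,0,0,0,0,0,0,0,0,0,0,0,0,0,0,0,0,0,0,0,0,0,0,0,0,0],[0,0,0,0,0,0,0,0,0,0,0,0,0,0,0,0,0,0,0,0,0,0,0,0,0,0,0,0,0,0,0,0,0,0,0,0,0,0,0,0,0,0,0,0,0,0,0,0],[0,0,0,0,0,0,0,0,0,0,0,0,0,0,0,0,0,0,0,0,0,0,0,0,0,0,0,0,0,0,0,0,0,0,0,0,0,0,0,0,0,0,0,0,0,0,0,0]]]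
theorem hM : (arP 2).mOk 48 Ms = true := by decide +kernel
theorem pg (N : Nat) : ∃ (H : Type) (_ : Group H) (_ : Finite H), N < Nat.card H ∧
      (∀ p : ℕ, p.Prime → (p ∣ Nat.card H ↔ p ∈ [2, 3, 5, 7, 13])) ∧ ∀ p q : ℕ, p.Prime → q.Prime → p ≠ q →
        ((∃ x : H, orderOf x = p * q) ↔ p * q ∈ [6, 10, 14, 15]) := by
  have K : (arP 2).Ok (Nat.cast : Nat → ZMod 2) := arP_ok 2 (by norm_num)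
  have I := ixFin 48
  have := M0.fin
  obtain ⟨ρ, mo⟩ := M0.mrep pr (M0.sat sb0) K I hM (by decide +kernel) (by decide +kernel)
  obtain ⟨H, i1, i2, h1, h2, h3⟩ := pg_big (G := G0) Nat.prime_two (Mo.ex ρ 2) N
  have hc : Nat.card G0 ∣ [2, 3, 5, 7, 13].prod ^ 9 := by rw [M0.card]; norm_num
  refine ⟨H, i1, i2, h1, fun p hp => ?_, fun p q hp hq n => (h3 p q hp hq n).trans ⟨?_, fun h => ?_⟩⟩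
  · rw [h2 p hp, primes63 hp hc (by rw [M0.card]; norm_num)]
    exact or_iff_right_of_imp (by rintro rfl; simp)
  · rintro (⟨x, h⟩ | ⟨x, h4, h⟩)
    · refine edge63 hc (fun x d => ?_) (fun x d => ?_) hp hq n x h
      · obtain ⟨m, h5, h6⟩ := k7.use (by norm_num) d
        have := d.trans h6
        exact h6.trans (by clear h6; revert m; decide)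
      · obtain ⟨m, h5, h6⟩ := k13.use (by norm_num) d
        have := d.trans h6
        exact h6.trans (by clear h6; revert m; decide)
    have h5 : (orderOf x).Prime ∧ orderOf x ≠ 2 := by
      rcases (Nat.prime_two.dvd_mul.1 (h ▸ Nat.dvd_mul_left 2 _)).imp (Nat.prime_dvd_prime_iff_eq Nat.prime_two hp).1
        (Nat.prime_dvd_prime_iff_eq Nat.prime_two hq).1 with rfl | rfl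
      · exact (show orderOf x = q by omega) ▸ ⟨hq, n.symm⟩
      · exact (show orderOf x = p by omega) ▸ ⟨hp, n⟩
    have h6 := prime_mem h5.1 (by norm_num) ((orderOf_dvd_natCard x).trans hc)
    have h7 : orderOf x ≠ 13 := fun e =>
      fpf_cyc (by norm_num) (by rw [M0.card]; norm_num) (M0.ordN _ (by decide +kernel)) (K.fpf I hM mo [0,0,0] 6 7 8 (by decide +kernel)) e h4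
    rw [← h]
    exact (show ∀ o ∈ [2, 3, 5, 7, 13], o ≠ 2 → o ≠ 13 → o * 2 ∈ [6, 10, 14, 15] by decide) _ h6 h5.2 h7
  simp only [List.mem_cons, List.not_mem_nil, or_false] at h
  rcases h with h | h | h | h <;> rw [h]
  · exact .inl ⟨_, M0.ordN [0,2,2,4,0,2,2,4] (by decide +kernel)⟩
  · exact .inr ⟨_, K.fx I hM mo [3,0,0,2,5,1,4] 9 1 0 (by decide +kernel), by rw [M0.ordN (m := 5) _ (by decide +kernel)]⟩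
  · exact .inr ⟨_, K.fx I hM mo [2,5,0,2,4,3] 10 2 0 (by decide +kernel), by rw [M0.ordN (m := 7) _ (by decide +kernel)]⟩
  · exact .inl ⟨_, M0.ordN [1,3,1,4,3,3,4,4,4] (by decide +kernel)⟩

end CfsgH7.Sz83.Sp

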